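import Cfsg.Agent.H425.KFix_m3
import Cfsg.Agent.KFacts.RgdLieCharP
import Cfsg.Agent.H72.WG
import Cfsg.Agent.H163.PG.PslAut
import Cfsg.Agent.H376.CocAlt_m3
import Cfsg.Agent.H160.QFinal
import Cfsg.Agent.H375.CovTwo.Main
import Cfsg.Agent.H353.IFO.Idx
import Cfsg.Agent.Lib.Zsigmondy
import Cfsg.Agent.LieClassical.SympCount
import Mathlib
import Cfsg.Agent.H375.Odd.Inst
import Cfsg.Agent.ClassicalGeometry.OrthSemi
import Cfsg.Agent.ClassicalGeometry.OrthDickson
import Cfsg.Agent.LieClassical.SpFourTwo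
import Cfsg.Agent.S0288
import Cfsg.Agent.H373.Recog
import Cfsg.Agent.ClassicalGeometry.SympGamma
import Cfsg.Agent.ClassicalGeometry.SympAutExists
import Cfsg.Agent.ClassicalGeometry.SympAutOddA
import Cfsg.Agent.FastGrp
import Cfsg.Agent.Prune
set_option linter.all false

section
prune_inst 0x7fbfa8f8bbbb2bffdfff7e7fa69ccdfdbbb8bfffe4dff9437fe069ff0bdf0b128945238d09e030fe0e96621400a87b43fffffeffe26bd87ffffd1ff45ffbee0ff5f7bd08519488340f340ff703f0778a7f3fffffffffffffffffffffffffffbeffbfffffffff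

-- part: H228/MovAdj2
section
set_option linter.all false
open scoped Cfsg.Agent.FastGrp

-- part: H228/MovAdj
section
/-!
# Adjacency with the characteristic gives moved subgroups (helper228)

`mov_of_adj` : `S` simple of Lie type of characteristic `v` with an element of order `v w`, `w ≠ v` a prime: an element
of order `w` of `S` normalizes a `v`-subgroup without centralizing it (Borel–Tits).
-/

set_option autoImplicit false

namespace Cfsg.Agent.H228.MovAdj

open Subgroup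
open Cfsg.Agent.H425.KStep Cfsg.Agent.KFacts.RgdFilt Cfsg.Agent.KFacts.RgdLieCharP

theorem mov_of_filt {S : Type*} [Group S] [Finite S] [IsSimpleGroup S] {v w : ℕ} [Fact v.Prime] (hS : HasFilt v S)
    (hc : ∃ a b : S, a * b ≠ b * a) (hw : w.Prime) (hwv : w ≠ v) (hx : ∃ g : S, orderOf g = w * v) : Mov S v w := by
  have hv : v.Prime := Fact.out
  obtain ⟨g, hg⟩ := hx
  have hz : orderOf (g ^ w) = v := by
    rw [orderOf_pow_of_dvd hw.ne_zero ⟨v, hg⟩, hg, Nat.mul_div_cancel_left _ hw.pos]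
  have hy : orderOf (g ^ v) = w := by
    rw [orderOf_pow_of_dvd hv.ne_zero ⟨w, by rw [hg, mul_comm]⟩, hg, Nat.mul_div_cancel _ hv.pos]
  have hK : IsPGroup v (zpowers (g ^ w)) := by
    refine IsPGroup.of_card (n := 1) ?_
    rw [Nat.card_zpowers, hz, pow_one]
  have hK1 : zpowers (g ^ w) ≠ ⊥ := by
    rw [Ne, zpowers_eq_bot]
    intro h
    rw [h, orderOf_one] at hz
    exact hv.one_lt.ne hz
  obtain ⟨V, P, hV, hKV, hNP, hP, -, hCV⟩ := hS.exists_par hc hK hK1
  have hyN : g ^ v ∈ normalizer (zpowers (g ^ w) : Set S) := by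
    refine (centralizer_le_normalizer _) ?_
    rw [mem_centralizer_iff]
    intro k hk
    obtain ⟨j, rfl⟩ := mem_zpowers_iff.1 hk
    rw [← zpow_natCast, ← zpow_natCast, ← zpow_mul, ← zpow_add, ← zpow_add, add_comm]
  have hyV : g ^ v ∈ normalizer (V : Set S) := hP ▸ hNP hyN
  refine ⟨V, g ^ v, hV, hy, fun a ha => (mem_normalizer_iff.1 hyV a).1 ha, ?_⟩
  by_contra hcon
  push Not at hcon
  have h1 : g ^ v ∈ V := hCV (mem_centralizer_iff.2 fun a ha => (hcon a ha).symm)
  obtain ⟨k, hk⟩ := (IsPGroup.iff_orderOf.1 hV) ⟨_, h1⟩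
  rw [Subgroup.orderOf_mk, hy] at hk
  have h2 : w ∣ v ^ k := hk ▸ dvd_rfl
  exact hwv ((Nat.prime_dvd_prime_iff_eq hw hv).1 (hw.dvd_of_dvd_pow h2))

theorem mov_of_adj {S : Type*} [Group S] [Finite S] [IsSimpleGroup S] {v w : ℕ} [Fact v.Prime] (hS : IsLieFilt v S)
    (hc : ∃ a b : S, a * b ≠ b * a) (hw : w.Prime) (hwv : w ≠ v) (hx : ∃ g : S, orderOf g = w * v) : Mov S v w :=
  mov_of_filt (hasFilt_of_lie hS) hc hw hwv hx

end Cfsg.Agent.H228.MovAdj
end

-- part: H228/MovAdj2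
section
/-!
# Adjacency with the characteristic gives noncyclic subgroups (helper228)

`ncyc_of_adj` : `S` simple of Lie type of characteristic `v` with an element of order `v w`, `w ≠ v` a prime: `S` has
a noncyclic `v`-subgroup (Borel–Tits).
-/

set_option autoImplicit false

namespace Cfsg.Agent.H228.MovAdj

open Subgroup
open Cfsg.Agent.H425.KStep Cfsg.Agent.KFacts.RgdFilt Cfsg.Agent.KFacts.RgdLieCharP

theorem conj_pow' {S : Type*} [Group S] {y a : S} {j : ℕ} (h : y * a * y⁻¹ = a ^ j) (n : ℕ) :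
    y ^ n * a * (y ^ n)⁻¹ = a ^ (j ^ n) := by
  induction n with
  | zero => simp
  | succ n ih =>
    have h1 : y ^ (n + 1) * a * (y ^ (n + 1))⁻¹ = y ^ n * (y * a * y⁻¹) * (y ^ n)⁻¹ := by
      rw [pow_succ]; group
    have h2 : y ^ n * a ^ j * (y ^ n)⁻¹ = (y ^ n * a * (y ^ n)⁻¹) ^ j := by
      rw [← MulAut.conj_apply, ← MulAut.conj_apply, map_pow]
    rw [h1, h, h2, ih, ← pow_mul, pow_succ]

/-- an element of order prime to `v` normalizing a cyclic `v`-group and centralizing a nontrivial element of it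
centralizes it -/
theorem comm_of_cyclic {S : Type*} [Group S] [Finite S] {v w : ℕ} (hv : v.Prime) (hw : w.Prime) (hwv : w ≠ v)
    {V : Subgroup S} (hV : IsPGroup v V) (hc : IsCyclic V) {y z : S} (hy : orderOf y = w)
    (hn : ∀ a ∈ V, y * a * y⁻¹ ∈ V) (hzV : z ∈ V) (hz : orderOf z = v) (hyz : Commute y z) :
    ∀ a ∈ V, y * a = a * y := by
  have := Fact.mk hv
  obtain ⟨⟨g, hgV⟩, hg⟩ := hc.exists_generator
  have hgen : ∀ a ∈ V, ∃ i : ℕ, g ^ i = a := by
    intro a ha
    obtain ⟨i, hi⟩ := (mem_powers_iff_mem_zpowers.2 (hg ⟨a, ha⟩))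
    exact ⟨i, congrArg Subtype.val hi⟩
  obtain ⟨j, hj⟩ := hgen _ (hn g hgV)
  obtain ⟨k, hk⟩ := (IsPGroup.iff_orderOf.1 hV) ⟨g, hgV⟩
  rw [Subgroup.orderOf_mk] at hk
  obtain ⟨i, hi⟩ := hgen z hzV
  -- `j ≡ 1` modulo `v`
  have h1 : z ^ j = z := by
    have h2 : y * z * y⁻¹ = z := by rw [hyz.eq]; group
    have h3 : y * z * y⁻¹ = z ^ j := by
      rw [← hi, ← MulAut.conj_apply, map_pow, MulAut.conj_apply, ← hj, ← pow_mul, ← pow_mul, mul_comm]
    rw [← h3, h2]
  have h4 : (v : ℤ) ∣ (j : ℤ) - 1 := by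
    have h5 : z ^ ((j : ℤ) - 1) = 1 := by rw [zpow_sub, zpow_natCast, zpow_one, h1, mul_inv_cancel]
    rw [← orderOf_dvd_iff_zpow_eq_one, hz] at h5
    exact h5
  have h6 := dvd_sub_pow_of_dvd_sub (R := ℤ) (p := v) (a := (j : ℤ)) (b := 1) h4 k
  have h7 : g ^ (j ^ v ^ k) = g := by
    have h8 : (orderOf g : ℤ) ∣ ((j ^ v ^ k : ℕ) : ℤ) - 1 := by
      rw [hk]
      push_cast
      rw [one_pow] at h6
      exact (pow_dvd_pow _ (Nat.le_succ k)).trans h6
    rw [orderOf_dvd_iff_zpow_eq_one, zpow_sub, zpow_natCast, zpow_one, mul_inv_eq_one] at h8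
    exact h8
  have h9 : Commute (y ^ v ^ k) g := by
    have h10 := conj_pow' hj.symm (v ^ k)
    rw [h7, mul_inv_eq_iff_eq_mul] at h10
    exact h10
  have h11 : Commute y g := by
    have hco : Nat.Coprime (v ^ k) w := Nat.Coprime.pow_left _ ((Nat.coprime_primes hv hw).2 hwv.symm)
    obtain ⟨c, hc⟩ := Nat.exists_mul_mod_eq_one_of_coprime hco hw.one_lt
    have h12 : y ^ (v ^ k * c) = y := by
      have h13 : v ^ k * c ≡ 1 [MOD orderOf y] := by
        rw [hy]
        exact hc.2.trans (Nat.mod_eq_of_lt hw.one_lt).symm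
      have := (pow_eq_pow_iff_modEq (x := y)).2 h13
      rwa [pow_one] at this
    rw [← h12, pow_mul]
    exact h9.pow_left c
  intro a ha
  obtain ⟨n, rfl⟩ := hgen a ha
  exact (h11.pow_right n).eq

theorem ncyc_of_filt {S : Type*} [Group S] [Finite S] [IsSimpleGroup S] {v w : ℕ} [Fact v.Prime] (hS : HasFilt v S)
    (hc : ∃ a b : S, a * b ≠ b * a) (hw : w.Prime) (hwv : w ≠ v) (hx : ∃ g : S, orderOf g = w * v) :
    ∃ V : Subgroup S, IsPGroup v V ∧ ¬ IsCyclic V := by
  have hv : v.Prime := Fact.out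
  obtain ⟨g, hg⟩ := hx
  have hz : orderOf (g ^ w) = v := by
    rw [orderOf_pow_of_dvd hw.ne_zero ⟨v, hg⟩, hg, Nat.mul_div_cancel_left _ hw.pos]
  have hy : orderOf (g ^ v) = w := by
    rw [orderOf_pow_of_dvd hv.ne_zero ⟨w, by rw [hg, mul_comm]⟩, hg, Nat.mul_div_cancel _ hv.pos]
  have hK : IsPGroup v (zpowers (g ^ w)) := by
    refine IsPGroup.of_card (n := 1) ?_
    rw [Nat.card_zpowers, hz, pow_one]
  have hK1 : zpowers (g ^ w) ≠ ⊥ := by
    rw [Ne, zpowers_eq_bot]
    intro h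
    rw [h, orderOf_one] at hz
    exact hv.one_lt.ne hz
  obtain ⟨V, P, hV, hKV, hNP, hP, -, hCV⟩ := hS.exists_par hc hK hK1
  have hyN : g ^ v ∈ normalizer (zpowers (g ^ w) : Set S) := by
    refine (centralizer_le_normalizer _) ?_
    rw [mem_centralizer_iff]
    intro k hk
    obtain ⟨j, rfl⟩ := mem_zpowers_iff.1 hk
    rw [← zpow_natCast, ← zpow_natCast, ← zpow_mul, ← zpow_add, ← zpow_add, add_comm]
  have hyV : g ^ v ∈ normalizer (V : Set S) := hP ▸ hNP hyN
  refine ⟨V, hV, fun hcyc => ?_⟩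
  have hcom := comm_of_cyclic hv hw hwv hV hcyc hy (fun a ha => (mem_normalizer_iff.1 hyV a).1 ha)
    (hKV (mem_zpowers _)) hz (Commute.pow_pow (Commute.refl g) v w)
  have h1 : g ^ v ∈ V := hCV (mem_centralizer_iff.2 fun a ha => (hcom a ha).symm)
  obtain ⟨k, hk⟩ := (IsPGroup.iff_orderOf.1 hV) ⟨_, h1⟩
  rw [Subgroup.orderOf_mk, hy] at hk
  have h2 : w ∣ v ^ k := hk ▸ dvd_rfl
  exact hwv ((Nat.prime_dvd_prime_iff_eq hw hv).1 (hw.dvd_of_dvd_pow h2))

theorem ncyc_of_adj {S : Type*} [Group S] [Finite S] [IsSimpleGroup S] {v w : ℕ} [Fact v.Prime] (hS : IsLieFilt v S)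
    (hc : ∃ a b : S, a * b ≠ b * a) (hw : w.Prime) (hwv : w ≠ v) (hx : ∃ g : S, orderOf g = w * v) :
    ∃ V : Subgroup S, IsPGroup v V ∧ ¬ IsCyclic V :=
  ncyc_of_filt (hasFilt_of_lie hS) hc hw hwv hx

end Cfsg.Agent.H228.MovAdj
end
end

-- part: H228/E3Kill
section
set_option linter.all false
open scoped Cfsg.Agent.FastGrp

-- part: H228/E3Def
section
/-!
# The data of `L` for the elimination of the classical groups `S` of odd characteristic (helper228)

`LDat L` : everything the elimination needs of `L` (`L = Sp_{2n}(q)`, `Ω^±_{2n}(q)`, `q` even), with the exceptions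
`Ω⁻_8(2)`, `Ω⁻_10(2)`, `Ω⁺_10(2)`, for which `LQ2 L A P T` is used.
`H72.WGr.OCoc` : a coclique of odd primes.
-/

set_option autoImplicit false

namespace Cfsg.Agent.H228.E3

open Cfsg.Agent.H72.WGr (OCoc)

/-- a coclique of primes at least five -/
def Coq5 (L : Type*) [Group L] (B : Finset ℕ) : Prop := OCoc L B ∧ ∀ b ∈ B, 5 ≤ b

/-- `A` : a coclique of primes at least five with no elements of order `4 a`, `a ∈ A`;
either `4 ≤ |A|`, or `3 ≤ |A|`, every `r ∈ A` is in a coclique `B` with four members, and the primes of `A` are large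
with respect to the element orders of `L` -/
def LDat (L : Type*) [Group L] : Prop :=
  ∃ A : Finset ℕ, Coq5 L A ∧ (∀ a ∈ A, ¬ ∃ x : L, orderOf x = 4 * a) ∧
    (4 ≤ A.card ∨ (3 ≤ A.card ∧ (∀ r ∈ A, ∃ B, Coq5 L B ∧ r ∈ B ∧ 4 ≤ B.card) ∧
      ∃ M : ℕ, (∀ x : L, orderOf x ≤ M) ∧ ∀ r ∈ A, 4 * M + 4 ≤ 9 ^ r))

/-- the data for `L = Ω⁻_8(2)`: `A = {5, 7, 17}`, `P = {2, 3, 5, 7, 17}`, `T = {17}`;
`L = Ω⁻_10(2)`: `A = {7, 11, 17}`, `P = {2, 3, 5, 7, 11, 17}`, `T = {11, 17}`;
`L = Ω⁺_10(2)`: `A = {7, 17, 31}`, `P = {2, 3, 5, 7, 17, 31}`, `T = {17, 31}` -/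
def LQ2 (L : Type*) [Group L] (A P T : Finset ℕ) : Prop :=
  Coq5 L A ∧ (∀ r : ℕ, r.Prime → r ∣ Nat.card L → r ∈ P) ∧
    (∀ t ∈ T, t ∣ Nat.card L ∧ ¬ ∃ x : L, orderOf x = 2 * t) ∧ ∀ x : L, orderOf x ≤ 1024

end Cfsg.Agent.H228.E3
end

-- part: H228/E3Kill
section
/-!
# The elimination of the classical groups `S` of odd characteristic: the abstract theorem (helper228)

* `RedL G K S` : the light form of `H420.QR.Red`;
* `SDat S v` : what the elimination needs of `S` (of characteristic `v`);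
* `kill` : `RedL G K S`, `ω(G) = ω(L)`, `LDat L`, `SDat S v` : contradiction.
-/

set_option autoImplicit false
set_option linter.unusedSectionVars false

namespace Cfsg.Agent.H228.E3

open Subgroup
open Cfsg.Agent.H72.WGr (OCoc)
open Cfsg.Agent.H425.KStep

universe u v

/-- the light form of `Red` -/
structure RedL (G : Type u) [Group G] (K : Subgroup G) [K.Normal] (S : Subgroup (G ⧸ K)) [S.Normal] : Prop where
  simple : IsSimpleGroup ↥S
  nonab : ¬ IsMulCommutative ↥S
  cent : centralizer (S : Set (G ⧸ K)) = ⊥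
  coc' : ∀ ρ : Finset ℕ, OCoc G ρ → 3 ≤ ρ.card → ∀ r ∈ ρ, ∀ s ∈ ρ, r ∣ Nat.card ↥K * S.index →
    s ∣ Nat.card ↥K * S.index → r = s

/-- the same element orders -/
def SameOrd (G : Type u) (L : Type v) [Group G] [Group L] : Prop :=
  ∀ n : ℕ, (∃ x : G, orderOf x = n) ↔ ∃ y : L, orderOf y = n

/-- what the elimination needs of `S` -/
structure SDat (S : Type u) [Group S] (p : ℕ) : Prop where
  prime : p.Prime
  ne2 : p ≠ 2
  far : ∀ D : Finset ℕ, Coq5 S D → (∀ a ∈ D, ¬ ∃ x : S, orderOf x = 4 * a) → D.card ≤ 2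
  ncyc : ∃ V : Subgroup S, IsPGroup p V ∧ ¬ IsCyclic V
  mov : ∀ D : Finset ℕ, Coq5 S D → 3 ≤ D.card → p ∉ D → ∃ w ∈ D, Mov S p w
  out : ∀ r : ℕ, r.Prime → 5 ≤ r → ¬ r ∣ Nat.card S → r ∣ Nat.card (Cfsg.Out S) →
    ∃ x : S, 9 ^ r < 4 * orderOf x + 4

theorem center_bot {S : Type u} [Group S] [IsSimpleGroup S] (hna : ¬ IsMulCommutative S) : center S = ⊥ := by
  rcases (inferInstance : (center S).Normal).eq_bot_or_eq_top with h | h
  · exact h
  · exfalso
    apply hna
    refine ⟨⟨fun a b => ?_⟩⟩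
    have ha : a ∈ center S := h ▸ mem_top a
    exact ((mem_center_iff.1 ha) b).symm

theorem index_dvd_out {Q : Type u} [Group Q] [Finite Q] {S : Subgroup Q} (hS : S.Normal)
    (hc : centralizer (S : Set Q) = ⊥) (hZ : center S = ⊥) : S.index ∣ Nat.card (Cfsg.Out S) := by
  have h1 : Nat.card Q ∣ Nat.card (MulAut S) := by
    have hinj : Function.Injective (MulAut.conjNormal (H := S)) := by
      rw [← MonoidHom.ker_eq_bot_iff, eq_bot_iff, ← hc]
      intro g hg
      rw [mem_centralizer_iff]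
      intro m hm
      have h1 : MulAut.conjNormal g = (1 : MulAut S) := hg
      have h2 : ((MulAut.conjNormal g) (⟨m, hm⟩ : S) : Q) = m := by rw [h1]; rfl
      rw [MulAut.conjNormal_apply] at h2
      exact (mul_inv_eq_iff_eq_mul.1 h2).symm
    exact Subgroup.card_dvd_of_injective _ hinj
  rw [← Cfsg.Agent.H163.PG.card_out_mul hZ, ← Subgroup.card_mul_index S, mul_comm] at h1
  exact Nat.dvd_of_mul_dvd_mul_right Nat.card_pos h1

variable {G : Type u} [Group G] [Finite G] {K : Subgroup G} [K.Normal] {S : Subgroup (G ⧸ K)} [S.Normal]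

theorem card_eq_mul : Nat.card G = Nat.card ↥S * (Nat.card ↥K * S.index) := by
  rw [Subgroup.card_eq_card_quotient_mul_card_subgroup K, Subgroup.card_eq_card_quotient_mul_card_subgroup S,
    Subgroup.index]
  ring

/-- element orders of a section -/
theorem ord_of_section {n : ℕ} (hx : ∃ x : ↥S, orderOf x = n) : ∃ x : G, orderOf x = n := by
  obtain ⟨x, hx⟩ := hx
  have hn : n ≠ 0 := hx ▸ (orderOf_pos x).ne'
  obtain ⟨y, hy⟩ := QuotientGroup.mk'_surjective K (x : G ⧸ K)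
  have h1 : orderOf ((QuotientGroup.mk' K) y) = n := by rw [hy, Subgroup.orderOf_coe, hx]
  have h2 : n ∣ orderOf y := by rw [← h1]; exact orderOf_map_dvd _ y
  obtain ⟨k, hk⟩ := h2
  have hk0 : k ≠ 0 := by
    rintro rfl
    rw [mul_zero] at hk
    exact (orderOf_pos y).ne' hk
  refine ⟨y ^ k, ?_⟩
  rw [orderOf_pow_of_dvd hk0 ⟨n, by rw [hk, mul_comm]⟩, hk, Nat.mul_div_cancel _ (Nat.pos_of_ne_zero hk0)]

theorem SameOrd.dvd {L : Type v} [Group L] [Finite L] (h : SameOrd G L) {r : ℕ} (hr : r.Prime)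
    (hd : r ∣ Nat.card L) : r ∣ Nat.card G := by
  have := Fact.mk hr
  obtain ⟨x, hx⟩ := exists_prime_orderOf_dvd_card' (G := L) r hd
  obtain ⟨y, hy⟩ := (h r).2 ⟨x, hx⟩
  rw [← hy]
  exact orderOf_dvd_natCard y

theorem Coq5.of_same {L : Type v} [Group L] [Finite L] (h : SameOrd G L) {C : Finset ℕ} (hC : Coq5 L C) : Coq5 G C :=
  ⟨⟨hC.1.prime, fun r hr => h.dvd (hC.1.prime r hr) (hC.1.dvd r hr), hC.1.ne2,
    fun r hr s hs hrs hx => hC.1.nadj r hr s hs hrs ((h _).1 hx)⟩, hC.2⟩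

theorem Coq5.mono {L : Type v} [Group L] {C D : Finset ℕ} (hC : Coq5 L C) (hD : D ⊆ C) : Coq5 L D :=
  ⟨hC.1.mono hD, fun b hb => hC.2 b (hD hb)⟩

/-- the primes of the coclique dividing `|S|` -/
theorem RedL.coqS {C : Finset ℕ} (hC : Coq5 G C) (hd : ∀ r ∈ C, r ∣ Nat.card S) : Coq5 S C :=
  ⟨⟨hC.1.prime, hd, hC.1.ne2, fun r hr s hs hrs hx => hC.1.nadj r hr s hs hrs (ord_of_section hx)⟩, hC.2⟩

/-- a prime of `G` not dividing `|S|` -/
theorem dvd_rest {r : ℕ} (hr : r.Prime) (hG : r ∣ Nat.card G) (hS : ¬ r ∣ Nat.card S) :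
    r ∣ Nat.card ↥K * S.index := by
  rw [card_eq_mul (K := K) (S := S)] at hG
  exact (hr.dvd_mul.1 hG).resolve_left hS

/-- at most one member is missing -/
theorem RedL.filter (R : RedL G K S) {C : Finset ℕ} (hC : Coq5 G C) (h3 : 3 ≤ C.card) :
    Coq5 S (C.filter fun r => r ∣ Nat.card S) ∧ C.card ≤ (C.filter fun r => r ∣ Nat.card S).card + 1 := by
  refine ⟨RedL.coqS (hC.mono (Finset.filter_subset _ _)) (fun r hr => (Finset.mem_filter.1 hr).2), ?_⟩
  have h1 := Finset.card_filter_add_card_filter_not (s := C) (fun r => r ∣ Nat.card S)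
  have h2 : (C.filter fun r => ¬ r ∣ Nat.card S).card ≤ 1 := by
    rw [Finset.card_le_one]
    intro a ha b hb
    rw [Finset.mem_filter] at ha hb
    exact R.coc' C hC.1 h3 a ha.1 b hb.1 (dvd_rest (hC.1.prime a ha.1) (hC.1.dvd a ha.1) ha.2)
      (dvd_rest (hC.1.prime b hb.1) (hC.1.dvd b hb.1) hb.2)
  omega

/-- the missing prime -/
theorem RedL.miss (R : RedL G K S) {C : Finset ℕ} (hC : Coq5 G C) (h3 : 3 ≤ C.card) {r : ℕ} (hr : r ∈ C)
    (hrS : ¬ r ∣ Nat.card S) : Coq5 S (C.erase r) ∧ (∀ w ∈ C.erase r, ¬ w ∣ Nat.card K * S.index) ∧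
      (r ∣ Nat.card K ∨ r ∣ Nat.card (Cfsg.Out S)) := by
  have h1 := dvd_rest (hC.1.prime r hr) (hC.1.dvd r hr) hrS
  have h2 : ∀ w ∈ C.erase r, ¬ w ∣ Nat.card K * S.index := fun w hw hd =>
    Finset.ne_of_mem_erase hw (R.coc' C hC.1 h3 w (Finset.mem_of_mem_erase hw) r hr hd h1)
  refine ⟨RedL.coqS (hC.mono (Finset.erase_subset _ _)) fun w hw => ?_, h2, ?_⟩
  · by_contra hd
    have hwC := Finset.mem_of_mem_erase hw
    exact h2 w hw (dvd_rest (hC.1.prime w hwC) (hC.1.dvd w hwC) hd)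
  · rcases (hC.1.prime r hr).dvd_mul.1 h1 with h | h
    · exact Or.inl h
    · have := R.simple
      exact Or.inr (h.trans (index_dvd_out inferInstance R.cent (center_bot R.nonab)))

/-- the characteristic is adjacent to the primes of the kernel -/
theorem RedL.ncyc {p r : ℕ} (hp : p.Prime) (hp2 : p ≠ 2) (hn : ∃ V : Subgroup S, IsPGroup p V ∧ ¬ IsCyclic V)
    (hr : r.Prime) (hpr : p ≠ r) (hrK : r ∣ Nat.card K) : ∃ g : G, orderOf g = p * r := by
  obtain ⟨V, hV, hc⟩ := hn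
  refine exists_adj K hp hr hpr hp2 hrK (V.map S.subtype) (hV.map _) fun h => hc ?_
  exact isCyclic_of_injective (V.equivMapOfInjective S.subtype S.subtype_injective).toMonoidHom
    (V.equivMapOfInjective S.subtype S.subtype_injective).injective

/-- **A prime of a coclique does not divide `|K|`.** -/
theorem RedL.not_dvd_K (R : RedL G K S) {p : ℕ} (hp : p.Prime) (hp2 : p ≠ 2)
    (hn : ∃ V : Subgroup S, IsPGroup p V ∧ ¬ IsCyclic V)
    (hM : ∀ D : Finset ℕ, Coq5 S D → 3 ≤ D.card → p ∉ D → ∃ w ∈ D, Mov S p w) {B : Finset ℕ} (hB : Coq5 G B)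
    (h4 : 4 ≤ B.card) {r : ℕ} (hr : r ∈ B) (hrS : ¬ r ∣ Nat.card S) (hrK : r ∣ Nat.card K) : False := by
  obtain ⟨h1, h2, -⟩ := R.miss hB (by omega) hr hrS
  have hrp := hB.1.prime r hr
  have hpS : p ∣ Nat.card S := by
    obtain ⟨V, hV, hc⟩ := hn
    have := Fact.mk hp
    obtain ⟨k, hk⟩ := (IsPGroup.iff_card (p := p)).1 hV
    have hk0 : k ≠ 0 := by
      rintro rfl
      apply hc
      rw [pow_zero, Subgroup.card_eq_one] at hk
      rw [hk]
      infer_instance
    exact ((dvd_pow_self p hk0).trans (hk ▸ dvd_rfl)).trans (Subgroup.card_subgroup_dvd_card V)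
  have hpr : p ≠ r := by
    rintro rfl
    exact hrS hpS
  have hpD : p ∉ B.erase r := by
    intro hpD
    exact hB.1.nadj p (Finset.mem_of_mem_erase hpD) r hr hpr (RedL.ncyc hp hp2 hn hrp hpr hrK)
  obtain ⟨w, hw, hMw⟩ := hM (B.erase r) h1 (by rw [Finset.card_erase_of_mem hr]; omega) hpD
  have hwB := Finset.mem_of_mem_erase hw
  have hwr := Finset.ne_of_mem_erase hw
  have := R.simple
  refine mov_false K hp (hB.1.prime w hwB) hrp hp2 (hB.1.ne2 w hwB) hpr ?_ hwr hrK ?_ S hMw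
    (hB.1.nadj w hwB r hr hwr)
  · rintro rfl
    exact hpD hw
  · exact fun h => h2 w hw (h.mul_right _)

/-- **The elimination theorem.** -/
theorem kill (R : RedL G K S) {L : Type v} [Group L] [Finite L] (hω : SameOrd G L) (hL : LDat L) {p : ℕ}
    (hS : SDat S p) : False := by
  obtain ⟨A, hA, h4, hL⟩ := hL
  have hAG := hA.of_same hω
  have h3 : 3 ≤ A.card := by rcases hL with h | ⟨h, -⟩ <;> omega
  obtain ⟨h1, h2⟩ := R.filter hAG h3
  have hfar := hS.far _ h1 (by
    rintro a ha hx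
    exact h4 a (Finset.mem_filter.1 ha).1 ((hω _).1 (ord_of_section hx)))
  rcases hL with hL | ⟨-, hB, M, hM, hbd⟩
  · omega
  obtain ⟨r, hr, hrS⟩ : ∃ r ∈ A, ¬ r ∣ Nat.card S := by
    by_contra hcon
    push Not at hcon
    rw [Finset.filter_true_of_mem hcon] at hfar
    omega
  obtain ⟨-, -, h5⟩ := R.miss hAG h3 hr hrS
  rcases h5 with h5 | h5
  · obtain ⟨B, hB, hrB, hB4⟩ := hB r hr
    exact R.not_dvd_K hS.prime hS.ne2 hS.ncyc hS.mov (hB.of_same hω) hB4 hrB hrS h5
  · obtain ⟨x, hx⟩ := hS.out r (hA.1.prime r hr) (hA.2 r hr) hrS h5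
    obtain ⟨y, hy⟩ := ord_of_section ⟨x, rfl⟩
    obtain ⟨z, hz⟩ := (hω _).1 ⟨y, hy⟩
    have h6 := hM z
    have h7 := hbd r hr
    rw [hz] at h6
    omega

end Cfsg.Agent.H228.E3
end
end

-- part: H228/FourO
section
prune_inst 0x4105400440002000000050002000400700000000008800080000a00070884000d400820a4000002188281040000000000000000420000000a000000011d00a0800002002000a000060009000000400000000000000000000000000000000000000000000
set_option linter.all false
open scoped Cfsg.Agent.FastGrp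

-- part: H228/FourS
section
/-!
# Elements of order `4 r` in the classical groups of odd characteristic (helper228)

`Far4 S C` : the primes of `C` are odd and `S` has no element of order `4 r`, `r ∈ C`.

* `four_psl`, `four_psu`, `four_psp` : elements of order `4 r`;
* `far_psl`, `far_psu`, `far_psp` : a coclique of odd primes `r` without elements of order `4 r` has at most two
  members.
-/

set_option autoImplicit false
set_option linter.unusedSectionVars false

namespace Cfsg.Agent.H228.FourS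

open Matrix Cfsg.Agent.H72 Cfsg.Agent.H72.AdjOrth Cfsg.Agent.H72.AdjCoc Cfsg.Agent.H72.WGr

/-- no elements of order `4 r` for `r` in `C` -/
def Far4 (S : Type*) [Group S] (C : Finset ℕ) : Prop := ∀ r ∈ C, ¬ ∃ x : S, orderOf x = 4 * r

section mat

variable {F : Type*} [Field F]

theorem one_ne_neg_one (h2 : (2 : F) ≠ 0) : (1 : F) ≠ -1 := by
  intro h
  apply h2
  have : (1 : F) + 1 = 0 := by rw [eq_neg_iff_add_eq_zero] at h; exact h
  rw [← this]; norm_num

/-- the matrix of order four -/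
def wm (F : Type*) [Field F] : Matrix (Fin 2) (Fin 2) F := !![0, 1; -1, 0]

theorem wm_sq : wm F ^ 2 = -1 := by
  rw [pow_two, wm, Matrix.mul_fin_two]
  ext i j
  (revert i j; simp only [_root_.Fin.forall_fin_succ, _root_.MulZeroClass.mul_zero, _root_.mul_neg, _root_.mul_one, _root_.zero_add, _root_.add_zero, _root_.neg_zero, _root_.Matrix.of_apply, _root_.Matrix.cons_val', _root_.Matrix.cons_val_fin_one, _root_.Matrix.neg_apply, Fin.isValue, _root_.Matrix.cons_val_zero, _root_.Matrix.cons_val_succ, _root_.IsEmpty.forall_iff, _root_.and_true, _root_.Matrix.one_apply_eq, Nat.reduceAdd, _root_.Fin.succ_zero_eq_one, _root_.ne_eq, _root_.zero_ne_one, _root_.not_false_eq_true, _root_.Matrix.one_apply_ne, _root_.and_self, _root_.Fin.succ_ne_zero, _root_.neg_inj, _root_.true_and])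

theorem wm_four : wm F ^ 4 = 1 := by
  rw [show 4 = 2 * 2 from rfl, pow_mul, wm_sq]
  simp only [_root_.even_two, _root_.Even.neg_pow, _root_.one_pow]

theorem wm_pow {k : ℕ} (h2 : (2 : F) ≠ 0) (h : wm F ^ k = 1) : 4 ∣ k := by
  have h1 := one_ne_neg_one h2
  have key : ∀ j : ℕ, j < 4 → wm F ^ j = 1 → j = 0 := by
    intro j hj hj1
    interval_cases j
    · rfl
    · rw [pow_one] at hj1
      have := congrFun (congrFun hj1 0) 0
      simp [wm] at this
    · rw [wm_sq] at hj1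
      have := congrFun (congrFun hj1 0) 0
      simp at this
      exact absurd this.symm h1
    · rw [pow_succ, wm_sq] at hj1
      have := congrFun (congrFun hj1 0) 0
      simp [wm] at this
  have h3 : wm F ^ (k % 4) = 1 := by
    conv_lhs at h => rw [← Nat.mod_add_div k 4]
    rwa [pow_add, pow_mul, wm_four, one_pow, mul_one] at h
  exact Nat.dvd_of_mod_eq_zero (key _ (Nat.mod_lt _ (by norm_num)) h3)

theorem wm_det : (wm F).det = 1 := by
  rw [wm, Matrix.det_fin_two_of]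
  ring

end mat

section psl

variable {F : Type*} [Field F] [Fintype F]

theorem hasBlock_four (h2 : (2 : F) ≠ 0) : AdjPSL.HasBlock F 2 4 :=
  ⟨wm F, wm_det, wm_four, fun _ hk => wm_pow h2 hk⟩

theorem coprime_four {r : ℕ} (hr : r.Prime) (hr2 : r ≠ 2) : Nat.Coprime 4 r := by
  have : Nat.Coprime (2 ^ 2) r := Nat.Coprime.pow_left _ ((Nat.coprime_primes Nat.prime_two hr).2 (Ne.symm hr2))
  exact this

/-- **`PSL_n(q)` has elements of order `4 r`** -/
theorem four_psl {n : ℕ} (h2 : (2 : F) ≠ 0) {r : ℕ} (hr : r.Prime) (hr2 : r ≠ 2)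
    (h : AdjPSL.wL (Fintype.card F) r + 2 ≤ n) :
    ∃ z : Matrix.ProjectiveSpecialLinearGroup (Fin n) F, orderOf z = 4 * r :=
  AdjPSL.exists_order_of_blocks (hasBlock_four h2) (AdjPSL.hasBlock_wL hr) (by norm_num) (AdjPSL.wL_pos hr) (by omega)
    (coprime_four hr hr2) _ dvd_rfl

theorem hasBlock_four_u {q : ℕ} (hF : Fintype.card F = q ^ 2) (h2 : (2 : F) ≠ 0) : AdjPSU.HasBlock F q 2 4 := by
  have hq : q ≠ 0 := by
    rintro rfl
    exact Fintype.card_ne_zero (α := F) (by rw [hF]; rfl)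
  have hodd : (-1 : F) ^ q = -1 := by
    have h1 : Odd q := by
      by_contra h
      rw [Nat.not_odd_iff_even] at h
      have h3 : Even (Fintype.card F) := by
        rw [hF]
        exact h.pow_of_ne_zero two_ne_zero
      have h4 : ringChar F = 2 := by
        by_contra h5
        have := FiniteField.odd_card_of_char_ne_two h5
        rw [Nat.even_iff] at h3
        omega
      apply h2
      have := ringChar.Nat.cast_ringChar (R := F)
      rw [h4] at this
      exact_mod_cast this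
    exact h1.neg_one_pow
  refine ⟨wm F, ⟨1, isUnit_one, ?_⟩, wm_det, wm_four, fun _ hk => wm_pow h2 hk⟩
  rw [mul_one]
  ext i j
  rw [Matrix.mul_apply, Fin.sum_univ_two, Cfsg.Agent.H186.st_apply, Cfsg.Agent.H186.st_apply]
  (revert i j; simp only [wm, hodd, hq, _root_.Fin.forall_fin_succ, Fin.isValue, _root_.Matrix.of_apply, _root_.Matrix.cons_val', _root_.Matrix.cons_val_fin_one, _root_.Matrix.cons_val_zero, _root_.Matrix.cons_val_one, _root_.MulZeroClass.mul_zero, _root_.mul_neg, _root_.mul_one, _root_.zero_add, _root_.Matrix.cons_val_succ, _root_.add_zero, _root_.IsEmpty.forall_iff, _root_.and_true, _root_.neg_neg, _root_.Matrix.one_apply_eq, _root_.ne_eq, _root_.not_false_eq_true, _root_.zero_pow, Nat.reduceAdd, _root_.Fin.succ_zero_eq_one, _root_.zero_ne_one, _root_.Matrix.one_apply_ne, _root_.and_self, _root_.neg_zero, _root_.Fin.succ_ne_zero, _root_.one_pow, _root_.true_and])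

/-- **`PSU_n(q)` has elements of order `4 r`** -/
theorem four_psu {n q : ℕ} (hF : Fintype.card F = q ^ 2) (hn : 3 ≤ n) (h2 : (2 : F) ≠ 0) {r : ℕ} (hr : r.Prime)
    (hr2 : r ≠ 2) (h : AdjPSU.wU q r + 2 ≤ n) : ∃ z : Cfsg.PSU n F q, orderOf z = 4 * r :=
  AdjPSU.exists_order_of_blocks hF hn (hasBlock_four_u hF h2) (AdjPSU.hasBlock_wU hF hr) (by norm_num)
    (AdjPSU.wU_pos hr) (by omega) (coprime_four hr hr2) _ dvd_rfl

end psl

section psp

open Cfsg.Agent.H376.Odd8 Cfsg.Agent.H376.SpEmb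

variable {F : Type*} [Field F] [Fintype F]

theorem exists_wsp (h2 : (2 : F) ≠ 0) : ∃ A : Matrix.symplecticGroup (Fin 1) F, orderOf A = 4 := by
  have h1 := one_ne_neg_one h2
  refine ⟨⟨Matrix.J (Fin 1) F, SymplecticGroup.J_mem _ _⟩, ?_⟩
  have hJ' : (Matrix.J (Fin 1) F) ^ 2 = -1 := by rw [pow_two, Matrix.J_squared]
  refine orderOf_eq_prime_pow (p := 2) (n := 1) ?_ ?_
  · intro h
    have h2' : (Matrix.J (Fin 1) F) ^ 2 ^ 1 = 1 := congrArg Subtype.val h
    rw [pow_one, hJ'] at h2'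
    have h3 := congrFun (congrFun h2' (Sum.inl 0)) (Sum.inl 0)
    rw [Matrix.neg_apply, Matrix.one_apply_eq] at h3
    exact h1 h3.symm
  · apply Subtype.ext
    change (Matrix.J (Fin 1) F) ^ 2 ^ (1 + 1) = 1
    rw [show 2 ^ (1 + 1) = 2 * 2 from rfl, pow_mul, hJ']
    simp only [_root_.even_two, _root_.Even.neg_pow, _root_.one_pow]

/-- **`PSp_{2m}(q)` has elements of order `4 r`** -/
theorem four_psp {m : ℕ} (hm : 2 ≤ m) (h2 : (2 : F) ≠ 0) {r : ℕ} (hr : r.Prime) (hr2 : r ≠ 2)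
    (h : r ∣ Nat.card (Matrix.symplecticGroup (Fin (m - 1)) F)) : ∃ z : Cfsg.PSp m F, orderOf z = 4 * r := by
  classical
  have h1 := one_ne_neg_one h2
  have hro := hr.odd_of_ne_two hr2
  obtain ⟨A, hA⟩ := exists_wsp (F := F) h2
  have := Fact.mk hr
  obtain ⟨B, hB⟩ := exists_prime_orderOf_dvd_card' (G := Matrix.symplecticGroup (Fin (m - 1)) F) r h
  obtain ⟨φ, hφ, hφ1⟩ := exists_phi (F := F) (show 1 + (m - 1) = m by omega)
  have hord : orderOf (φ (A, B)) = 4 * r := by
    rw [orderOf_injective _ hφ, Prod.orderOf_mk, hA, hB]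
    exact (coprime_four hr hr2).lcm_eq_mul
  refine ⟨QuotientGroup.mk (φ (A, B)), ?_⟩
  apply Nat.dvd_antisymm
  · rw [← hord]
    exact orderOf_map_dvd (QuotientGroup.mk' _) _
  · rw [← hord]
    apply orderOf_dvd_of_pow_eq_one
    set d := orderOf (QuotientGroup.mk (φ (A, B)) : Cfsg.PSp m F) with hd
    have h3 : φ (A, B) ^ d ∈ Subgroup.center (Matrix.symplecticGroup (Fin m) F) := by
      rw [← QuotientGroup.eq_one_iff, QuotientGroup.mk_pow, hd, pow_orderOf_eq_one]
    rcases ClassicalGeometry.SympInvolutions.center_eq h3 with h4 | h4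
    · exact Subtype.ext h4
    · exfalso
      rw [← map_pow] at h4
      have h5 := (hφ1 _ h4).2
      have h6 : (B ^ d).1 = -1 := h5
      have h7 : ((B ^ d) ^ r).1 = 1 := by
        rw [← pow_mul, mul_comm, pow_mul, ← hB, pow_orderOf_eq_one, one_pow]
        rfl
      have h8 : ((B ^ d) ^ r).1 = (B ^ d).1 ^ r := rfl
      rw [h8, h6, hro.neg_one_pow] at h7
      have h9 := congrFun (congrFun h7 (Sum.inl ⟨0, by omega⟩)) (Sum.inl ⟨0, by omega⟩)
      rw [Matrix.neg_apply, Matrix.one_apply_eq] at h9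
      exact h1 h9.symm

theorem dvd_two_eta (k : ℕ) : k ∣ 2 * eta k := by
  rw [eta]
  split_ifs with h
  · rw [Nat.mul_div_cancel' h.two_dvd]
  · exact Dvd.intro_left _ rfl

theorem dvd_card_sp {m r : ℕ} (hm : 1 ≤ m) (h : r ∣ Fintype.card F ∨ (1 ≤ eta (ee (Fintype.card F) r) ∧
    eta (ee (Fintype.card F) r) ≤ m)) : r ∣ Nat.card (Matrix.symplecticGroup (Fin m) F) := by
  rw [LieClassical.SympCount.card_symplecticGroup]
  rcases h with h | ⟨h1, h3⟩
  · exact Dvd.dvd.mul_right (h.trans (dvd_pow_self _ (by positivity))) _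
  · refine Dvd.dvd.mul_left ?_ _
    refine Dvd.dvd.trans ?_ (Finset.dvd_prod_of_mem _ (Finset.mem_range.2 (show eta (ee (Fintype.card F) r) - 1 < m by
      omega)))
    have h4 := dvd_pow_ee (q := Fintype.card F) (r := r) Fintype.card_pos
    refine h4.trans (Nat.pow_sub_one_dvd_pow_sub_one _ ?_)
    rw [show eta (ee (Fintype.card F) r) - 1 + 1 = eta (ee (Fintype.card F) r) by omega]
    exact dvd_two_eta _

/-- the class of odd primes of `PSp_{2m}(q)` -/
theorem four_psp' {m : ℕ} (hm : 2 ≤ m) (h2 : (2 : F) ≠ 0) {r : ℕ} (hr : r.Prime) (hr2 : r ≠ 2)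
    (h : r ∣ Fintype.card F ∨ eta (ee (Fintype.card F) r) + 1 ≤ m) : ∃ z : Cfsg.PSp m F, orderOf z = 4 * r := by
  refine four_psp hm h2 hr hr2 (dvd_card_sp (by omega) ?_)
  by_cases hd : r ∣ Fintype.card F
  · exact Or.inl hd
  · exact Or.inr ⟨eta_pos (ee_pos hr hd), by have := h.resolve_left hd; omega⟩

end psp

/-! ### The bounds -/

section bounds

theorem far_of_WG {S : Type*} [Group S] {p m c : ℕ} {K : Finset ℕ} {wt w κ : ℕ → ℕ} {t j : ℕ}
    (W : WG S p m c K wt w κ t) (ht : t ≤ j) (h4 : ∀ r : ℕ, r.Prime → r ≠ 2 → r ∣ Nat.card S → w r ≤ j →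
      ∃ x : S, orderOf x = 4 * r) {C : Finset ℕ} (hC : OCoc S C) (hF : Far4 S C) (hp : p ∉ C ∨ 2 ≤ j) :
    C.card ≤ (K.filter fun k => j < wt k).card := by
  refine W.inj hC ht (fun r hr => ?_) hp
  by_contra h
  exact hF r hr (h4 r (hC.prime r hr) (hC.ne2 r hr) (hC.dvd r hr) (by omega))

variable {F : Type*} [Field F] [Fintype F]

/-- **`PSL_n(q)`, `n ≥ 4`, `q` odd.** -/
theorem far_psl {n : ℕ} (hn : 4 ≤ n) (h2 : (2 : F) ≠ 0) {C : Finset ℕ}
    (hC : OCoc (Matrix.ProjectiveSpecialLinearGroup (Fin n) F) C)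
    (hF : Far4 (Matrix.ProjectiveSpecialLinearGroup (Fin n) F) C) : C.card ≤ 2 := by
  obtain ⟨p, hp, -, hp1, hp2⟩ := exists_char F
  have h1 := far_of_WG (psl (F := F) (n := n) (by omega) hp1 hp2) (j := n - 2) (by omega)
    (fun r hr hr2 _ hw => four_psl h2 hr hr2 (by omega)) hC hF (Or.inr (by omega))
  have h3 := card_Icc_filter n (n - 2)
  omega

theorem q_char {q : ℕ} (hF : Fintype.card F = q ^ 2) :
    ∃ p : ℕ, p.Prime ∧ (∀ s : ℕ, s.Prime → s ∣ q → s = p) ∧ p ∣ q := by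
  obtain ⟨p, hp, -, hp1, hp2⟩ := exists_char F
  rw [hF] at hp1 hp2
  exact ⟨p, hp, fun s hs hd => hp1 s hs (hd.trans (dvd_pow_self q two_ne_zero)), hp.dvd_of_dvd_pow hp2⟩

/-- **`PSU_n(q)`, `n ≥ 4`, `q` odd.** -/
theorem far_psu {n q : ℕ} (hn : 4 ≤ n) (hF' : Fintype.card F = q ^ 2) (h2 : (2 : F) ≠ 0) {C : Finset ℕ}
    (hC : OCoc (Cfsg.PSU n F q) C) (hF : Far4 (Cfsg.PSU n F q) C) : C.card ≤ 2 := by
  obtain ⟨p, hp, hp1, hp2⟩ := q_char hF'
  have h1 := far_of_WG (psu (F := F) (n := n) hF' (by omega) hp1 hp2) (j := n - 2) (by omega)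
    (fun r hr hr2 _ hw => four_psu hF' (by omega) h2 hr hr2 (by omega)) hC hF (Or.inr (by omega))
  have h3 := card_Icc_filter n (n - 2)
  omega

/-- **`PSp_{2m}(q)`, `m ≥ 2`, `q` odd.** -/
theorem far_psp {m : ℕ} (hm : 2 ≤ m) (h2 : (2 : F) ≠ 0) {C : Finset ℕ} (hC : OCoc (Cfsg.PSp m F) C)
    (hF : Far4 (Cfsg.PSp m F) C) : C.card ≤ 2 := by
  obtain ⟨p, hp, -, hp1, hp2⟩ := exists_char F
  have hcard : Nat.card F = Fintype.card F := Nat.card_eq_fintype_card
  have h1 := far_of_WG (psp (F := F) (m := m) hm (by rw [hcard]; exact hp1) (by rw [hcard]; exact hp2)) (j := m - 1)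
    (by omega)
    (fun r hr hr2 _ hw => by
      refine four_psp' hm h2 hr hr2 ?_
      by_cases hd : r ∣ Fintype.card F
      · exact Or.inl hd
      · right
        rw [hcard, wO, if_neg (by rw [not_or]; exact ⟨hr2, hd⟩)] at hw
        omega) hC hF (Or.inl fun hpC => hF p hpC (four_psp' hm h2 hp (hC.ne2 p hpC) (Or.inl hp2)))
  have h3 := card_cl_filter m (m - 1)
  rw [NS] at h3
  omega

end bounds

end Cfsg.Agent.H228.FourS
end

-- part: H228/FourO
section
/-!
# Elements of order `4 r` in the orthogonal groups of odd characteristic (helper228)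

* `nonsplit` : the nonsplit torus of order `q ^ d + 1` lives on a space of class `-1` if `4 ∣ q ^ d - 1`;
* `four_rh` : the element of order `4 r` in `Ω(V)`, `dim V ≥ 2 η(r) + 3`, not inducing a scalar;
* `far_odd`, `far_plus`, `far_minus` : a coclique of odd primes `r` without elements of order `4 r` has at most two
  members.
-/

set_option autoImplicit false
set_option linter.unusedSectionVars false

namespace Cfsg.Agent.H228.FourO

open QuadraticMap Module
open Cfsg.Agent.LieClassical.OrthCore Cfsg.Agent.LieClassical.OrthFinite Cfsg.Agent.LieClassical.OrthForms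
  Cfsg.Agent.H160 Cfsg.Agent.H160.QSpin Cfsg.Agent.H160.QDisc Cfsg.Agent.H160.QSplit
  Cfsg.Agent.H160.QReal Cfsg.Agent.H160.QMain Cfsg.Agent.H160.QSemi Cfsg.Agent.H160.QModel Cfsg.Agent.H160.QFinal

section rz

variable {F : Type*} [Field F] [Fintype F] [DecidableEq F]

/-- the nonsplit torus with its class -/
theorem nonsplit_core' (h2 : (2 : F) ≠ 0) {d q : ℕ} (hq : q = Fintype.card F) (hd : d ≠ 0) {L : Type} [Field L]
    [Algebra F L] [Finite L] [FiniteDimensional F L] [Algebra.IsSeparable F L]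
    (hfr : finrank F L = 2 * d) (hcard : Nat.card L = q ^ (2 * d)) (σ : L ≃ₐ[F] L)
    (hσ : ∀ x : L, σ x = x ^ (q ^ d)) :
    ∃ (c : ℤ) (s : ℤˣ), (c = 1 ∨ c = -1) ∧ (4 ∣ q ^ d - 1 → c = -1) ∧ Rz F (2 * d) c s (q ^ d + 1) := by
  have hq1 : 1 < q := hq ▸ Fintype.one_lt_card
  obtain ⟨ζ, hζ⟩ := exists_gen hcard
  have hqd : 1 < q ^ d := Nat.one_lt_pow hd hq1
  have hfac : q ^ (2 * d) - 1 = (q ^ d - 1) * (q ^ d + 1) := by
    have := Nat.sq_sub_sq (q ^ d) 1
    rw [← pow_mul, one_pow, mul_comm d 2] at this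
    rw [this, mul_comm]
  have hσσ : ∀ x : L, σ (σ x) = x := by
    intro x
    rw [hσ, hσ, ← pow_mul, ← pow_add, ← two_mul]
    have := Fintype.ofFinite L
    have h3 := FiniteField.pow_card x
    rw [← Nat.card_eq_fintype_card, hcard] at h3
    exact h3
  let B : LinearMap.BilinForm F L := LinearMap.mk₂ F (fun x y => Algebra.trace F L (x * σ y))
    (fun x x' y => by simp only [add_mul, map_add])
    (fun c x y => by simp only [smul_mul_assoc, map_smul])
    (fun x y y' => by simp only [map_add, mul_add])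
    (fun c x y => by simp only [map_smul, mul_smul_comm])
  have hB : ∀ x y, B x y = Algebra.trace F L (x * σ y) := fun x y => rfl
  have htr : ∀ x : L, (∀ y : L, Algebra.trace F L (x * y) = 0) → x = 0 := by
    intro x hx
    exact (traceForm_nondegenerate F L).1 x hx
  have hsymm : ∀ x y, B x y = B y x := by
    intro x y
    rw [hB, hB, ← Algebra.trace_eq_of_algEquiv σ (x * σ y), map_mul, hσσ, mul_comm (σ x) y]
  have hQ : Nondeg (qf B) := by
    refine nondeg_qf h2 hsymm ?_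
    intro x hx
    apply htr
    intro y
    have := hx (σ y)
    rw [hB, hσσ] at this
    exact this
  let z : Lˣ := ζ ^ (q ^ d - 1)
  have hzord : orderOf z = q ^ d + 1 := by
    have h3 : orderOf ζ ≠ 0 := by
      rw [hζ, hfac]
      exact Nat.mul_ne_zero (by omega) (by omega)
    have h4 := orderOf_pow_of_dvd (x := ζ) (n := q ^ d - 1) (by omega) (by rw [hζ, hfac]; exact Dvd.intro _ rfl)
    rw [h4, hζ, hfac, Nat.mul_div_cancel_left _ (by omega)]
  have hzz : (z : L) * σ z = 1 := by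
    rw [hσ, ← Units.val_pow_eq_pow_val, ← Units.val_mul, ← pow_succ', ← hzord, pow_orderOf_eq_one]
    rfl
  have hg : ml F L z ∈ O (qf B) := by
    apply mem_O_qf
    intro x y
    rw [hB, hB, ml_apply, ml_apply, map_mul σ]
    congr 1
    linear_combination (x * σ y) * hzz
  have hnorm : Algebra.norm F (z : L) = 1 := by
    have h3 : Algebra.norm F (z : L) * Algebra.norm F (ζ : L) = 1 * Algebra.norm F (ζ : L) := by
      rw [one_mul, ← map_mul (Algebra.norm F)]
      have h4 : (z : L) * ζ = σ ζ := by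
        rw [hσ, ← Units.val_mul, ← pow_succ, Nat.sub_add_cancel hqd.le, Units.val_pow_eq_pow_val]
      rw [h4]
      exact Algebra.norm_eq_of_algEquiv σ _
    exact mul_right_cancel₀ (by
      rw [Ne, Algebra.norm_eq_zero_iff]
      exact ζ.ne_zero) h3
  have hdet : LinearEquiv.det (ml F L z) = 1 := by
    apply Units.ext
    rw [det_ml, hnorm, Units.val_one]
  have hrz := Rz.of hQ ⟨hg, hdet, rfl⟩ hfr
  rw [orderOf_ml, hzord] at hrz
  refine ⟨_, _, dc_cases hQ, ?_, hrz⟩
  intro h4d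
  have hκ : (z : L) - ((z⁻¹ : Lˣ) : L) ≠ 0 := by
    intro h3
    have h4 : z = z⁻¹ := Units.ext (sub_eq_zero.1 h3)
    have h5 : z ^ 2 = 1 := by
      rw [pow_two]
      nth_rewrite 2 [h4]
      exact mul_inv_cancel z
    have h6 := Nat.le_of_dvd (by norm_num) (orderOf_dvd_of_pow_eq_one h5)
    rw [hzord] at h6
    omega
  obtain ⟨κ, hκd⟩ : ∃ κ : L, κ = (z : L) - ((z⁻¹ : Lˣ) : L) := ⟨_, rfl⟩
  rw [← hκd] at hκ
  have hdetS : LinearMap.det ((ml F L z : L →ₗ[F] L) - (((ml F L z)⁻¹ : L ≃ₗ[F] L) : L →ₗ[F] L)) =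
      Algebra.norm F κ := by
    rw [Algebra.norm_apply]
    congr 1
    ext x
    rw [LinearMap.sub_apply, ← map_inv]
    show (z : L) * x - ((z⁻¹ : Lˣ) : L) * x = κ * x
    rw [hκd, sub_mul]
  have hnκ : Algebra.norm F κ ≠ 0 := by
    rw [Ne, Algebra.norm_eq_zero_iff]
    exact hκ
  rw [dc_eq_of_skew hQ hg (by rw [hdetS]; exact hnκ), hdetS]
  rw [quadraticChar_neg_one_iff_not_isSquare]
  rintro ⟨a, ha⟩
  have ha0 : a ≠ 0 := by
    rintro rfl
    rw [ha] at hnκ
    simp at hnκ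
  obtain ⟨e, he⟩ := QUpper.card_odd_eq (F := F) h2
  rw [← hq] at he
  have h3 : Algebra.norm F κ ^ ((q - 1) / 2) = 1 := by
    have h4 : (q - 1) / 2 = e := by omega
    rw [h4, ha, ← pow_two, ← pow_mul]
    have h5 : 2 * e = q - 1 := by omega
    rw [h5]
    rw [hq]
    exact FiniteField.pow_card_sub_one_eq_one a ha0
  have h4 := congrArg (algebraMap F L) h3
  rw [map_pow, map_one, FiniteField.algebraMap_norm_eq_pow, hcard, Nat.card_eq_fintype_card, ← hq, ← pow_mul] at h4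
  have hσκ : σ κ = -κ := by
    have h5 : σ (z : L) = ((z⁻¹ : Lˣ) : L) := by
      rw [← mul_right_inj' z.ne_zero, hzz, Units.mul_inv]
    have h6 : σ ((z⁻¹ : Lˣ) : L) = z := by rw [← h5, hσσ]
    rw [hκd, map_sub, h5, h6]
    ring
  rw [hσ] at hσκ
  have h7 : κ ^ (q ^ d - 1) = -1 := by
    apply mul_right_cancel₀ hκ
    rw [← pow_succ, Nat.sub_add_cancel (Nat.one_le_pow _ _ (by omega)), hσκ, neg_one_mul]
  obtain ⟨f, hf⟩ := h4d
  have h8 : (q ^ (2 * d) - 1) / (q - 1) * ((q - 1) / 2) = (q ^ d - 1) * (2 * f + 1) := by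
    have h9 : q - 1 ∣ q ^ (2 * d) - 1 := by
      have := Nat.pow_sub_one_dvd_pow_sub_one q (one_dvd (2 * d))
      rwa [pow_one] at this
    obtain ⟨g, hg⟩ := h9
    have h10 : q - 1 = 2 * e := by omega
    have h11 : (q ^ (2 * d) - 1) / (q - 1) = g := by
      rw [hg]
      exact Nat.mul_div_cancel_left _ (by omega)
    rw [h11, show (q - 1) / 2 = e by omega]
    have h12 : 2 * (g * e) = 2 * ((q ^ d - 1) * (2 * f + 1)) := by
      calc 2 * (g * e) = (q - 1) * g := by rw [h10]; ring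
        _ = (q ^ d - 1) * (q ^ d + 1) := by rw [← hg, hfac]
        _ = (q ^ d - 1) * (2 * (2 * f + 1)) := by
          congr 1
          (clear * - hqd hf; omega)
        _ = 2 * ((q ^ d - 1) * (2 * f + 1)) := by ring
    omega
  rw [h8, pow_mul, h7] at h4
  have h9 : Odd (2 * f + 1) := ⟨f, rfl⟩
  rw [h9.neg_one_pow] at h4
  have h2L : (2 : L) ≠ 0 := by
    intro h
    apply h2
    apply (algebraMap F L).injective
    rw [map_ofNat, map_zero, h]
  apply h2L
  have : (2 : L) = 1 - (-1) := by norm_num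
  rw [this, h4, sub_self]

/-- **The nonsplit torus.** -/
theorem nonsplit (h2 : (2 : F) ≠ 0) {d : ℕ} (hd : d ≠ 0) :
    ∃ (c : ℤ) (s : ℤˣ), (c = 1 ∨ c = -1) ∧ (4 ∣ Fintype.card F ^ d - 1 → c = -1) ∧
      Rz F (2 * d) c s (Fintype.card F ^ d + 1) := by
  obtain ⟨p, hpF⟩ := CharP.exists F
  have hp : Fact p.Prime := ⟨CharP.char_is_prime F p⟩
  have : NeZero (2 * d) := ⟨by omega⟩
  refine nonsplit_core' h2 rfl hd (L := FiniteField.Extension F p (2 * d)) (FiniteField.finrank_extension F p (2 * d))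
    (by rw [FiniteField.natCard_extension, Nat.card_eq_fintype_card])
    (FiniteField.Extension.frob F p (2 * d) ^ d) ?_
  intro x
  have := FiniteField.Extension.frob_iterate_apply F p (2 * d) d (x := x)
  rw [Nat.card_eq_fintype_card] at this
  exact this

/-- an element of order four on a plane of class `1` -/
theorem rz_rot (h2 : (2 : F) ≠ 0) : ∃ s : ℤˣ, Rz F 2 1 s 4 := by
  have hdc : dc (binF (0 : F) 1) = 1 := by
    rw [dc_binF]
    have h4 : (4 * 1 - 0 ^ 2 : F) = 2 ^ 2 := by ring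
    rw [h4]
    rw [map_pow]
    exact quadraticChar_sq_one h2
  have hnd : Nondeg (binF (0 : F) 1) := by
    intro u hu
    have h1 := hu ![1, 0]
    have h3 := hu ![0, 1]
    simp only [QuadraticMap.polar, binF_apply, Pi.add_apply] at h1 h3
    simp only [_root_.Fin.isValue, _root_.Matrix.cons_val_zero, _root_.MulZeroClass.zero_mul, _root_.Matrix.cons_val_one, _root_.Matrix.cons_val_fin_one, _root_.add_zero, _root_.one_mul, _root_.add_sub_add_right_eq_sub, _root_.one_pow, _root_.mul_one, _root_.MulZeroClass.mul_zero, _root_.ne_eq, _root_.OfNat.ofNat_ne_zero, _root_.not_false_eq_true, _root_.zero_pow, _root_.add_sub_add_left_eq_sub, _root_.zero_add] at h1 h3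
    have e1 : 2 * u 0 = 0 := by linear_combination h1
    have e2 : 2 * u 1 = 0 := by linear_combination h3
    funext i
    fin_cases i
    · exact (mul_eq_zero.1 e1).resolve_left h2
    · exact (mul_eq_zero.1 e2).resolve_left h2
  let g : (Fin 2 → F) ≃ₗ[F] (Fin 2 → F) :=
    { toFun := fun v => ![-v 1, v 0]
      invFun := fun v => ![v 1, -v 0]
      map_add' := by
        intro x y
        ext i
        (revert i; simp only [add_comm, _root_.Fin.forall_fin_succ, _root_.Nat.succ_eq_add_one, Nat.reduceAdd, Fin.isValue, _root_.Pi.add_apply, _root_.neg_add_rev, _root_.Matrix.cons_val_zero, _root_.Matrix.cons_val_succ, _root_.Matrix.cons_val_fin_one, _root_.implies_true, _root_.and_self])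
      map_smul' := by
        intro c x
        ext i
        fin_cases i <;> simp
      left_inv := by
        intro v
        ext i
        fin_cases i <;> simp
      right_inv := by
        intro v
        ext i
        fin_cases i <;> simp }
  have hgO : g ∈ O (binF (0 : F) 1) := by
    intro v
    rw [binF_apply, binF_apply]
    show (-v 1) ^ 2 + 0 * (-v 1) * v 0 + 1 * (v 0) ^ 2 = _
    ring
  have hdet : LinearEquiv.det g = 1 := by
    apply Units.ext
    rw [LinearEquiv.coe_det]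
    have hm : LinearMap.toMatrix' (g : (Fin 2 → F) →ₗ[F] (Fin 2 → F)) = !![0, -1; 1, 0] := by
      ext i j
      rw [LinearMap.toMatrix'_apply]
      (revert i j; simp only [g, _root_.Fin.forall_fin_succ, Fin.isValue, _root_.LinearMap.coe_mk, _root_.AddHom.coe_mk, _root_.Matrix.of_apply, _root_.Matrix.cons_val', _root_.Matrix.cons_val_fin_one, _root_.ne_eq, _root_.one_ne_zero, _root_.not_false_eq_true, _root_.Pi.single_eq_of_ne, _root_.neg_zero, _root_.Pi.single_eq_same, _root_.Matrix.cons_val_zero, _root_.Fin.succ_ne_zero, _root_.Pi.single_eq_of_ne', _root_.Matrix.cons_val_succ, _root_.Fin.succ_zero_eq_one, _root_.IsEmpty.forall_iff, _root_.and_true, _root_.and_self, _root_.implies_true])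
    rw [← LinearMap.det_toMatrix', hm, Matrix.det_fin_two_of]
    simp
  have hg2 : ∀ v : Fin 2 → F, (g ^ 2) v = -v := by
    intro v
    show g (g v) = -v
    ext i
    (revert i; simp only [g, _root_.Fin.forall_fin_succ, Fin.isValue, _root_.LinearEquiv.coe_mk, _root_.LinearMap.coe_mk, _root_.AddHom.coe_mk, _root_.Matrix.cons_val_one, _root_.Matrix.cons_val_fin_one, _root_.Matrix.cons_val_zero, _root_.Pi.neg_apply, _root_.Matrix.cons_val_succ, _root_.neg_inj, _root_.Fin.succ_zero_eq_one, _root_.IsEmpty.forall_iff, _root_.and_self])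
  have hord : orderOf g = 4 := by
    refine orderOf_eq_prime_pow (p := 2) (n := 1) ?_ ?_
    · intro h
      have h1 := congrFun (congrArg (fun t : (Fin 2 → F) ≃ₗ[F] (Fin 2 → F) => t (fun _ => 1)) h) 0
      rw [pow_one] at h1
      change (g ^ 2) (fun _ => 1) 0 = 1 at h1
      rw [hg2] at h1
      exact neg_one_ne h2 h1
    · apply LinearEquiv.ext
      intro v
      show (g ^ 4) v = v
      rw [show 4 = 2 + 2 from rfl, pow_add, LinearEquiv.mul_apply, hg2, hg2, neg_neg]
  refine ⟨spin (binF (0 : F) 1) ⟨g, hgO⟩, ?_⟩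
  have := Rz.of hnd ⟨hgO, hdet, rfl⟩ (n := 2) (by simp)
  rwa [hdc, hord] at this

/-- multiplication by `-1` -/
theorem Rz.neg (h2 : (2 : F) ≠ 0) {n : ℕ} (hn : Even n) (hn0 : n ≠ 0) {c s : ℤˣ} {N : ℕ} (hN : Odd N)
    (h : Rz F n c s N) : Rz F n c (c * s) (2 * N) := by
  obtain ⟨Q, g, a1, a2, a3, a4⟩ := h
  have hel : El Q c (LinearEquiv.neg F : (Fin n → F) ≃ₗ[F] (Fin n → F)) := el_neg h2 a1 (by simpa only [_root_.Module.finrank_fintype_fun_eq_card, _root_.Fintype.card_fin] using hn) a2.symm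
  refine ⟨Q, LinearEquiv.neg F * g, a1, a2, hel.mul a3, ?_⟩
  have h3 : orderOf (LinearEquiv.neg F : (Fin n → F) ≃ₗ[F] (Fin n → F)) = 2 := by
    apply orderOf_eq_prime QUpper.neg_pow_two
    intro h
    obtain ⟨m, rfl⟩ := Nat.exists_eq_succ_of_ne_zero hn0
    have h1 := congrFun (congrArg (fun g : (Fin (m + 1) → F) ≃ₗ[F] (Fin (m + 1) → F) => g (fun _ => 1)) h) 0
    exact neg_one_ne h2 h1
  have h4 := (QUpper.neg_comm g).orderOf_mul_eq_mul_orderOf_of_coprime (by
    rw [h3, a4]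
    exact (Nat.coprime_two_left).2 hN)
  rw [h4, h3, a4]

/-- realisable tuples with a nonzero vector fixed by the `M`-th power -/
def Rh (F : Type*) [Field F] [Fintype F] [DecidableEq F] (n : ℕ) (d : ℤ) (s : ℤˣ) (N M : ℕ) : Prop :=
  ∃ (Q : QuadraticForm F (Fin n → F)) (g : (Fin n → F) ≃ₗ[F] (Fin n → F)),
    Nondeg Q ∧ dc Q = d ∧ El Q s g ∧ orderOf g = N ∧ ∃ v, v ≠ 0 ∧ (g ^ M) v = v

theorem Rh.rz {n : ℕ} {d : ℤ} {s : ℤˣ} {N M : ℕ} (h : Rh F n d s N M) : Rz F n d s N := by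
  obtain ⟨Q, g, h1, h2, h3, h4, -⟩ := h
  exact ⟨Q, g, h1, h2, h3, h4⟩

theorem rz_toh {n : ℕ} {d : ℤ} {s : ℤˣ} {N M : ℕ} (hn : n ≠ 0) (h : Rz F n d s N) (hM : N ∣ M) : Rh F n d s N M := by
  obtain ⟨Q, g, a1, a2, a3, a4⟩ := h
  refine ⟨Q, g, a1, a2, a3, a4, fun _ => 1, ?_, ?_⟩
  · intro h
    obtain ⟨m, rfl⟩ := Nat.exists_eq_succ_of_ne_zero hn
    exact one_ne_zero (congrFun h 0)
  · rw [orderOf_dvd_iff_pow_eq_one.1 (a4 ▸ hM)]
    rfl

theorem Rh.of {V : Type*} [AddCommGroup V] [Module F V] [FiniteDimensional F V] [Finite V]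
    {Q : QuadraticForm F V} (hQ : Nondeg Q) {s : ℤˣ} {g : V ≃ₗ[F] V} (hg : El Q s g) {n M : ℕ}
    (hn : finrank F V = n) (hv : ∃ v, v ≠ 0 ∧ (g ^ M) v = v) : Rh F n (dc Q) s (orderOf g) M := by
  obtain ⟨Q', e, he⟩ := exists_fin Q hn
  obtain ⟨v, hv0, hv1⟩ := hv
  refine ⟨Q', cj e g, he.nondeg hQ, dc_iso he, hg.cj he, orderOf_cj e g, e v, ?_, ?_⟩
  · exact (LinearEquiv.map_ne_zero_iff e).2 hv0
  · rw [← cj_pow, cj_apply', hv1]

theorem rz_addh (h2 : (2 : F) ≠ 0) {n₁ n₂ : ℕ} {d₁ d₂ : ℤ} {s₁ s₂ : ℤˣ} {N₁ N₂ M : ℕ} (h₁ : Rz F n₁ d₁ s₁ N₁)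
    (h₂ : Rh F n₂ d₂ s₂ N₂ M) : Rh F (n₁ + n₂) (d₁ * d₂) (s₁ * s₂) (N₁.lcm N₂) M := by
  obtain ⟨Q₁, g₁, a1, a2, a3, a4⟩ := h₁
  obtain ⟨Q₂, g₂, b1, b2, b3, b4, v, b5, b6⟩ := h₂
  have := Rh.of (nondeg_prod a1 b1) (El.pr h2 a1 b1 a3 b3) (n := n₁ + n₂) (M := M) (by simp only [_root_.Module.finrank_prod, _root_.Module.finrank_fintype_fun_eq_card, _root_.Fintype.card_fin, _root_.Nat.add_left_cancel_iff])
    ⟨(0, v), fun h => b5 (congrArg Prod.snd h), by rw [pr_pow, pr_apply, map_zero]; exact congrArg (Prod.mk 0) b6⟩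
  rwa [dc_prod, a2, b2, orderOf_pr, a4, b4] at this

theorem rh_one (h2 : (2 : F) ≠ 0) {n M : ℕ} (hn : n ≠ 0) {d : ℤ} (hd : d = 1 ∨ d = -1) : Rh F n d 1 1 M :=
  rz_toh hn (rz_one h2 hn hd) (one_dvd _)

end rz

/-! ### The blocks -/

section blocks

open Cfsg.Agent.H72.AdjOrth Cfsg.Agent.H72.AdjCoc

variable {F : Type*} [Field F] [Fintype F] [DecidableEq F]

theorem mul_cases {a b : ℤ} (ha : a = 1 ∨ a = -1) (hb : b = 1 ∨ b = -1) : a * b = 1 ∨ a * b = -1 := by
  rcases ha with rfl | rfl <;> rcases hb with rfl | rfl <;> simp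

theorem sq_cases {a : ℤ} (ha : a = 1 ∨ a = -1) : a * a = 1 := by
  rcases ha with rfl | rfl <;> rfl

theorem odd_card (h2 : (2 : F) ≠ 0) : Fintype.card F % 2 = 1 := by
  obtain ⟨e, he⟩ := QUpper.card_odd_eq (F := F) h2
  omega

/-- the class of the split torus -/
theorem split_class (h2 : (2 : F) ≠ 0) {d : ℕ} (h : ¬ 4 ∣ Fintype.card F ^ d - 1) :
    quadraticChar F (-1) ^ d = -1 := by
  have hq := odd_card (F := F) h2
  have h1 : Fintype.card F % 4 = 3 := by
    by_contra h1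
    have h3 : Fintype.card F % 4 = 1 := by omega
    apply h
    have h4 : Fintype.card F ^ d % 4 = 1 := by rw [Nat.pow_mod, h3, one_pow]; rfl
    have := Nat.one_le_pow d (Fintype.card F) Fintype.card_pos
    (clear * - h4; omega)
  have h3 : quadraticChar F (-1) = -1 := by
    rw [quadraticChar_neg_one_iff_not_isSquare]
    intro h4
    exact (FiniteField.isSquare_neg_one_iff.1 h4) h1
  rw [h3]
  apply Odd.neg_one_pow
  by_contra h4
  rw [Nat.not_odd_iff_even] at h4
  obtain ⟨k, rfl⟩ := h4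
  apply h
  have h5 : Fintype.card F ^ (k + k) % 4 = 1 := by
    rw [← two_mul, pow_mul, Nat.pow_mod, Nat.pow_mod (Fintype.card F) 2 4, h1]
    norm_num
  have := Nat.one_le_pow (k + k) (Fintype.card F) Fintype.card_pos
  omega

/-- the torus of a class -/
theorem torus (h2 : (2 : F) ≠ 0) {k : ℕ} (hk : 1 ≤ k) :
    ∃ (c : ℤ) (s : ℤˣ), (c = 1 ∨ c = -1) ∧ (¬ 4 ∣ tn (Fintype.card F) k → c = -1) ∧
      Rz F (2 * eta k) c s (tn (Fintype.card F) k) := by
  have hq := odd_card (F := F) h2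
  by_cases he : Even k
  · have hk2 : k / 2 ≠ 0 := by
      obtain ⟨j, rfl⟩ := he
      omega
    obtain ⟨c, s, hc, h4, hrz⟩ := nonsplit (F := F) h2 hk2
    rw [tn, if_pos he, eta, if_pos he]
    refine ⟨c, s, hc, fun h5 => h4 ?_, hrz⟩
    have h6 : Fintype.card F ^ (k / 2) % 2 = 1 := by rw [Nat.pow_mod, hq, one_pow]; rfl
    have := Nat.one_le_pow (k / 2) (Fintype.card F) Fintype.card_pos
    omega
  · rw [tn, if_neg he, eta, if_neg he]
    obtain ⟨s, hs⟩ := rz_split (F := F) (d := k) (by omega)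
    refine ⟨_, s, ?_, fun h5 => split_class h2 h5, hs⟩
    exact chi_cases k

/-- **The block of an odd prime.** -/
theorem block (h2 : (2 : F) ≠ 0) {r : ℕ} (hr : r.Prime) (hr2 : r ≠ 2) (hrq : ¬ r ∣ Fintype.card F) :
    (4 ∣ tn (Fintype.card F) (ee (Fintype.card F) r) ∧
      ∃ (c : ℤ) (s : ℤˣ), (c = 1 ∨ c = -1) ∧ Rz F (2 * eta (ee (Fintype.card F) r)) c s (4 * r)) ∨
    (Rz F (2 * eta (ee (Fintype.card F) r)) (-1) 1 r ∧ Rz F (2 * eta (ee (Fintype.card F) r)) (-1) (-1) (2 * r)) := by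
  obtain ⟨c, s, hc, h4, hrz⟩ := torus (F := F) h2 (ee_pos hr hrq)
  have hro := hr.odd_of_ne_two hr2
  have hd := dvd_tn (q := Fintype.card F) Fintype.card_pos hr hrq
  have hpos : tn (Fintype.card F) (ee (Fintype.card F) r) ≠ 0 := by
    rw [tn]
    split_ifs
    · omega
    · have h1 := Nat.one_lt_pow (Nat.one_le_iff_ne_zero.1 (ee_pos hr hrq)) (Fintype.one_lt_card (α := F))
      omega
  by_cases h4' : 4 ∣ tn (Fintype.card F) (ee (Fintype.card F) r)
  · left
    exact ⟨h4', c, _, hc, hrz.pow hpos ((FourS.coprime_four hr hr2).mul_dvd_of_dvd_of_dvd h4' hd)⟩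
  · right
    rw [h4 h4'] at hrz
    have h5 := hrz.pow hpos hd
    have h6 : Rz F (2 * eta (ee (Fintype.card F) r)) (-1) 1 r := by
      have h7 : s ^ (tn (Fintype.card F) (ee (Fintype.card F) r) / r) = 1 := by
        have h8 : Even (tn (Fintype.card F) (ee (Fintype.card F) r) / r) := by
          have h9 : Even (tn (Fintype.card F) (ee (Fintype.card F) r)) := by
            have hq := odd_card (F := F) h2
            rw [tn, Nat.even_iff]
            split_ifs
            · have h6 : Fintype.card F ^ (ee (Fintype.card F) r / 2) % 2 = 1 := by rw [Nat.pow_mod, hq, one_pow]; rfl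
              omega
            · have h6 : Fintype.card F ^ (ee (Fintype.card F) r) % 2 = 1 := by rw [Nat.pow_mod, hq, one_pow]; rfl
              omega
          obtain ⟨j, hj⟩ := hd
          rw [hj] at h9 ⊢
          rw [Nat.mul_div_cancel_left _ hr.pos]
          rcases Nat.even_mul.1 h9 with h10 | h10
          · exact absurd hro (Nat.not_odd_iff_even.2 h10)
          · exact h10
        obtain ⟨j, hj⟩ := h8
        rw [hj, ← two_mul, pow_mul, pow_two, Int.units_mul_self, one_pow]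
      rwa [h7] at h5
    refine ⟨h6, ?_⟩
    have h7 := Rz.neg h2 (n := 2 * eta (ee (Fintype.card F) r)) (even_two_mul _)
      (by have := eta_pos (ee_pos hr hrq); omega) (c := -1) (s := 1) hro h6
    rwa [mul_one] at h7

theorem lcm_a {r : ℕ} : (4 * r).lcm (Nat.lcm 2 1) = 4 * r := by
  rw [Nat.lcm_one_right]
  exact Nat.lcm_eq_left ⟨2 * r, by ring⟩

theorem lcm_b {r : ℕ} (hr : r.Prime) (hr2 : r ≠ 2) : r.lcm (Nat.lcm 4 1) = 4 * r := by
  rw [Nat.lcm_one_right, Nat.lcm_comm]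
  exact (FourS.coprime_four hr hr2).lcm_eq_mul

theorem lcm_c {r : ℕ} (hr : r.Prime) (hr2 : r ≠ 2) : (2 * r).lcm (Nat.lcm 4 1) = 4 * r := by
  rw [Nat.lcm_one_right]
  apply Nat.dvd_antisymm
  · exact Nat.lcm_dvd ⟨2, by ring⟩ ⟨r, rfl⟩
  · exact (FourS.coprime_four hr hr2).mul_dvd_of_dvd_of_dvd (Nat.dvd_lcm_right _ _)
      ((Nat.dvd_mul_left r 2).trans (Nat.dvd_lcm_left _ _))

/-- **Elements of order `4 r` in `Ω(V)`**, `dim V ≥ 2 η(r) + 3`, of any class. -/
theorem four_rh (h2 : (2 : F) ≠ 0) {r n : ℕ} (hr : r.Prime) (hr2 : r ≠ 2) (hrq : ¬ r ∣ Fintype.card F)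
    (hn : 2 * eta (ee (Fintype.card F) r) + 3 ≤ n) {D : ℤ} (hD : D = 1 ∨ D = -1) : Rh F n D 1 (4 * r) (2 * r) := by
  obtain ⟨m, rfl⟩ : ∃ m, n = 2 * eta (ee (Fintype.card F) r) + (2 + (m + 1)) := ⟨n - 2 * eta (ee (Fintype.card F) r) - 3,
    by omega⟩
  rcases block h2 hr hr2 hrq with ⟨-, c, s, hc, h1⟩ | ⟨h1, h3⟩
  · have hs := units_cases s
    have hd' : D * c * (s : ℤ) = 1 ∨ D * c * (s : ℤ) = -1 := mul_cases (mul_cases hD hc) hs
    have h3 := rz_addh h2 h1 (rz_addh h2 (rz_neg h2 s) (rh_one h2 (M := 2 * r) (Nat.succ_ne_zero m) hd'))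
    rw [lcm_a, mul_one, Int.units_mul_self] at h3
    have e1 : c * ((s : ℤ) * (D * c * (s : ℤ))) = D := by
      calc c * ((s : ℤ) * (D * c * (s : ℤ))) = D * (c * c) * ((s : ℤ) * (s : ℤ)) := by ring
        _ = D := by rw [sq_cases hc, sq_cases hs, mul_one, mul_one]
    rwa [e1] at h3
  · obtain ⟨s, hs⟩ := rz_rot (F := F) h2
    have hd' : -D = 1 ∨ -D = -1 := by
      rcases hD with rfl | rfl
      · right; rfl
      · left; rfl
    have h4 := rz_addh h2 hs (rh_one h2 (M := 2 * r) (Nat.succ_ne_zero m) hd')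
    rw [mul_one, one_mul] at h4
    rcases Int.units_eq_one_or s with rfl | rfl
    · have h5 := rz_addh h2 h1 h4
      rw [lcm_b hr hr2, mul_one, neg_mul_neg, one_mul] at h5
      exact h5
    · have h5 := rz_addh h2 h3 h4
      rw [lcm_c hr hr2, Int.units_mul_self, neg_mul_neg, one_mul] at h5
      exact h5

/-- the case of the characteristic -/
theorem four_rz_p (h2 : (2 : F) ≠ 0) {r n : ℕ} (hr : r.Prime) (hr2 : r ≠ 2) (hrq : r ∣ Fintype.card F)
    (hn : 7 ≤ n) {D : ℤ} (hD : D = 1 ∨ D = -1) : Rz F n D 1 (4 * r) ∧ (8 ≤ n → Rh F n D 1 (4 * r) (2 * r)) := by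
  obtain ⟨p, hpF⟩ := CharP.exists F
  have hp : Fact p.Prime := ⟨CharP.char_is_prime F p⟩
  have hrp : r = p := by
    obtain ⟨k, -, hk⟩ := FiniteField.card F p
    rw [hk] at hrq
    exact (Nat.prime_dvd_prime_iff_eq hr hp.out).1 (hr.dvd_of_dvd_pow hrq)
  subst hrp
  -- dimension four
  obtain ⟨c, hc, h4⟩ : ∃ c : ℤ, (c = 1 ∨ c = -1) ∧ Rz F 4 c 1 4 := by
    obtain ⟨s, hs⟩ := rz_rot (F := F) h2
    rcases Int.units_eq_one_or s with rfl | rfl
    · have h5 := Rz.add h2 hs (rz_one h2 two_ne_zero (Or.inl rfl))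
      exact ⟨_, Or.inl rfl, by simpa using h5⟩
    · have h5 := Rz.add h2 hs (rz_neg h2 (-1))
      refine ⟨_, Or.inr rfl, ?_⟩
      have h6 : Nat.lcm 4 2 = 4 := rfl
      rw [Int.units_mul_self, one_mul, h6] at h5
      exact h5
  have hJ : ∀ {d : ℤ}, (d = 1 ∨ d = -1) → Rz F 3 d 1 r := by
    intro d hd
    have := rz_jordan (F := F) (p := r) h2 (n := 3) (a := 0) (by decide) (by norm_num) hd
    simpa using this
  have hcop : Nat.lcm 4 r = 4 * r := (FourS.coprime_four hr hr2).lcm_eq_mul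
  constructor
  · rcases Nat.lt_or_ge n 8 with h8 | h8
    · obtain rfl : n = 4 + 3 := by omega
      have h5 := Rz.add h2 h4 (hJ (mul_cases hD hc))
      rw [one_mul, hcop] at h5
      have e1 : c * (D * c) = D := by
        calc c * (D * c) = D * (c * c) := by ring
          _ = D := by rw [sq_cases hc, mul_one]
      rwa [e1] at h5
    · obtain ⟨m, rfl⟩ : ∃ m, n = 4 + (3 + (m + 1)) := ⟨n - 8, by omega⟩
      have h5 := Rz.add h2 h4 (Rz.add h2 (hJ (Or.inl rfl)) (rz_one h2 (Nat.succ_ne_zero m) (mul_cases hD hc)))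
      rw [one_mul, one_mul, one_mul, Nat.lcm_one_right, hcop] at h5
      have e1 : c * (D * c) = D := by
        calc c * (D * c) = D * (c * c) := by ring
          _ = D := by rw [sq_cases hc, mul_one]
      rwa [e1] at h5
  · intro h8
    obtain ⟨m, rfl⟩ : ∃ m, n = 4 + (3 + (m + 1)) := ⟨n - 8, by omega⟩
    have h5 := rz_addh h2 h4 (rz_addh h2 (hJ (Or.inl rfl)) (rh_one h2 (M := 2 * r) (Nat.succ_ne_zero m)
      (mul_cases hD hc)))
    rw [one_mul, one_mul, one_mul, Nat.lcm_one_right, hcop] at h5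
    have e1 : c * (D * c) = D := by
      calc c * (D * c) = D * (c * c) := by ring
        _ = D := by rw [sq_cases hc, mul_one]
    rwa [e1] at h5

/-- the class of type plus and rank `m - 1` in minus type and even rank `m` -/
theorem four_rh_minus (h2 : (2 : F) ≠ 0) {r m : ℕ} (hr : r.Prime) (hr2 : r ≠ 2) (hrq : ¬ r ∣ Fintype.card F)
    (hm : Even m) (he : ee (Fintype.card F) r + 1 = m) : Rh F (2 * m) (-1) 1 (4 * r) (2 * r) := by
  have hodd : ¬ Even (ee (Fintype.card F) r) := by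
    rw [← he] at hm
    intro h
    rw [Nat.even_add_one] at hm
    exact hm h
  have heta : eta (ee (Fintype.card F) r) = ee (Fintype.card F) r := by rw [eta, if_neg hodd]
  have hpos := ee_pos hr hrq
  have hn : 2 * m = 2 * eta (ee (Fintype.card F) r) + 2 := by rw [heta, ← he]; ring
  rw [hn]
  have hq := odd_card (F := F) h2
  have hro := hr.odd_of_ne_two hr2
  have hd := dvd_tn (q := Fintype.card F) Fintype.card_pos hr hrq
  rw [tn, if_neg hodd] at hd
  have hpos' : Fintype.card F ^ (ee (Fintype.card F) r) - 1 ≠ 0 := by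
    have h1 := Nat.one_lt_pow (Nat.one_le_iff_ne_zero.1 hpos) (Fintype.one_lt_card (α := F))
    omega
  by_cases h4 : 4 ∣ Fintype.card F ^ (ee (Fintype.card F) r) - 1
  · obtain ⟨s, hs⟩ := rz_split (F := F) (d := ee (Fintype.card F) r) (by omega)
    have h1 : quadraticChar F (-1) = 1 := by
      rw [quadraticChar_one_iff_isSquare (neg_ne_zero.2 one_ne_zero), FiniteField.isSquare_neg_one_iff]
      intro h3
      obtain ⟨j, hj⟩ := Nat.not_even_iff_odd.1 hodd
      have h5 : Fintype.card F ^ (ee (Fintype.card F) r) % 4 = 3 := by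
        rw [hj, pow_succ, pow_mul, Nat.mul_mod, Nat.pow_mod, Nat.pow_mod (Fintype.card F) 2 4, h3]
        norm_num
      have := Nat.one_le_pow (ee (Fintype.card F) r) (Fintype.card F) Fintype.card_pos
      omega
    rw [h1, one_pow] at hs
    have h3 := hs.pow hpos' ((FourS.coprime_four hr hr2).mul_dvd_of_dvd_of_dvd h4 hd)
    rw [heta]
    generalize s ^ ((Fintype.card F ^ (ee (Fintype.card F) r) - 1) / (4 * r)) = t at h3
    rcases Int.units_eq_one_or t with rfl | rfl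
    · have h5 := rz_addh h2 h3 (rh_one h2 (M := 2 * r) two_ne_zero (Or.inr rfl : (-1 : ℤ) = 1 ∨ (-1 : ℤ) = -1))
      rw [one_mul, one_mul, Nat.lcm_one_right] at h5
      exact h5
    · have h5 := rz_addh h2 h3 (rz_toh two_ne_zero (rz_neg h2 (-1)) (⟨r, rfl⟩ : 2 ∣ 2 * r))
      rw [one_mul, Int.units_mul_self] at h5
      have h6 : (4 * r).lcm 2 = 4 * r := Nat.lcm_eq_left ⟨2 * r, by ring⟩
      rw [h6] at h5
      exact h5
  · -- `q ≡ 3`
    rcases block h2 hr hr2 hrq with ⟨h5, -⟩ | ⟨h1, h3⟩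
    · rw [tn, if_neg hodd] at h5
      exact absurd h5 h4
    · have hne : 2 * eta (ee (Fintype.card F) r) ≠ 0 := by
        rw [heta]
        omega
      obtain ⟨s, hs⟩ := rz_rot (F := F) h2
      rw [add_comm (2 * eta (ee (Fintype.card F) r)) 2]
      rcases Int.units_eq_one_or s with rfl | rfl
      · have h5 := rz_addh h2 hs (rz_toh hne h1 (⟨2, by ring⟩ : r ∣ 2 * r))
        have h6 : Nat.lcm 4 r = 4 * r := (FourS.coprime_four hr hr2).lcm_eq_mul
        rw [one_mul, one_mul, h6] at h5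
        exact h5
      · have h5 := rz_addh h2 hs (rz_toh hne h3 (dvd_refl (2 * r)))
        have h6 : Nat.lcm 4 (2 * r) = 4 * r := by
          have := lcm_c hr hr2
          rwa [Nat.lcm_one_right, Nat.lcm_comm] at this
        rw [one_mul, Int.units_mul_self, h6] at h5
        exact h5

end blocks

/-! ### The groups -/

section groups

variable {F : Type*} [Field F] [Fintype F] [DecidableEq F]

theorem transport_rh (h2 : (2 : F) ≠ 0) {ι : Type} [Fintype ι] [DecidableEq ι] {Q : QuadraticForm F (ι → F)}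
    (hQ : Nondeg Q) {n : ℕ} (hn : Fintype.card ι = n) {N M : ℕ} (h : Rh F n (dc Q) 1 N M) :
    ∃ g : (ι → F) ≃ₗ[F] (ι → F), El Q 1 g ∧ orderOf g = N ∧ ∃ v, v ≠ 0 ∧ (g ^ M) v = v := by
  obtain ⟨Q', g', hQ', hd, hEl, hord, v, hv0, hv⟩ := h
  obtain ⟨e, he⟩ := exists_iso h2 hQ' hQ (by simp only [hn, _root_.Module.finrank_fintype_fun_eq_card, _root_.Fintype.card_fin]) hd
  exact ⟨cj e g', hEl.cj he, by rw [orderOf_cj, hord], e v, (LinearEquiv.map_ne_zero_iff e).2 hv0,
    by rw [← cj_pow, cj_apply', hv]⟩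

/-- **Elements of `PΩ(V)`** -/
theorem exists_POmega (h2 : (2 : F) ≠ 0) {ι : Type} [Fintype ι] [DecidableEq ι] {Q : QuadraticForm F (ι → F)}
    (hQ : Nondeg Q) {n : ℕ} (hn : Fintype.card ι = n) (hd : 5 ≤ n) {M : ℕ}
    (h : Rh F n (dc Q) 1 (2 * M) M) : ∃ z : Cfsg.POmega F ⇑Q, orderOf z = 2 * M := by
  obtain ⟨g, hg, hord, v, hv0, hv⟩ := transport_rh h2 hQ hn h
  obtain ⟨x, rfl⟩ := exists_lin h2 hQ (by omega) hg
  have hG := good_of_finite hQ (by rw [finrank_fintype_fun_eq_card]; omega)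
  refine ⟨QuotientGroup.mk x, ?_⟩
  rw [orderOf_lin] at hord
  apply Nat.dvd_antisymm
  · rw [← hord]
    exact orderOf_map_dvd (QuotientGroup.mk' _) x
  · set N := orderOf (QuotientGroup.mk x : Cfsg.POmega F ⇑Q) with hN
    have h3 : x ^ N ∈ Subgroup.center (Cfsg.Omega F ⇑Q) := by
      rw [← QuotientGroup.eq_one_iff, QuotientGroup.mk_pow, hN, pow_orderOf_eq_one]
    obtain ⟨w, hw0, hw⟩ := hG.sing
    rcases (LieClassical.OrthCenter.mem_center_omega_iff (nondeg_bilin hQ) (by omega) ⟨w, hw0, hw⟩ _).1 h3 with h4 | h4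
    · rw [← hord]
      apply orderOf_dvd_of_pow_eq_one
      apply Subtype.ext
      apply Subtype.ext
      apply Units.ext
      exact h4
    · exfalso
      have h5 : ∀ u : ι → F, (lin Q (x ^ N)) u = -u := by
        intro u
        have h6 : (lin Q (x ^ N)) u =
          ((((x ^ N : Cfsg.Omega F ⇑Q) : Cfsg.isometryGroup F ⇑Q) : Matrix.GeneralLinearGroup ι F) :
            Matrix ι ι F).mulVec u := rfl
        rw [h6, h4, Matrix.neg_mulVec, Matrix.one_mulVec]
      have h6 : x ^ (2 * N) = 1 := by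
        apply lin_injective Q
        apply LinearEquiv.ext
        intro u
        rw [two_mul, pow_add, map_mul, map_one, LinearEquiv.mul_apply, h5, h5, neg_neg]
        rfl
      have h7 := orderOf_dvd_of_pow_eq_one h6
      rw [hord] at h7
      obtain ⟨k, hk⟩ := Nat.dvd_of_mul_dvd_mul_left two_pos h7
      have h8 : ∀ k : ℕ, ((lin Q x) ^ (M * k)) v = v := by
        intro k
        induction k with
        | zero => rw [mul_zero, pow_zero]; rfl
        | succ k ih => rw [mul_add, mul_one, pow_add, LinearEquiv.mul_apply, hv, ih]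
      have h9 := h5 v
      rw [map_pow, hk, h8] at h9
      apply hv0
      have h10 : (2 : F) • v = 0 := by
        rw [two_smul]
        nth_rewrite 1 [h9]
        exact neg_add_cancel v
      exact (smul_eq_zero.1 h10).resolve_left h2

end groups

section bounds

open Cfsg.Agent.H72 Cfsg.Agent.H72.AdjOrth Cfsg.Agent.H72.AdjCoc Cfsg.Agent.H72.WGr Cfsg.Agent.H228.FourS

variable {F : Type*} [Field F] [Fintype F]

/-- elements of order `4 r` in `PΩ(V)`, even dimension -/
theorem four_even (h2 : (2 : F) ≠ 0) {ι : Type} [Fintype ι] [DecidableEq ι] {Q : QuadraticForm F (ι → F)}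
    (hQ : Nondeg Q) {m : ℕ} (hm : 4 ≤ m) (hn : Fintype.card ι = 2 * m) {r : ℕ} (hr : r.Prime) (hr2 : r ≠ 2)
    (h : r ∣ Fintype.card F ∨ eta (ee (Fintype.card F) r) + 2 ≤ m) :
    ∃ z : Cfsg.POmega F ⇑Q, orderOf z = 4 * r := by
  classical
  have h4 : 4 * r = 2 * (2 * r) := by ring
  have h5 : Rh F (2 * m) (dc Q) 1 (4 * r) (2 * r) := by
    by_cases hd : r ∣ Fintype.card F
    · exact (four_rz_p h2 hr hr2 hd (by omega) (dc_cases hQ)).2 (by omega)
    · exact four_rh h2 hr hr2 hd (by have := h.resolve_left hd; omega) (dc_cases hQ)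
  rw [h4] at h5 ⊢
  exact exists_POmega h2 hQ hn (by omega) h5

/-- elements of order `4 r` in `Ω(V)`, odd dimension -/
theorem four_odd (h2 : (2 : F) ≠ 0) {ι : Type} [Fintype ι] [DecidableEq ι] {Q : QuadraticForm F (ι → F)}
    (hQ : Nondeg Q) {m : ℕ} (hm : 3 ≤ m) (hn : Fintype.card ι = 2 * m + 1) {r : ℕ} (hr : r.Prime) (hr2 : r ≠ 2)
    (h : r ∣ Fintype.card F ∨ eta (ee (Fintype.card F) r) + 1 ≤ m) :
    ∃ z : Cfsg.POmega F ⇑Q, orderOf z = 4 * r := by
  classical
  have h5 : Rz F (2 * m + 1) (dc Q) 1 (4 * r) := by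
    by_cases hd : r ∣ Fintype.card F
    · exact (four_rz_p h2 hr hr2 hd (by omega) (dc_cases hQ)).1
    · exact (four_rh h2 hr hr2 hd (by have := h.resolve_left hd; omega) (dc_cases hQ)).rz
  exact (range_POmega h2 hQ (by omega) (by rw [hn]; exact ⟨m, rfl⟩) _).2 (transport_rz h2 hQ hn h5)

theorem dc_minus [DecidableEq F] (h2 : (2 : F) ≠ 0) {a b : F} {m : ℕ}
    (hab : ∀ z₁ z₂ : F, z₁ ^ 2 + a * z₁ * z₂ + b * z₂ ^ 2 = 0 → z₁ = 0 ∧ z₂ = 0) :
    dc (minusForm m F a b) = -quadraticChar F (-1) ^ (m + 1) := by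
  let e : (((Fin m → F) × (Fin m → F)) × (Fin 2 → F)) ≃ₗ[F] ((Fin m ⊕ Fin m) ⊕ Fin 2 → F) :=
    ((LinearEquiv.sumArrowLequivProdArrow (Fin m) (Fin m) F F).symm.prodCongr (LinearEquiv.refl F _)).trans
      (LinearEquiv.sumArrowLequivProdArrow (Fin m ⊕ Fin m) (Fin 2) F F).symm
  have he : IsIso ((hyp F m).prod (binF a b)) (minusForm m F a b) e := by
    rintro ⟨⟨x, y⟩, z⟩
    rw [coe_minusForm, quadFormMinus_apply, QuadraticMap.prod_apply, binF_apply]
    rfl
  rw [dc_iso he, dc_prod, dc_hyp, dc_binF]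
  have h3 : quadraticChar F (4 * b - a ^ 2) = quadraticChar F (-1) * quadraticChar F (a ^ 2 - 4 * b) := by
    rw [← map_mul]
    congr 1
    ring
  rw [h3, minus_disc h2 hab]
  ring

/-- the class of type plus in `PΩ⁻₂ₘ(q)`, `m` even -/
theorem four_minus (h2 : (2 : F) ≠ 0) {m : ℕ} (hm : 4 ≤ m) (hme : Even m) {a b : F}
    (hab : ∀ z₁ z₂ : F, z₁ ^ 2 + a * z₁ * z₂ + b * z₂ ^ 2 = 0 → z₁ = 0 ∧ z₂ = 0) {r : ℕ} (hr : r.Prime) (hr2 : r ≠ 2)
    (hrq : ¬ r ∣ Fintype.card F) (h : ee (Fintype.card F) r + 1 = m) :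
    ∃ z : Cfsg.POmega F (Cfsg.quadFormMinus (m - 1) F a b), orderOf z = 4 * r := by
  classical
  have h4 : 4 * r = 2 * (2 * r) := by ring
  have hQ := nondeg_minusForm (m - 1) F a b hab
  have hdc : dc (minusForm (m - 1) F a b) = -1 := by
    rw [dc_minus h2 hab, Nat.sub_add_cancel (by omega)]
    obtain ⟨j, rfl⟩ := hme
    have h5 : quadraticChar F (-1) ^ 2 = 1 := quadraticChar_sq_one (neg_ne_zero.2 one_ne_zero)
    rw [← two_mul, pow_mul, h5, one_pow]
  have h5 : Rh F (2 * m) (dc (minusForm (m - 1) F a b)) 1 (4 * r) (2 * r) := by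
    rw [hdc]
    exact four_rh_minus h2 hr hr2 hrq hme h
  rw [h4] at h5 ⊢
  rw [← coe_minusForm]
  refine exists_POmega h2 hQ ?_ (by omega) h5
  simp only [Fintype.card_sum, Fintype.card_fin]
  omega

/-- **`Ω₂ₘ₊₁(q)`, `m ≥ 3`, `q` odd.** -/
theorem far_odd {m : ℕ} (hm : 3 ≤ m) (h2 : (2 : F) ≠ 0) {C : Finset ℕ}
    (hC : OCoc (Cfsg.POmega F (Cfsg.quadFormOdd m F)) C) (hF : Far4 (Cfsg.POmega F (Cfsg.quadFormOdd m F)) C) :
    C.card ≤ 2 := by
  obtain ⟨p, hp, -, hp1, hp2⟩ := exists_char F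
  have hcard : Nat.card F = Fintype.card F := Nat.card_eq_fintype_card
  have hQ := nondeg_oddForm m F h2
  have hn : Fintype.card (Unit ⊕ (Fin m ⊕ Fin m)) = 2 * m + 1 := by simp only [_root_.Fintype.card_sum, _root_.Fintype.card_unique, _root_.Fintype.card_fin]; omega
  have key : ∀ r : ℕ, r.Prime → r ≠ 2 → (r ∣ Fintype.card F ∨ eta (ee (Fintype.card F) r) + 1 ≤ m) →
      ∃ z : Cfsg.POmega F (Cfsg.quadFormOdd m F), orderOf z = 4 * r := by
    intro r hr hr2 h
    have := four_odd h2 hQ hm hn hr hr2 h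
    rwa [coe_oddForm] at this
  have h1 := far_of_WG (odd (F := F) (m := m) h2 hm (by rw [hcard]; exact hp1) (by rw [hcard]; exact hp2)) (j := m - 1)
    (by omega)
    (fun r hr hr2 _ hw => by
      refine key r hr hr2 ?_
      by_cases hd : r ∣ Fintype.card F
      · exact Or.inl hd
      · right
        rw [hcard, wO, if_neg (by rw [not_or]; exact ⟨hr2, hd⟩)] at hw
        omega) hC hF (Or.inr (by omega))
  have h3 := card_cl_filter m (m - 1)
  rw [NS] at h3
  omega

/-- **`PΩ⁺₂ₘ(q)`, `m ≥ 4`, `q` odd.** -/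
theorem far_plus {m : ℕ} (hm : 4 ≤ m) (h2 : (2 : F) ≠ 0) {C : Finset ℕ}
    (hC : OCoc (Cfsg.POmega F (Cfsg.quadFormPlus m F)) C) (hF : Far4 (Cfsg.POmega F (Cfsg.quadFormPlus m F)) C) :
    C.card ≤ 2 := by
  classical
  obtain ⟨p, hp, -, hp1, hp2⟩ := exists_char F
  have hcard : Nat.card F = Fintype.card F := Nat.card_eq_fintype_card
  have hQ := nondeg_plusForm m F
  have hn : Fintype.card (Fin m ⊕ Fin m) = 2 * m := by simp only [_root_.Fintype.card_sum, _root_.Fintype.card_fin]; omega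
  have key : ∀ r : ℕ, r.Prime → r ≠ 2 → (r ∣ Fintype.card F ∨ eta (ee (Fintype.card F) r) + 2 ≤ m) →
      ∃ z : Cfsg.POmega F (Cfsg.quadFormPlus m F), orderOf z = 4 * r := by
    intro r hr hr2 h
    have := four_even h2 hQ hm hn hr hr2 h
    rwa [coe_plusForm] at this
  have h1 := far_of_WG (plus (F := F) (m := m) hm (by rw [hcard]; exact hp1) (by rw [hcard]; exact hp2)) (j := m - 2)
    (by omega)
    (fun r hr hr2 _ hw => by
      refine key r hr hr2 ?_
      by_cases hd : r ∣ Fintype.card F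
      · exact Or.inl hd
      · right
        rw [hcard, wO, if_neg (by rw [not_or]; exact ⟨hr2, hd⟩)] at hw
        omega) hC hF (Or.inr (by omega))
  have h3 : ((cl 0 (m - 1) ∪ topP m).filter fun k => m - 2 < eta k).card ≤ 2 := by
    rw [Finset.filter_union]
    refine (Finset.card_union_le _ _).trans ?_
    have h4 := card_cl_filter (m - 1) (m - 2)
    have h5 := (Finset.card_le_card (Finset.filter_subset (fun k => m - 2 < eta k) (topP m))).trans (card_topP m)
    rw [NS] at h4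
    omega
  exact h1.trans h3

/-- **`PΩ⁻₂ₘ(q)`, `m ≥ 4`, `q` odd.** -/
theorem far_minus {m : ℕ} (hm : 4 ≤ m) (h2 : (2 : F) ≠ 0) {a b : F}
    (hab : ∀ z₁ z₂ : F, z₁ ^ 2 + a * z₁ * z₂ + b * z₂ ^ 2 = 0 → z₁ = 0 ∧ z₂ = 0) {C : Finset ℕ}
    (hC : OCoc (Cfsg.POmega F (Cfsg.quadFormMinus (m - 1) F a b)) C)
    (hF : Far4 (Cfsg.POmega F (Cfsg.quadFormMinus (m - 1) F a b)) C) :
    C.card ≤ 2 := by
  classical
  obtain ⟨p, hp, -, hp1, hp2⟩ := exists_char F
  have hcard : Nat.card F = Fintype.card F := Nat.card_eq_fintype_card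
  have hQ := nondeg_minusForm (m - 1) F a b hab
  have hn : Fintype.card ((Fin (m - 1) ⊕ Fin (m - 1)) ⊕ Fin 2) = 2 * m := by simp only [_root_.Fintype.card_sum, _root_.Fintype.card_fin]; omega
  have key : ∀ r : ℕ, r.Prime → r ≠ 2 → (r ∣ Fintype.card F ∨ eta (ee (Fintype.card F) r) + 2 ≤ m) →
      ∃ z : Cfsg.POmega F (Cfsg.quadFormMinus (m - 1) F a b), orderOf z = 4 * r := by
    intro r hr hr2 h
    have := four_even h2 hQ hm hn hr hr2 h
    rwa [coe_minusForm] at this
  have W := minus (F := F) (m := m) hm hab (by rw [hcard]; exact hp1) (by rw [hcard]; exact hp2)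
  -- the classes which occur
  have hw : ∀ r ∈ C, ¬ r ∣ Fintype.card F ∧ m - 2 < eta (ee (Fintype.card F) r) := by
    intro r hr
    have h3 : ¬ (r ∣ Fintype.card F ∨ eta (ee (Fintype.card F) r) + 2 ≤ m) :=
      fun h => hF r hr (key r (hC.prime r hr) (hC.ne2 r hr) h)
    rw [not_or] at h3
    exact ⟨h3.1, by omega⟩
  have hsub : (C.image (ee (Nat.card F))) ⊆
      ((cl 0 (m - 1) ∪ {2 * m}).filter fun k => m - 2 < eta k ∧ ¬ (Even m ∧ k + 1 = m)) := by
    intro k hk
    obtain ⟨r, hr, rfl⟩ := Finset.mem_image.1 hk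
    obtain ⟨h4, h5⟩ := hw r hr
    have h6 : r ≠ p := fun h => h4 (h ▸ hp2)
    rw [Finset.mem_filter, hcard]
    refine ⟨?_, h5, ?_⟩
    · have := W.mem r (hC.prime r hr) (hC.ne2 r hr) (hC.dvd r hr) h6
      rwa [hcard] at this
    · rintro ⟨h7, h8⟩
      exact hF r hr (four_minus h2 hm h7 hab (hC.prime r hr) (hC.ne2 r hr) h4 h8)
  have hinj : Set.InjOn (ee (Nat.card F)) (C : Set ℕ) := by
    intro r hr s hs hrs
    have hr := Finset.mem_coe.1 hr
    have hs := Finset.mem_coe.1 hs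
    by_contra hne
    exact hC.nadj r hr s hs hne (W.hκ r s (hC.prime r hr) (hC.prime s hs) (hC.ne2 r hr) (hC.ne2 s hs) (hC.dvd r hr)
      (hC.dvd s hs) hne (fun h => (hw r hr).1 (h ▸ hp2)) (fun h => (hw s hs).1 (h ▸ hp2)) hrs)
  have h3 : ((cl 0 (m - 1) ∪ {2 * m}).filter fun k => m - 2 < eta k ∧ ¬ (Even m ∧ k + 1 = m)) ⊆
      {2 * m, 2 * (m - 1)} := by
    intro k hk
    rw [Finset.mem_filter, Finset.mem_union, mem_cl, Finset.mem_singleton] at hk
    obtain ⟨h4, h5, h6⟩ := hk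
    rw [Finset.mem_insert, Finset.mem_singleton]
    rcases h4 with h4 | h4
    · right
      have h7 : eta k = m - 1 := by omega
      rw [eta] at h7
      split_ifs at h7 with h8
      · obtain ⟨j, hj⟩ := h8
        omega
      · exfalso
        apply h6
        refine ⟨?_, by omega⟩
        have h9 : Odd k := Nat.not_even_iff_odd.1 h8
        obtain ⟨j, hj⟩ := h9
        exact ⟨j + 1, by omega⟩
    · left
      exact h4
  calc C.card = (C.image (ee (Nat.card F))).card := (Finset.card_image_of_injOn hinj).symm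
    _ ≤ _ := Finset.card_le_card (hsub.trans h3)
    _ ≤ 2 := Finset.card_le_two

end bounds

end Cfsg.Agent.H228.FourO
end

private theorem dce_60afa63370bf : _root_.True := by
  try have : _root_.True := by simp only [_root_.Cfsg.Agent.H228.FourS.wm.eq_1]
  try have : _root_.True := by simp only [_root_.Cfsg.Agent.H160.QReal.Rz.congr_simp]
  exact _root_.True.intro
end

-- part: H375/Odd/Std
section
prune_inst 0x401506404414002000000051412200000500000b000000800c82009020908404804c200402c800414080281810801000000000000424000000e00000000040000000002041040a008800008000000000000000000000000000000000000000000000000000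
set_option linter.all false
open scoped Cfsg.Agent.FastGrp

-- part: H375/CovTwo/Psl
section
/-!
# Covers of `PSL n F` by 2-groups, `F` of characteristic two, `n ≥ 3` (helper375)

`cov_two` : for every nonzero finite elementary abelian 2-group `V` with an action `φ` of `PSL n F` there are `x`, `v` with
`∑_{i < orderOf x} φ (x ^ i) v ≠ 0` such that `2 * orderOf x` is not an element order of `PSL n F`.
-/

set_option autoImplicit false
set_option linter.unusedVariables false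

namespace Cfsg.Agent.H375.CovTwo

open Module Matrix Finset

universe u w

/-! ### An element of order nine of `Sp (6, 2)` -/

/-- The matrix. -/
def mNine : Matrix (Fin 3 ⊕ Fin 3) (Fin 3 ⊕ Fin 3) (ZMod 2) :=
  Matrix.fromBlocks !![0, 1, 0; 0, 0, 0; 1, 0, 0] !![0, 0, 0; 0, 0, 1; 1, 0, 0]
    !![0, 0, 0; 0, 0, 1; 0, 0, 0] !![0, 1, 0; 0, 0, 0; 1, 0, 0]

theorem mNine_symp : mNine * Matrix.J (Fin 3) (ZMod 2) * mNine.transpose = Matrix.J (Fin 3) (ZMod 2) := by
  decide +kernel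

theorem mNine_pow : mNine ^ 9 = 1 := by decide +kernel

theorem mNine_pow_three : mNine ^ 3 ≠ 1 := by decide +kernel

theorem exists_nine {F : Type*} [Field F] [CharP F 2] :
    ∃ x : Matrix.symplecticGroup (Fin 3) F, orderOf x = 3 ^ (1 + 1) := by
  let f : ZMod 2 →+* F := ZMod.castHom (dvd_refl 2) F
  have hf : Function.Injective f := f.injective
  let g : Matrix (Fin 3 ⊕ Fin 3) (Fin 3 ⊕ Fin 3) (ZMod 2) →+* Matrix (Fin 3 ⊕ Fin 3) (Fin 3 ⊕ Fin 3) F := f.mapMatrix
  have hg : Function.Injective g := by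
    intro A B h
    ext i j
    exact hf (congrFun (congrFun h i) j)
  have hJ : g (Matrix.J (Fin 3) (ZMod 2)) = Matrix.J (Fin 3) F := by
    show (Matrix.J (Fin 3) (ZMod 2)).map f = _
    have h1 : (-1 : Matrix (Fin 3) (Fin 3) (ZMod 2)).map f = -1 := by
      have h2 := (f.mapMatrix (m := Fin 3)).map_neg 1
      rw [map_one] at h2
      exact h2
    have h3 : (1 : Matrix (Fin 3) (Fin 3) (ZMod 2)).map f = 1 := (f.mapMatrix (m := Fin 3)).map_one
    unfold Matrix.J
    rw [Matrix.fromBlocks_map, h1, h3, Matrix.map_zero _ f.map_zero]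
  have hmem : g mNine ∈ Matrix.symplecticGroup (Fin 3) F := by
    rw [SymplecticGroup.mem_iff]
    have h1 := congrArg g mNine_symp
    rw [map_mul, map_mul, hJ] at h1
    exact h1
  refine ⟨⟨g mNine, hmem⟩, ?_⟩
  have : Fact (Nat.Prime 3) := ⟨Nat.prime_three⟩
  refine orderOf_eq_prime_pow (n := 1) ?_ ?_
  · intro h
    apply mNine_pow_three
    apply hg
    rw [map_pow, map_one]
    exact congrArg Subtype.val h
  · apply Subtype.ext
    show g mNine ^ 9 = 1
    rw [← map_pow, mNine_pow, map_one]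

/-! ### Torus orders -/

theorem exists_torus {F : Type*} [Field F] [Fintype F] [CharP F 2] {m : ℕ} (hm : 1 ≤ m) :
    ∃ l a : ℕ, l.Prime ∧ l ≠ 2 ∧ (∀ k, l ^ (a + 1) ∣ Fintype.card F ^ k - 1 ↔ 2 * m ∣ k) ∧
      (l ^ (a + 1)).Coprime (Fintype.card F - 1) ∧ ∃ x : Matrix.symplecticGroup (Fin m) F, orderOf x = l ^ (a + 1) := by
  classical
  obtain ⟨f, hp, hcard⟩ := FiniteField.card F 2
  have hq2 : 2 ≤ Fintype.card F := Fintype.one_lt_card
  have hqe : Even (Fintype.card F) := by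
    rw [hcard]
    exact (Nat.even_pow.2 ⟨even_two, f.pos.ne'⟩)
  by_cases h6 : Fintype.card F = 2 ∧ 2 * m = 6
  · obtain ⟨hq, hm6⟩ := h6
    have hm3 : m = 3 := by omega
    subst hm3
    refine ⟨3, 1, Nat.prime_three, by norm_num, ?_, ?_, exists_nine⟩
    · intro k
      rw [hq, Lib.Zsigmondy.dvd_pow_sub_one_iff (by norm_num)]
      have h1 : orderOf ((2 : ℕ) : ZMod (3 ^ (1 + 1))) = 6 := by
        rw [orderOf_eq_iff (by norm_num)]
        refine ⟨by decide +kernel, ?_⟩
        intro j hj hj0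
        interval_cases j <;> decide +kernel
      rw [h1]
    · rw [hq]; norm_num
  · obtain ⟨l, hl, h1, -, h3⟩ := Lib.Zsigmondy.exists_primitive (a := Fintype.card F) (n := 2 * m) hq2 (by omega) (by
      rintro - ⟨k, hk⟩
      rcases Nat.eq_zero_or_pos k with h0 | h0
      · rw [h0, pow_zero] at hk; omega
      · have : Even (2 ^ k) := (Nat.even_pow.2 ⟨even_two, h0.ne'⟩)
        rw [← hk] at this
        exact absurd hqe (Nat.not_even_iff_odd.2 (by
          rcases Nat.even_or_odd (Fintype.card F) with h | h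
          · exact absurd this (Nat.not_even_iff_odd.2 h.add_one)
          · exact h))) h6
    refine ⟨l, 0, hl, ?_, ?_, ?_, ?_⟩
    · rintro rfl
      exact h3 hqe.two_dvd
    · intro k
      rw [zero_add, pow_one]
      exact h1 k
    · rw [zero_add, pow_one, hl.coprime_iff_not_dvd]
      intro h4
      have h5 := (h1 1).1 (by rwa [pow_one])
      have := Nat.le_of_dvd one_pos h5
      omega
    · rw [zero_add, pow_one]
      have := Fact.mk hl
      have hcardS := LieClassical.SympCount.card_symplecticGroup (F := F) m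
      apply exists_prime_orderOf_dvd_card'
      rw [hcardS]
      refine dvd_mul_of_dvd_right ?_ _
      refine dvd_trans ?_ (Finset.dvd_prod_of_mem _ (Finset.mem_range.2 (show m - 1 < m by omega)))
      rw [Nat.sub_add_cancel hm]
      exact (h1 _).2 (dvd_refl _)

/-! ### The projective group -/

variable {F : Type u} [Field F] {n : ℕ}

local notation "SLn" => Matrix.SpecialLinearGroup (Fin n) F
local notation "PSLn" => Matrix.ProjectiveSpecialLinearGroup (Fin n) F

end Cfsg.Agent.H375.CovTwo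
end

-- part: H375/Odd/Std
section
/-!
# The standard quadratic forms, hyperbolic pairs, averages, frames (helper375)
-/

set_option autoImplicit false
set_option linter.unusedVariables false
set_option linter.unusedSectionVars false

namespace Cfsg.Agent.H375.Odd

open Module Finset QuadraticMap Cfsg
open Cfsg.Agent.LieClassical.OrthCount Cfsg.Agent.LieClassical.OmegaReindex Cfsg.Agent.LieClassical
open Cfsg.Agent.ClassicalGeometry

section General

variable {F : Type*} [Field F] [Fintype F] [CharP F 2] {V : Type*} [AddCommGroup V] [Module F V] [Fintype V]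
  [FiniteDimensional F V] {β : V →ₗ[F] V →ₗ[F] F} {Q : V → F} {ψ : F → ℤ}

theorem card_S (W : Submodule F V) (S : Finset V) (hmem : ∀ v, v ∈ S ↔ v ∈ W) :
    (S.card : ℤ) = (Fintype.card F : ℤ) ^ finrank F W := by
  classical
  have h3 : S.card = Fintype.card W := by
    rw [← Fintype.card_coe]
    exact Fintype.card_congr (Equiv.subtypeEquivRight hmem)
  rw [h3, Module.card_eq_pow_finrank (K := F) (V := W)]
  push_cast
  rfl

/-- The Gauss sum of an anisotropic plane. -/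
theorem GS_aniso (hψ : Psi ψ) (h : QF Q β) (W : Submodule F V) (hW : finrank F W = 2)
    (han : ∀ v ∈ W, Q v = 0 → v = 0) : GS ψ Q W = -(Fintype.card F : ℤ) := by
  classical
  set S := univ.filter (fun v => v ∈ W) with hS
  have hmem : ∀ v, v ∈ S ↔ v ∈ W := fun v => by rw [hS, mem_filter]; simp
  have hG : GS ψ Q W = ∑ v ∈ S, ψ (Q v) := by
    rw [GS]
  have hcard := card_S W S hmem
  rw [hW] at hcard
  rw [hG]
  set G := ∑ v ∈ S, ψ (Q v) with hGG
  have hq2 : 2 ≤ Fintype.card F := Fintype.one_lt_card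
  have h1 : ∑ c : F, ∑ v ∈ S, ψ (c * Q v) = (Fintype.card F : ℤ) := by
    rw [Finset.sum_comm]
    have h2 : ∀ v ∈ S, ∑ c : F, ψ (c * Q v) = if v = 0 then (Fintype.card F : ℤ) else 0 := by
      intro v hv
      split_ifs with h0
      · subst h0
        simp [h.zero, hψ.zero]
      · have hQz : Q v ≠ 0 := fun h1 => h0 (han v ((hmem v).1 hv) h1)
        obtain ⟨y, hy⟩ := hψ.ex
        refine hψ.sum_eq_zero (fun c : F => c * Q v) (fun a b => add_mul _ _ _) ⊤ univ (fun a => by simp)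
          (a₀ := y / Q v) trivial ?_
        rw [div_mul_cancel₀ _ hQz, hy]
    rw [Finset.sum_congr rfl h2, Finset.sum_ite_eq' S (0 : V), if_pos ((hmem 0).2 W.zero_mem)]
  have h3 : ∀ c : F, c ≠ 0 → ∑ v ∈ S, ψ (c * Q v) = G := by
    intro c hc
    have : Fact (Nat.Prime 2) := ⟨Nat.prime_two⟩
    have : PerfectRing F 2 := inferInstance
    obtain ⟨d, hd⟩ := (frobeniusEquiv F 2).surjective c
    have hd' : d ^ 2 = c := by rw [← hd, frobeniusEquiv_apply, frobenius_def]
    have hd0 : d ≠ 0 := by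
      rintro rfl
      rw [zero_pow two_ne_zero] at hd'
      exact hc hd'.symm
    rw [hGG]
    refine Finset.sum_equiv (LinearEquiv.smulOfNeZero F V d hd0).toEquiv ?_ ?_
    · intro v
      rw [hmem, hmem]
      exact (W.smul_mem_iff hd0).symm
    · intro v _
      congr 1
      show c * Q v = Q (d • v)
      rw [h.smul, hd']
  have h4 : ∑ c : F, ∑ v ∈ S, ψ (c * Q v) = (Fintype.card F : ℤ) ^ 2 + ((Fintype.card F : ℤ) - 1) * G := by
    rw [← Finset.add_sum_erase univ _ (Finset.mem_univ (0 : F))]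
    congr 1
    · rw [← hcard]
      simp [hψ.zero]
    · rw [Finset.sum_congr rfl (fun c hc => h3 c (Finset.ne_of_mem_erase hc)), Finset.sum_const,
        Finset.card_erase_of_mem (Finset.mem_univ _), Finset.card_univ, nsmul_eq_mul, Nat.cast_sub (by omega)]
      simp
  rw [h1] at h4
  have h5 : ((Fintype.card F : ℤ) - 1) * (G + Fintype.card F) = 0 := by linear_combination -h4
  rcases mul_eq_zero.1 h5 with h6 | h6
  · have : (2 : ℤ) ≤ Fintype.card F := by exact_mod_cast hq2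
    omega
  · omega

/-- A hyperbolic pair in a plane with positive Gauss sum. -/
theorem exists_pair (hψ : Psi ψ) (h : QF Q β) (hβ : Alt β) (W : Submodule F V) (hW : finrank F W = 2)
    (hnd : ∀ u ∈ W, (∀ v ∈ W, β u v = 0) → u = 0) (hG : GS ψ Q W = Fintype.card F) :
    ∃ e ∈ W, ∃ f ∈ W, Q e = 0 ∧ β e f = 1 := by
  have h1 : ∃ e ∈ W, Q e = 0 ∧ e ≠ 0 := by
    by_contra hcon
    push Not at hcon
    have h2 := GS_aniso hψ h W hW hcon
    rw [hG] at h2
    have : (0 : ℤ) < Fintype.card F := by exact_mod_cast Fintype.card_pos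
    omega
  obtain ⟨e, he, hQe, he0⟩ := h1
  obtain ⟨f, hf, hef⟩ : ∃ f ∈ W, β e f ≠ 0 := by
    by_contra hcon
    push Not at hcon
    exact he0 (hnd e he hcon)
  refine ⟨e, he, (β e f)⁻¹ • f, W.smul_mem _ hf, hQe, ?_⟩
  rw [map_smul, smul_eq_mul, inv_mul_cancel₀ hef]

/-- Averages. -/
theorem exists_avg (h : QF Q β) {s : V ≃ₗ[F] V} (hs : s ∈ Isom β) {N : ℕ} (hN : Odd N) (hsN : s ^ N = 1) :
    ∃ Q' : V → F, QF Q' β ∧ s ∈ OQ Q' ∧ ∀ v, s v = v → Q v = 0 → Q' v = 0 := by
  have hsi : ∀ i : ℕ, s ^ i ∈ Isom β := fun i => (Isom β).pow_mem hs i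
  refine ⟨fun v => ∑ i ∈ range N, Q ((s ^ i) v), ⟨?_, ?_⟩, ?_, ?_⟩
  · intro u v
    have h1 : ∀ i ∈ range N, Q ((s ^ i) (u + v)) = Q ((s ^ i) u) + Q ((s ^ i) v) + β u v := by
      intro i _
      rw [map_add, h.add, hsi i u v]
    rw [Finset.sum_congr rfl h1, Finset.sum_add_distrib, Finset.sum_add_distrib, Finset.sum_const, card_range]
    congr 1
    obtain ⟨k, hk⟩ := hN
    rw [hk, add_smul, one_smul, mul_comm, mul_smul, two_smul, CharTwo.add_self_eq_zero, smul_zero, zero_add]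
  · intro c v
    rw [Finset.mul_sum]
    refine Finset.sum_congr rfl fun i _ => ?_
    rw [map_smul, h.smul]
  · intro v
    show ∑ i ∈ range N, Q ((s ^ i) (s v)) = ∑ i ∈ range N, Q ((s ^ i) v)
    have h1 : ∀ i : ℕ, (s ^ i) (s v) = (s ^ (i + 1)) v := fun i => by rw [pow_succ]; rfl
    have h2 := Finset.sum_range_succ (fun i => Q ((s ^ i) v)) N
    have h3 := Finset.sum_range_succ' (fun i => Q ((s ^ i) v)) N
    rw [h2, hsN] at h3
    have h4 : ∑ i ∈ range N, Q ((s ^ i) (s v)) = ∑ i ∈ range N, Q ((s ^ (i + 1)) v) :=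
      Finset.sum_congr rfl fun i _ => by rw [h1]
    rw [h4]
    have h5 : (s ^ 0) v = (1 : V ≃ₗ[F] V) v := by rw [pow_zero]
    rw [h5] at h3
    exact (add_right_cancel h3).symm
  · intro v hv hQv
    refine Finset.sum_eq_zero ?_
    rintro i -
    have : (s ^ i) v = v := by
      induction i with
      | zero => rw [pow_zero]; rfl
      | succ i ih =>
        rw [pow_succ]
        show (s ^ i) (s v) = v
        rw [hv, ih]
    rw [this, hQv]

end General

/-! ### Gauss sums of the standard forms -/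

section Std

variable {F : Type*} [Field F] [Fintype F] [CharP F 2] {ψ : F → ℤ}

theorem GS_top {V : Type*} [AddCommGroup V] [Module F V] [Fintype V] (Q : V → F) : GS ψ Q ⊤ = ∑ v : V, ψ (Q v) := by
  classical
  rw [GS]
  congr 1
  ext v
  simp

open Classical in
theorem GS_plus (hψ : Psi ψ) (n : ℕ) : GS ψ (⇑(quadPlus n F)) ⊤ = (Fintype.card F : ℤ) ^ n := by
  rw [GS_top, coe_quadPlus]
  exact sum_hyp hψ n

open Classical in
theorem GS_minus (hψ : Psi ψ) (m : ℕ) {a b : F}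
    (hab : ∀ z₁ z₂ : F, z₁ ^ 2 + a * z₁ * z₂ + b * z₂ ^ 2 = 0 → z₁ = 0 ∧ z₂ = 0) :
    GS ψ (⇑(quadMinus m F a b)) ⊤ = -(Fintype.card F : ℤ) ^ (m + 1) := by
  rw [GS_top, coe_quadMinus]
  rw [← (Equiv.sumArrowEquivProdArrow (Fin m ⊕ Fin m) (Fin 2) F).symm.sum_comp, Fintype.sum_prod_type]
  have h1 : ∀ (x : Fin m ⊕ Fin m → F) (z : Fin 2 → F),
      ψ (Cfsg.quadFormMinus m F a b ((Equiv.sumArrowEquivProdArrow (Fin m ⊕ Fin m) (Fin 2) F).symm (x, z))) =
        ψ (∑ i : Fin m, x (.inl i) * x (.inr i)) * ψ (z 0 ^ 2 + a * z 0 * z 1 + b * z 1 ^ 2) := by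
    intro x z
    rw [← hψ.add]
    rfl
  simp only [h1]
  rw [← Finset.sum_mul_sum, sum_hyp hψ m, sum_aniso hψ a b hab]
  ring

/-! ### Frames -/

theorem frame_plus {m n : ℕ} (h : m ≤ n) :
    CovTwo.Fr (bet n F) (fun i : Fin m => Pi.single (.inl (Fin.castLE h i)) 1)
      (fun i : Fin m => Pi.single (.inr (Fin.castLE h i)) 1) := by
  have hinj : ∀ i j : Fin m, Fin.castLE h i = Fin.castLE h j ↔ i = j := fun i j => (Fin.castLE_injective h).eq_iff
  refine ⟨fun u v => polar_comm _ _ _, fun i j => ?_, fun i j => ?_, fun i j => ?_⟩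
  · rw [bet_eq, SympBasic.sympForm_single_inl_left, CharTwo.neg_eq, Pi.single_apply]
    simp only [Sum.inr.injEq, hinj]
  · rw [bet_eq, SympBasic.sympForm_single_inl_left, CharTwo.neg_eq, Pi.single_apply]
    simp
  · rw [bet_eq, SympBasic.sympForm_single_inr_left, Pi.single_apply]
    simp

theorem plus_inl {n : ℕ} (i : Fin n) : quadPlus n F (Pi.single (.inl i) 1) = 0 := by
  rw [coe_quadPlus, quadFormPlus]
  exact Finset.sum_eq_zero fun j _ => by simp [Pi.single_apply]

theorem plus_inr {n : ℕ} (i : Fin n) : quadPlus n F (Pi.single (.inr i) 1) = 0 := by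
  rw [coe_quadPlus, quadFormPlus]
  exact Finset.sum_eq_zero fun j _ => by simp [Pi.single_apply]

/-- The polar form of the minus form. -/
noncomputable def betm (k : ℕ) (F : Type*) [Field F] (a b : F) :
    ((Fin k ⊕ Fin k) ⊕ Fin 2 → F) →ₗ[F] ((Fin k ⊕ Fin k) ⊕ Fin 2 → F) →ₗ[F] F := polarBilin (quadMinus k F a b)

theorem betm_eq {k : ℕ} (a b : F) (x y : (Fin k ⊕ Fin k) ⊕ Fin 2 → F) : betm k F a b x y =
    (∑ i : Fin k, (x (.inl (.inl i)) * y (.inl (.inr i)) + y (.inl (.inl i)) * x (.inl (.inr i))))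
        + (2 * x (.inr 0) * y (.inr 0) + a * (x (.inr 0) * y (.inr 1) + y (.inr 0) * x (.inr 1))
          + 2 * b * x (.inr 1) * y (.inr 1)) := polar_quadMinus a b x y

theorem frame_minus {m k : ℕ} (h : m ≤ k) (a b : F) :
    CovTwo.Fr (betm k F a b) (fun i : Fin m => Pi.single (.inl (.inl (Fin.castLE h i))) 1)
      (fun i : Fin m => Pi.single (.inl (.inr (Fin.castLE h i))) 1) := by
  have hinj : ∀ i j : Fin m, Fin.castLE h i = Fin.castLE h j ↔ i = j := fun i j => (Fin.castLE_injective h).eq_iff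
  refine ⟨fun u v => polar_comm _ _ _, fun i j => ?_, fun i j => ?_, fun i j => ?_⟩
  · rw [betm_eq]
    simp only [Pi.single_apply, Sum.inl.injEq, Sum.inr.injEq, reduceCtorEq, if_false, mul_zero, add_zero]
    rw [Finset.sum_eq_single (Fin.castLE h i)]
    · simp [hinj]
    · intro l _ hl
      simp [hl]
    · simp
  · rw [betm_eq]
    simp [Pi.single_apply]
  · rw [betm_eq]
    simp [Pi.single_apply]

theorem minus_inl {k : ℕ} (a b : F) (i : Fin k) : quadMinus k F a b (Pi.single (.inl (.inl i)) 1) = 0 := by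
  rw [coe_quadMinus, quadFormMinus]
  simp [Pi.single_apply]

theorem minus_inr {k : ℕ} (a b : F) (i : Fin k) : quadMinus k F a b (Pi.single (.inl (.inr i)) 1) = 0 := by
  rw [coe_quadMinus, quadFormMinus]
  simp [Pi.single_apply]

end Std

end Cfsg.Agent.H375.Odd
end
end

-- part: H375/Out/Def_mg
section
prune_inst 0x55050404440020000180006002004403000002200488800282002000708840a8d800061b82000160082004540010000001000100040000004000000011d0080000150063240010c860088000000400000000000000000000000000000000000000000000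
set_option linter.all false
open scoped Cfsg.Agent.FastGrp

-- part: H375/Out/Def
section
/-!
# Outer automorphisms of `PΩ(Q)`, characteristic two: interface (helper375, BLOCK E, piece E5)

* `lp` : linear automorphisms as permutations;
* `Om Q` : `Ω(Q)` as a group of linear automorphisms; `mem_Om` : `g ∈ Ω(Q)` iff `g ∈ O(Q)` and `dim ker (g - 1)` is even;
* `GI Q` : semilinear isometries;
* `Hyp Q X` : `Ω(Q) ≤ X ≤ GI Q`, every order of an element of `X` is the order of an element of `Ω(Q)`;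
* `OutOk Q` : `Hyp Q X → X = Ω(Q)`.
-/

set_option autoImplicit false
set_option linter.unusedVariables false
set_option linter.unusedSectionVars false

namespace Cfsg.Agent.H375.Out

open Module Finset QuadraticMap Cfsg Cfsg.Agent.H375.Odd
open Cfsg.Agent.LieClassical.OrthCount Cfsg.Agent.LieClassical.OmegaReindex Cfsg.Agent.LieClassical
open Cfsg.Agent.ClassicalGeometry

/-- Linear automorphisms as permutations. -/
def lp (F : Type*) [Field F] (V : Type*) [AddCommGroup V] [Module F V] : (V ≃ₗ[F] V) →* Equiv.Perm V where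
  toFun g := g.toEquiv
  map_one' := rfl
  map_mul' _ _ := rfl

theorem lp_apply {F : Type*} [Field F] {V : Type*} [AddCommGroup V] [Module F V] (g : V ≃ₗ[F] V) (v : V) :
    lp F V g v = g v := rfl

theorem lp_injective {F : Type*} [Field F] {V : Type*} [AddCommGroup V] [Module F V] :
    Function.Injective (lp F V) := by
  intro g h e
  apply LinearEquiv.ext
  intro v
  rw [← lp_apply g, e, lp_apply]

/-- The semilinear isometries. -/
def GI {F : Type*} [Field F] {V : Type*} [AddCommGroup V] [Module F V] (Q : QuadraticForm F V) :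
    Subgroup (Equiv.Perm V) where
  carrier := {M | ∃ σ : F ≃+* F, OrthSemi.IsSS Q σ 1 M}
  mul_mem' := by
    rintro M N ⟨σ, hM⟩ ⟨τ, hN⟩
    have := hM.mul hN
    rw [map_one, mul_one] at this
    exact ⟨_, this⟩
  one_mem' := ⟨RingEquiv.refl F, one_ne_zero, fun _ _ => rfl, fun _ _ => rfl, fun _ => by
    rw [one_mul]; rfl⟩
  inv_mem' := by
    rintro M ⟨σ, hM⟩
    have := hM.inv
    rw [inv_one, map_one] at this
    exact ⟨_, this⟩

section

variable {F : Type*} [Field F] [Fintype F] [CharP F 2] {ι : Type} [Fintype ι] [DecidableEq ι]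

/-- `Ω(Q)` as a group of linear automorphisms. -/
noncomputable def Om (Q : QuadraticForm F (ι → F)) : Subgroup ((ι → F) ≃ₗ[F] (ι → F)) :=
  (Cfsg.Omega F (⇑Q)).map (isoL Q)

variable {Q : QuadraticForm F (ι → F)}

theorem Om_le : Om Q ≤ OQ (⇑Q) := by
  rintro _ ⟨X, -, rfl⟩
  exact isoL_mem X

theorem finrank_fixSp (X : Cfsg.isometryGroup F (⇑Q)) :
    finrank F (OrthCharTwo.fixSp X) = finrank F (bV (isoL Q X)) := by
  have : (OrthCharTwo.fixSp X : Submodule F (ι → F)) = bV (isoL Q X) := by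
    ext v
    rw [mem_bV]
    rfl
  rw [this]

/-- `Ω` is the kernel of the Dickson invariant. -/
theorem mem_Om (hQ : (polarBilin Q).Nondegenerate) (h5 : 5 ≤ Fintype.card ι)
    (hev : Even (Fintype.card ι)) {g : (ι → F) ≃ₗ[F] (ι → F)} :
    g ∈ Om Q ↔ g ∈ OQ (⇑Q) ∧ Even (finrank F (bV g)) := by
  have h2 : (2 : F) = 0 := CharTwo.two_eq_zero
  have hne : (∃ θ : F, θ ≠ 0 ∧ θ ≠ 1) ∨ Fintype.card ι ≠ 4 := Or.inr (by omega)
  have : Nonempty ι := Fintype.card_pos_iff.1 (by omega)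
  have key : ∀ X : Cfsg.isometryGroup F (⇑Q), OrthDickson.dsign Q X = 1 ↔ Even (finrank F (bV (isoL Q X))) := by
    intro X
    rw [OrthDickson.dsign_def, finrank_fixSp, pow_add, hev.neg_one_pow, mul_one]
    exact neg_one_pow_eq_one_iff_even (by decide)
  constructor
  · rintro ⟨X, hX, rfl⟩
    exact ⟨isoL_mem X, (key X).1 (OrthDickson.dsign_eq_one_of_mem_commutator Q hQ hne X hX)⟩
  · rintro ⟨hg, he⟩
    obtain ⟨X, rfl⟩ := exists_isoL hg
    refine ⟨X, ?_, rfl⟩
    -- index two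
    have h1 := (key X).2 he
    have hidx := OrthDickson.index_commutator_two Q h2 hQ hne
    obtain ⟨u, hu⟩ : ∃ u, Q u ≠ 0 := by
      by_contra hcon
      push Not at hcon
      obtain ⟨i⟩ := this
      have hne : (Pi.single i 1 : ι → F) ≠ 0 := by
        intro h0
        have := congrFun h0 i
        simp at this
      exact hne (hQ.1 _ fun v => by
        show polar Q _ v = 0
        rw [polar, hcon, hcon, hcon]
        simp)
    by_contra hX
    have hr := OrthDickson.refl_notMem_commutator Q hQ hne u hu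
    have h3 : Reflection.reflIso Q u hu * X ∈ commutator (Cfsg.isometryGroup F (⇑Q)) := by
      have := (Subgroup.mul_mem_iff_of_index_two hidx (a := Reflection.reflIso Q u hu) (b := X)).2
      exact this ⟨fun h => absurd h hr, fun h => absurd h hX⟩
    have h4 := OrthDickson.dsign_eq_one_of_mem_commutator Q hQ hne _ h3
    rw [OrthDickson.dsign_refl_mul Q hQ, h1] at h4
    exact absurd h4 (by decide)

/-- The hypotheses. -/
structure Hyp (Q : QuadraticForm F (ι → F)) (X : Subgroup (Equiv.Perm (ι → F))) : Prop where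
  le : (Om Q).map (lp F (ι → F)) ≤ X
  semi : X ≤ GI Q
  ord : ∀ x ∈ X, ∃ y ∈ Om Q, orderOf y = orderOf x

/-- No outer automorphisms. -/
def OutOk (Q : QuadraticForm F (ι → F)) : Prop := ∀ X, Hyp Q X → X ≤ (Om Q).map (lp F (ι → F))

end

end Cfsg.Agent.H375.Out
end

-- part: H375/Out/Split
section
/-!
# E5: tools (helper375)

* `Nu u` : the endomorphism `u - 1`; `Nu_pow` : `(u - 1) ^ (2 ^ c) = u ^ (2 ^ c) - 1`;
* `unip` : `x`, `u` commuting isometries, `x` of odd order, `u` of 2-power order, `dim [V, x] < 2 (k + 1)`: then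
  `(u - 1) ^ k = 0` on `[V, x]`;
* `Blk q l a e η M` : torus types, `split` : the powers of an element of order `2 ^ c * (R * T)`;
* `three_split`, `finrank_three` : `V = [V,t] + [V,x] + (C(t) ⊓ C(x))`.
-/

set_option autoImplicit false
set_option linter.unusedVariables false
set_option linter.unusedSectionVars false

namespace Cfsg.Agent.H375.Out

open Module Finset Cfsg.Agent.H375.Odd

variable {F : Type*} [Field F] [CharP F 2] {V : Type*} [AddCommGroup V] [Module F V]

/-- `u - 1`. -/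
def Nu (u : V ≃ₗ[F] V) : Module.End F V := (u : V →ₗ[F] V) - LinearMap.id

theorem Nu_apply (u : V ≃ₗ[F] V) (v : V) : Nu u v = u v - v := rfl

theorem Nu_mul (u : V ≃ₗ[F] V) : Nu u * Nu u = Nu (u * u) := by
  apply LinearMap.ext
  intro v
  show Nu u (Nu u v) = u (u v) - v
  rw [Nu_apply, Nu_apply, map_sub]
  have h2 : u v + u v = (0 : V) := by
    rw [← two_smul F (u v), CharTwo.two_eq_zero, zero_smul]
  have : u (u v) - u v - (u v - v) = u (u v) - (u v + u v) + v := by abel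
  rw [this, h2, sub_zero]
  have h3 : v + v = (0 : V) := by
    rw [← two_smul F v, CharTwo.two_eq_zero, zero_smul]
  have h4 : -v = v := neg_eq_of_add_eq_zero_left h3
  rw [sub_eq_add_neg, h4]

theorem Nu_pow (u : V ≃ₗ[F] V) (c : ℕ) : Nu u ^ 2 ^ c = Nu (u ^ 2 ^ c) := by
  induction c with
  | zero => rw [pow_zero, pow_one, pow_one]
  | succ c ih => rw [pow_succ, pow_mul, pow_two, ih, Nu_mul, pow_mul, pow_two]

theorem Nu_one : Nu (1 : V ≃ₗ[F] V) = 0 := by
  apply LinearMap.ext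
  intro v
  exact sub_self v

theorem Nu_comm {u x : V ≃ₗ[F] V} (h : ∀ v, x (u v) = u (x v)) (k : ℕ) (v : V) : (Nu u ^ k) (x v) = x ((Nu u ^ k) v) := by
  induction k generalizing v with
  | zero => rfl
  | succ k ih =>
    rw [pow_succ]
    show (Nu u ^ k) (Nu u (x v)) = x ((Nu u ^ k) (Nu u v))
    have e : Nu u (x v) = x (Nu u v) := by rw [Nu_apply, Nu_apply, map_sub, h]
    rw [e, ih]

theorem Nu_mem {u : V ≃ₗ[F] V} {D : Submodule F V} (hD : ∀ v ∈ D, u v ∈ D) (k : ℕ) : ∀ v ∈ D, (Nu u ^ k) v ∈ D := by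
  induction k with
  | zero => intro v hv; exact hv
  | succ k ih =>
    intro v hv
    rw [pow_succ]
    exact ih _ (D.sub_mem (hD v hv) hv)

section unip

variable [FiniteDimensional F V] {β : V →ₗ[F] V →ₗ[F] F}

/-- The adjoint. -/
theorem Nu_adj {u : V ≃ₗ[F] V} (hu : u ∈ Isom β) (k : ℕ) (v w : V) :
    β v ((Nu u ^ k) w) = β ((Nu u⁻¹ ^ k) v) w := by
  induction k generalizing v w with
  | zero => rfl
  | succ k ih =>
    rw [pow_succ, pow_succ']
    show β v ((Nu u ^ k) (Nu u w)) = β (Nu u⁻¹ ((Nu u⁻¹ ^ k) v)) w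
    rw [ih, Nu_apply, Nu_apply, map_sub, map_sub, LinearMap.sub_apply]
    congr 1
    have := hu (u⁻¹ ((Nu u⁻¹ ^ k) v)) w
    rw [← this]
    congr 2
    show _ = (u * u⁻¹) ((Nu u⁻¹ ^ k) v)
    rw [mul_inv_cancel]
    rfl

theorem Nu_inv_zero {u : V ≃ₗ[F] V} {k : ℕ} {v : V} (h : (Nu u ^ k) v = 0) : (Nu u⁻¹ ^ k) v = 0 := by
  have key : ∀ (k : ℕ) (v : V), (Nu u⁻¹ ^ k) v = (-1 : F) ^ k • ((u⁻¹ ^ k : V ≃ₗ[F] V) ((Nu u ^ k) v)) := by
    intro k
    induction k with
    | zero => intro v; simp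
    | succ k ih =>
      intro v
      rw [pow_succ]
      show (Nu u⁻¹ ^ k) (Nu u⁻¹ v) = _
      rw [ih, pow_succ (Nu u)]
      show _ = (-1 : F) ^ (k + 1) • ((u⁻¹ ^ (k + 1) : V ≃ₗ[F] V) ((Nu u ^ k) (Nu u v)))
      have e1 : Nu u⁻¹ v = -(u⁻¹ (Nu u v)) := by
        rw [Nu_apply, Nu_apply, map_sub]
        have : u⁻¹ (u v) = (u⁻¹ * u) v := rfl
        rw [this, inv_mul_cancel]
        show u⁻¹ v - v = -(v - u⁻¹ v)
        abel
      rw [e1, map_neg, map_neg, Nu_comm (u := u) (x := u⁻¹) (fun w => by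
        show (u⁻¹ * u) w = (u * u⁻¹) w
        rw [inv_mul_cancel, mul_inv_cancel]), pow_succ (-1 : F), mul_neg_one, neg_smul, smul_neg]
      congr 2
  rw [key, h, map_zero, smul_zero]

/-- **The unipotent lemma.** -/
theorem unip (hβ : Alt β) {x u : V ≃ₗ[F] V} (hx : x ∈ Isom β) (hu : u ∈ Isom β) (hxu : ∀ v, x (u v) = u (x v)) {R : ℕ}
    (hR : Odd R) (hxR : x ^ R = 1) {c : ℕ} (huc : u ^ 2 ^ c = 1) {k : ℕ} (hk : finrank F (bW x) < 2 * (k + 1)) :
    ∀ v ∈ bW x, (Nu u ^ k) v = 0 := by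
  classical
  set D := bW x with hD
  have hDu : ∀ v ∈ D, u v ∈ D := bW_inv (fun v => (hxu v).symm)
  have hDx : ∀ v ∈ D, x v ∈ D := bW_inv (fun v => rfl)
  have hDnd := nd_bW hβ hx hR hxR
  by_contra hcon
  push Not at hcon
  -- the last nonzero power
  have hex : ∃ k', k ≤ k' ∧ (∃ v ∈ D, (Nu u ^ k') v ≠ 0) ∧ ∀ v ∈ D, (Nu u ^ (k' + 1)) v = 0 := by
    by_contra hno
    push Not at hno
    have h1 : ∀ i, ∃ v ∈ D, (Nu u ^ (k + i)) v ≠ 0 := by
      intro i
      induction i with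
      | zero => exact hcon
      | succ i ih => exact hno (k + i) (by omega) ih
    obtain ⟨v, -, hv⟩ := h1 (2 ^ c)
    apply hv
    rw [pow_add, Nu_pow, huc, Nu_one, mul_zero]
    rfl
  obtain ⟨k', hkk', ⟨v, hv, hv0⟩, hk'⟩ := hex
  set E := D.map (Nu u ^ k') with hE
  have hED : E ≤ D := by
    rintro _ ⟨w, hw, rfl⟩
    exact Nu_mem hDu k' w hw
  have hcom := fun w => Nu_comm hxu k' w
  -- the dimension of `E` is at least two
  have hE2 : 2 ≤ finrank F E := by
    by_contra hlt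
    set e := (Nu u ^ k') v with he
    have heE : e ∈ E := ⟨v, hv, rfl⟩
    have hE1 : finrank F E = 1 := by
      have : 0 < finrank F E := by
        rw [Module.finrank_pos_iff_exists_ne_zero]
        exact ⟨⟨e, heE⟩, fun h => hv0 (congrArg Subtype.val h)⟩
      omega
    have hsp : ∀ w ∈ E, ∃ r : F, r • e = w := by
      intro w hw
      obtain ⟨r, hr⟩ := (finrank_eq_one_iff_of_nonzero' (⟨e, heE⟩ : E) (fun h => hv0 (congrArg Subtype.val h))).1 hE1 ⟨w, hw⟩
      exact ⟨r, congrArg Subtype.val hr⟩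
    have hker : ∀ z ∈ D, (Nu u ^ k') z = 0 → β z e = 0 := by
      intro z _ hz
      rw [he, Nu_adj hu, Nu_inv_zero hz, map_zero, LinearMap.zero_apply]
    obtain ⟨w, hw, hwe⟩ : ∃ w ∈ D, β w e ≠ 0 := by
      by_contra hno
      push Not at hno
      apply hv0
      apply hDnd e (hED heE)
      intro w hw
      rw [hβ.symm]
      exact hno w hw
    obtain ⟨lam, hlam⟩ := hsp (x e) ⟨x v, hDx v hv, hcom v⟩
    obtain ⟨r, hr⟩ := hsp ((Nu u ^ k') w) ⟨w, hw, rfl⟩
    have h1 : β (x w) e = lam * β w e := by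
      have h2 := hker (x w - lam • w) (D.sub_mem (hDx w hw) (D.smul_mem _ hw)) (by
        rw [map_sub, map_smul, hcom, ← hr, map_smul, ← hlam, smul_comm, sub_self])
      rw [map_sub, map_smul, LinearMap.sub_apply, LinearMap.smul_apply, smul_eq_mul, sub_eq_zero] at h2
      exact h2
    have h2 : β (x w) (x e) = β w e := hx w e
    rw [← hlam, map_smul, smul_eq_mul, h1, ← mul_assoc] at h2
    have h3 : lam * lam = 1 := mul_right_cancel₀ hwe (by rw [h2, one_mul])
    have h4 : lam = 1 := by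
      have h5 : (lam - 1) * (lam - 1) = 0 := by
        have : (2 : F) = 0 := CharTwo.two_eq_zero
        linear_combination h3 + (1 - lam) * this
      have := mul_self_eq_zero.1 h5
      exact sub_eq_zero.1 this
    rw [h4, one_smul] at hlam
    exact hv0 (disj hR hxR (hED heE) hlam.symm)
  -- the chain
  have hstep : ∀ i, i ≤ k' → i * finrank F E + finrank F (D.map (Nu u ^ i)) ≤ finrank F D := by
    intro i
    induction i with
    | zero =>
      intro _
      rw [zero_mul, zero_add, pow_zero, Module.End.one_eq_id, Submodule.map_id]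
    | succ i ih =>
      intro hi
      have ih' := ih (by omega)
      have hle : D.map (Nu u ^ (i + 1)) ≤ D.map (Nu u ^ i) := by
        rintro _ ⟨w, hw, rfl⟩
        refine ⟨Nu u w, D.sub_mem (hDu w hw) hw, ?_⟩
        rw [pow_succ]
        rfl
      set g := (Nu u ^ (k' - i)).domRestrict (D.map (Nu u ^ i)) with hg
      have hrange : LinearMap.range g = E := by
        ext z
        constructor
        · rintro ⟨⟨_, ⟨w, hw, rfl⟩⟩, rfl⟩
          refine ⟨w, hw, ?_⟩
          show (Nu u ^ k') w = (Nu u ^ (k' - i)) ((Nu u ^ i) w)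
          rw [← Module.End.mul_apply, ← pow_add, Nat.sub_add_cancel (by omega)]
        · rintro ⟨w, hw, rfl⟩
          refine ⟨⟨(Nu u ^ i) w, ⟨w, hw, rfl⟩⟩, ?_⟩
          show (Nu u ^ (k' - i)) ((Nu u ^ i) w) = (Nu u ^ k') w
          rw [← Module.End.mul_apply, ← pow_add, Nat.sub_add_cancel (by omega)]
      have hker : (D.map (Nu u ^ (i + 1))).comap (D.map (Nu u ^ i)).subtype ≤ LinearMap.ker g := by
        rintro ⟨z, hz⟩ hz'
        obtain ⟨w, hw, hwz⟩ := hz'
        rw [LinearMap.mem_ker]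
        show (Nu u ^ (k' - i)) z = 0
        have : z = (Nu u ^ (i + 1)) w := hwz.symm
        rw [this, ← Module.End.mul_apply, ← pow_add, show k' - i + (i + 1) = k' + 1 by omega]
        exact hk' w hw
      have h1 := LinearMap.finrank_range_add_finrank_ker g
      rw [hrange] at h1
      have h2 := Submodule.finrank_mono hker
      have h3 := (Submodule.comapSubtypeEquivOfLe hle).finrank_eq
      rw [h3] at h2
      rw [add_mul, one_mul]
      omega
  have h1 := hstep k' le_rfl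
  have h2 : k' * 2 ≤ k' * finrank F E := Nat.mul_le_mul_left _ hE2
  have h3 : 2 ≤ finrank F (D.map (Nu u ^ k')) := hE2
  omega

/-- A nilpotent endomorphism on a subspace of dimension `d`. -/
theorem nil_of_finrank {u : V ≃ₗ[F] V} {Y : Submodule F V} (hY : ∀ v ∈ Y, u v ∈ Y) {c : ℕ} (huc : u ^ 2 ^ c = 1) {d : ℕ}
    (hd : finrank F Y ≤ d) : ∀ v ∈ Y, (Nu u ^ d) v = 0 := by
  classical
  have key : ∀ i, finrank F (Y.map (Nu u ^ i)) + i ≤ finrank F Y ∨ Y.map (Nu u ^ i) = ⊥ := by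
    intro i
    induction i with
    | zero => left; rw [pow_zero, Module.End.one_eq_id, Submodule.map_id, add_zero]
    | succ i ih =>
      rcases ih with ih | ih
      · by_cases h0 : Y.map (Nu u ^ (i + 1)) = ⊥
        · right; exact h0
        left
        have hle : Y.map (Nu u ^ (i + 1)) ≤ Y.map (Nu u ^ i) := by
          rintro _ ⟨w, hw, rfl⟩
          refine ⟨Nu u w, Y.sub_mem (hY w hw) hw, ?_⟩
          rw [pow_succ]
          rfl
        have hlt : Y.map (Nu u ^ (i + 1)) < Y.map (Nu u ^ i) := by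
          refine lt_of_le_of_ne hle fun heq => h0 ?_
          have h1 : ∀ j, Y.map (Nu u ^ (i + j)) = Y.map (Nu u ^ i) := by
            intro j
            induction j with
            | zero => rfl
            | succ j ihj =>
              have h2 : ∀ m, (Y.map (Nu u ^ m)).map (Nu u) = Y.map (Nu u ^ (m + 1)) := by
                intro m
                rw [← Submodule.map_comp, pow_succ']
                rfl
              rw [← add_assoc, ← h2, ihj, h2, heq]
          rw [heq, ← h1 (2 ^ c), eq_bot_iff]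
          rintro _ ⟨w, -, rfl⟩
          rw [pow_add, Nu_pow, huc, Nu_one, mul_zero]
          exact Submodule.zero_mem _
        have := Submodule.finrank_lt_finrank_of_lt hlt
        omega
      · right
        rw [eq_bot_iff]
        rintro _ ⟨w, hw, rfl⟩
        have h1 : (Nu u ^ i) (Nu u w) ∈ Y.map (Nu u ^ i) := ⟨Nu u w, Y.sub_mem (hY w hw) hw, rfl⟩
        rw [ih] at h1
        rw [pow_succ]
        exact h1
  have hbot : Y.map (Nu u ^ d) = ⊥ := by
    rcases key d with h | h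
    · apply Submodule.finrank_eq_zero.1
      omega
    · exact h
  intro v hv
  have h1 : (Nu u ^ d) v ∈ Y.map (Nu u ^ d) := ⟨v, hv, rfl⟩
  rw [hbot] at h1
  exact (Submodule.mem_bot F).1 h1

end unip

/-! ### Blocks -/

/-- Torus types: `M = q ^ η - 1`, `e = η` odd, or `M = q ^ η + 1`, `e = 2 η`. -/
structure Blk (q l a e η M : ℕ) : Prop where
  hz : Zs q l a e
  case : (Odd η ∧ e = η ∧ M = q ^ η - 1) ∨ (2 ≤ η ∧ e = 2 * η ∧ M = q ^ η + 1)

variable [Fintype F] [FiniteDimensional F V] {β : V →ₗ[F] V →ₗ[F] F}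

theorem even_pow_card {m : ℕ} (hm : 0 < m) : Even (Fintype.card F ^ m) := by
  obtain ⟨f, -, hf⟩ := exists_card (F := F)
  have hq : 1 < Fintype.card F := Fintype.one_lt_card
  have hf0 : f ≠ 0 := by rintro rfl; rw [pow_zero] at hf; omega
  rw [hf, ← pow_mul]
  exact (Nat.even_pow.2 ⟨even_two, Nat.mul_ne_zero hf0 hm.ne'⟩)

theorem Blk.pos {q l a e η M : ℕ} (B : Blk q l a e η M) : 0 < η := by
  have := B.hz.he
  rcases B.case with ⟨-, h, -⟩ | ⟨h, -⟩ <;> omega

theorem Blk.odd {l a e η M : ℕ} (B : Blk (Fintype.card F) l a e η M) : Odd M := by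
  have h1 := even_pow_card (F := F) B.pos
  have h2 : 0 < Fintype.card F ^ η := pow_pos Fintype.card_pos _
  rcases B.case with ⟨-, -, h⟩ | ⟨-, -, h⟩
  · rw [h]
    exact Nat.Even.sub_odd h2 h1 odd_one
  · rw [h]
    exact h1.add_one

theorem Blk.dvd {l a e η M : ℕ} (B : Blk (Fintype.card F) l a e η M) : l ^ (a + 1) ∣ M := by
  rcases B.case with ⟨-, h1, h⟩ | ⟨h0, h1, h⟩
  · rw [h]
    exact (B.hz.hq _).2 (by rw [h1])
  · rw [h]
    have hz := B.hz
    rw [h1] at hz
    exact hz.dvd_add_one Fintype.card_pos (by omega)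

theorem Blk.core (hβ : Alt β) {l a e η M : ℕ} (B : Blk (Fintype.card F) l a e η M) {s : V ≃ₗ[F] V} (hs : Tor s l a e)
    (hsβ : s ∈ Isom β) (hdim : finrank F V < 4 * η) : finrank F (bW (s ^ l ^ a)) = 2 * η ∧
      ∀ g ∈ Isom β, (∀ v, g (s v) = s (g v)) → ∀ w ∈ bW (s ^ l ^ a), (g ^ M) w = w := by
  rcases B.case with ⟨h0, h1, h2⟩ | ⟨h0, h1, h2⟩
  · subst h2
    subst h1
    obtain ⟨h3, -, h4⟩ := odd_case hβ hs hsβ h0 hdim
    exact ⟨h3, h4⟩
  · subst h2
    subst h1
    obtain ⟨h3, -, -, h4⟩ := even_case hβ hs hsβ h0 hdim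
    exact ⟨h3, h4⟩

theorem pow_fix {g : V ≃ₗ[F] V} {w : V} {a b : ℕ} (ha : (g ^ a) w = w) (hb : (g ^ b) w = w) (hab : Nat.Coprime a b) :
    g w = w := by
  let H := MulAction.stabilizer (V ≃ₗ[F] V) w
  have h1 : g ^ a ∈ H := ha
  have h2 : g ^ b ∈ H := hb
  have h3 : g ^ ((a : ℤ) * Nat.gcdA a b + b * Nat.gcdB a b) ∈ H := by
    rw [zpow_add, zpow_mul, zpow_mul, zpow_natCast, zpow_natCast]
    exact H.mul_mem (H.zpow_mem h1 _) (H.zpow_mem h2 _)
  rw [← Nat.gcd_eq_gcd_ab, hab, Nat.cast_one, zpow_one] at h3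
  exact h3

/-- **Splitting** an element of order `2 ^ c * (R * T)`. -/
theorem split (hβ : Alt β) {l a e η M : ℕ} (B : Blk (Fintype.card F) l a e η M) (hdim : finrank F V < 4 * η)
    {R c : ℕ} (hR : Odd R) (hRM : Nat.Coprime R M) {y : V ≃ₗ[F] V} (hyβ : y ∈ Isom β)
    (hy : orderOf y = 2 ^ c * (R * l ^ (a + 1))) :
    ∃ s x u : V ≃ₗ[F] V, s ∈ Subgroup.zpowers y ∧ x ∈ Subgroup.zpowers y ∧ u ∈ Subgroup.zpowers y ∧ Tor s l a e ∧
      orderOf x = R ∧ orderOf u = 2 ^ c ∧ finrank F (bW (s ^ l ^ a)) = 2 * η ∧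
      finrank F (bV (s ^ l ^ a)) + 2 * η = finrank F V ∧ (∀ w ∈ bW (s ^ l ^ a), x w = w) ∧
      ∀ w ∈ bW (s ^ l ^ a), u w = w := by
  have hz := B.hz
  have hT0 : 0 < l ^ (a + 1) := pow_pos hz.hl.pos _
  have hR0 : 0 < R := hR.pos
  have h20 : 0 < 2 ^ c := pow_pos two_pos c
  have ho : ∀ m n : ℕ, 0 < m → orderOf y = m * n → orderOf (y ^ m) = n := by
    intro m n hm hmn
    rw [orderOf_pow_of_dvd hm.ne' (by rw [hmn]; exact dvd_mul_right _ _), hmn, Nat.mul_div_cancel_left _ hm]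
  have hs : orderOf (y ^ (2 ^ c * R)) = l ^ (a + 1) := ho _ _ (Nat.mul_pos h20 hR0) (by rw [hy, mul_assoc])
  have hx : orderOf (y ^ (2 ^ c * l ^ (a + 1))) = R :=
    ho _ _ (Nat.mul_pos h20 hT0) (by rw [hy, mul_assoc, mul_comm R])
  have hu : orderOf (y ^ (R * l ^ (a + 1))) = 2 ^ c := ho _ _ (Nat.mul_pos hR0 hT0) (by rw [hy, mul_comm])
  have hT : Tor (y ^ (2 ^ c * R)) l a e := hz.tor hs
  obtain ⟨h1, h2⟩ := B.core hβ hT ((Isom β).pow_mem hyβ _) hdim
  have h3 := finrank_bW_add (F := F) ((y ^ (2 ^ c * R)) ^ l ^ a)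
  have hcomm : ∀ i j : ℕ, ∀ v, (y ^ i) ((y ^ j) v) = (y ^ j) ((y ^ i) v) := by
    intro i j v
    show (y ^ i * y ^ j) v = (y ^ j * y ^ i) v
    rw [← pow_add, ← pow_add, add_comm]
  refine ⟨_, _, _, Subgroup.npow_mem_zpowers y _, Subgroup.npow_mem_zpowers y _, Subgroup.npow_mem_zpowers y _, hT, hx, hu,
    h1, by omega, ?_, ?_⟩
  · intro w hw
    refine pow_fix (a := R) (b := M) ?_ (h2 _ ((Isom β).pow_mem hyβ _) (hcomm _ _) w hw) hRM
    rw [← hx, pow_orderOf_eq_one]
    rfl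
  · intro w hw
    refine pow_fix (a := 2 ^ c) (b := M) ?_ (h2 _ ((Isom β).pow_mem hyβ _) (hcomm _ _) w hw)
      (Nat.Coprime.pow_left c (Nat.coprime_two_left.2 B.odd))
    rw [← hu, pow_orderOf_eq_one]
    rfl

/-! ### `V = [V,t] + [V,x] + (C(t) ⊓ C(x))` -/

section three

variable {t x : V ≃ₗ[F] V} {k R : ℕ}

theorem bW_le_bV (hk : Odd k) (htk : t ^ k = 1) (hxt : ∀ v, x (t v) = t (x v)) (hxW : ∀ w ∈ bW t, x w = w) :
    bW x ≤ bV t := by
  rintro _ ⟨v, rfl⟩
  obtain ⟨w, hw, z, hz, rfl⟩ := exists_split hk htk v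
  rw [mem_bV]
  show t (x (w + z) - (w + z)) = x (w + z) - (w + z)
  rw [map_add, hxW w hw]
  have e : w + x z - (w + z) = x z - z := by abel
  rw [e, map_sub, ← hxt, mem_bV.1 hz]

theorem three_split (hk : Odd k) (htk : t ^ k = 1) (hR : Odd R) (hxR : x ^ R = 1) (hxt : ∀ v, x (t v) = t (x v))
    (hxW : ∀ w ∈ bW t, x w = w) (v : V) : ∃ w ∈ bW t, ∃ d ∈ bW x, ∃ y ∈ bV t ⊓ bV x, w + d + y = v := by
  obtain ⟨w, hw, z, hz, rfl⟩ := exists_split hk htk v
  obtain ⟨d, hd, y, hy, rfl⟩ := exists_split hR hxR z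
  refine ⟨w, hw, d, hd, y, ⟨?_, hy⟩, by abel⟩
  have := (bV t).sub_mem hz (bW_le_bV hk htk hxt hxW hd)
  rwa [add_sub_cancel_left] at this

theorem finrank_three (hk : Odd k) (htk : t ^ k = 1) (hR : Odd R) (hxR : x ^ R = 1) (hxt : ∀ v, x (t v) = t (x v))
    (hxW : ∀ w ∈ bW t, x w = w) : finrank F (bW x) + finrank F (bV t ⊓ bV x : Submodule F V) = finrank F (bV t) := by
  have hle := bW_le_bV hk htk hxt hxW
  have h1 : bW x ⊔ (bV t ⊓ bV x) = bV t := by
    apply le_antisymm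
    · exact sup_le hle inf_le_left
    · intro z hz
      obtain ⟨d, hd, y, hy, rfl⟩ := exists_split hR hxR z
      refine Submodule.add_mem_sup hd ⟨?_, hy⟩
      have := (bV t).sub_mem hz (hle hd)
      rwa [add_sub_cancel_left] at this
  have h2 : bW x ⊓ (bV t ⊓ bV x) = ⊥ := by
    rw [eq_bot_iff]
    rintro z ⟨hz, -, hz'⟩
    exact (Submodule.mem_bot F).2 (disj hR hxR hz (mem_bV.1 hz'))
  have h3 := Submodule.finrank_sup_add_finrank_inf_eq (bW x) (bV t ⊓ bV x)
  rw [h1, h2, finrank_bot, add_zero] at h3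
  exact h3.symm

end three

end Cfsg.Agent.H375.Out
end

-- part: H375/Out/SpElt
section
/-!
# Elements of order `2 ^ c * T` in `Sp (2n, q)`, `q` even (helper375)
-/

set_option autoImplicit false
set_option linter.unusedVariables false
set_option linter.unusedSectionVars false

namespace Cfsg.Agent.H375.Out

open Module Finset Cfsg Cfsg.Agent.H375.Odd Cfsg.Agent.ClassicalGeometry

/-! ### 2-elements -/

def m1 : Matrix (Fin 1 ⊕ Fin 1) (Fin 1 ⊕ Fin 1) (ZMod 2) :=
  Matrix.fromBlocks !![0] !![1] !![1] !![0]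

def m2 : Matrix (Fin 2 ⊕ Fin 2) (Fin 2 ⊕ Fin 2) (ZMod 2) :=
  Matrix.fromBlocks !![0, 1; 0, 0] !![0, 0; 1, 0] !![0, 0; 1, 0] !![0, 1; 0, 0]

def m3 : Matrix (Fin 3 ⊕ Fin 3) (Fin 3 ⊕ Fin 3) (ZMod 2) :=
  Matrix.fromBlocks !![0, 1, 0; 1, 0, 0; 0, 0, 0] !![0, 0, 0; 0, 0, 0; 0, 0, 1]
    !![0, 1, 0; 0, 0, 0; 1, 0, 1] !![0, 1, 0; 1, 0, 1; 0, 0, 0]

theorem m1_symp : m1 ∈ Matrix.symplecticGroup (Fin 1) (ZMod 2) := by
  rw [SymplecticGroup.mem_iff]; decide +kernel

theorem m2_symp : m2 ∈ Matrix.symplecticGroup (Fin 2) (ZMod 2) := by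
  rw [SymplecticGroup.mem_iff]; decide +kernel

theorem m3_symp : m3 ∈ Matrix.symplecticGroup (Fin 3) (ZMod 2) := by
  rw [SymplecticGroup.mem_iff]; decide +kernel

theorem m1_pow : m1 ^ 1 ≠ 1 ∧ m1 ^ 2 = 1 := by decide +kernel
theorem m2_pow : m2 ^ 2 ≠ 1 ∧ m2 ^ 4 = 1 := by decide +kernel
theorem m3_pow : m3 ^ 4 ≠ 1 ∧ m3 ^ 8 = 1 := by decide +kernel

theorem exists_two_pow {K : Type*} [Field K] [CharP K 2] {c : ℕ} (hc : c ≤ 3) :
    ∃ x : Matrix.symplecticGroup (Fin c) K, orderOf x = 2 ^ c := by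
  have : Fact (Nat.Prime 2) := ⟨Nat.prime_two⟩
  let f : ZMod 2 →+* K := ZMod.castHom (dvd_refl 2) K
  have hinj : ∀ c : ℕ, Function.Injective (LieClassical.SpFourTwo.symplecticMap (l := Fin c) f) := by
    intro c A B h
    apply Subtype.ext
    ext i j
    exact f.injective (congrFun (congrFun (congrArg Subtype.val h) i) j)
  have key : ∀ (c : ℕ) (A : Matrix.symplecticGroup (Fin (c + 1)) (ZMod 2)), A.1 ^ 2 ^ c ≠ 1 → A.1 ^ 2 ^ (c + 1) = 1 →
      ∃ x : Matrix.symplecticGroup (Fin (c + 1)) K, orderOf x = 2 ^ (c + 1) := by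
    intro c A h1 h2
    refine ⟨LieClassical.SpFourTwo.symplecticMap f A, ?_⟩
    rw [orderOf_injective _ (hinj _)]
    refine orderOf_eq_prime_pow ?_ ?_
    · intro h
      exact h1 (congrArg Subtype.val h)
    · exact Subtype.ext h2
  interval_cases c
  · exact ⟨1, orderOf_one⟩
  · exact key 0 ⟨m1, m1_symp⟩ m1_pow.1 m1_pow.2
  · exact key 1 ⟨m2, m2_symp⟩ m2_pow.1 m2_pow.2
  · exact key 2 ⟨m3, m3_symp⟩ m3_pow.1 m3_pow.2

/-! ### Orthogonal sums -/

section sum

variable {F : Type*} [Field F] [CharP F 2] {V : Type*} [AddCommGroup V] [Module F V] {β : V →ₗ[F] V →ₗ[F] F}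

theorem comm_of_orth {m c : ℕ} {a b : Fin m → V} {a' b' : Fin c → V} (h : CovTwo.Fr β a b) (h' : CovTwo.Fr β a' b')
    (haa : ∀ i j, β (a i) (a' j) = 0) (hab : ∀ i j, β (a i) (b' j) = 0) (hba : ∀ i j, β (b i) (a' j) = 0)
    (hbb : ∀ i j, β (b i) (b' j) = 0) (A : Matrix.symplecticGroup (Fin m) F) (B : Matrix.symplecticGroup (Fin c) F) :
    CovTwo.spHom h A * CovTwo.spHom h' B = CovTwo.spHom h' B * CovTwo.spHom h A := by
  have e1 : ∀ x, CovTwo.co β a b (CovTwo.lc (F := F) a' b' x) = 0 := by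
    intro x
    have h1 : CovTwo.co β a b ∘ₗ CovTwo.lc (F := F) a' b' = 0 := by
      refine LinearMap.pi_ext' fun i => LinearMap.ext_ring ?_
      show CovTwo.co β a b (CovTwo.lc (F := F) a' b' (Pi.single i 1)) = 0
      have h2 : CovTwo.lc a' b' (Pi.single i (1 : F)) = Sum.elim a' b' i := by
        simp [CovTwo.lc, Fintype.linearCombination_apply_single]
      rw [h2]
      funext k
      rcases k with k | k <;> rcases i with i | i
      · show β (a' i) (b k) = 0
        rw [h.symm, hba]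
      · show β (b' i) (b k) = 0
        rw [h.symm, hbb]
      · show β (a' i) (a k) = 0
        rw [h.symm, haa]
      · show β (b' i) (a k) = 0
        rw [h.symm, hab]
    exact LinearMap.congr_fun h1 x
  have e2 : ∀ x, CovTwo.co β a' b' (CovTwo.lc (F := F) a b x) = 0 := by
    intro x
    have h1 : CovTwo.co β a' b' ∘ₗ CovTwo.lc (F := F) a b = 0 := by
      refine LinearMap.pi_ext' fun i => LinearMap.ext_ring ?_
      show CovTwo.co β a' b' (CovTwo.lc (F := F) a b (Pi.single i 1)) = 0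
      have h2 : CovTwo.lc a b (Pi.single i (1 : F)) = Sum.elim a b i := by
        simp [CovTwo.lc, Fintype.linearCombination_apply_single]
      rw [h2]
      funext k
      rcases k with k | k <;> rcases i with i | i
      · exact hab i k
      · exact hbb i k
      · exact haa i k
      · exact hba i k
    exact LinearMap.congr_fun h1 x
  apply LinearEquiv.ext
  intro v
  show CovTwo.ex β a b A.1 (CovTwo.ex β a' b' B.1 v) = CovTwo.ex β a' b' B.1 (CovTwo.ex β a b A.1 v)
  rw [CovTwo.ex_apply, CovTwo.ex_apply, CovTwo.ex_apply, CovTwo.ex_apply, map_add, map_add, e1, e2, add_zero, add_zero]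
  abel

end sum

variable {K : Type*} [Field K] [Fintype K] [CharP K 2]

/-- **Elements of order `2 ^ c * T`.** -/
theorem exists_sp_elt {m c n T : ℕ} (hn : m + c = n) (hc : c ≤ 3) (hT : Odd T)
    (hx : ∃ x : Matrix.symplecticGroup (Fin m) K, orderOf x = T) :
    ∃ g : Matrix.symplecticGroup (Fin n) K, orderOf g = 2 ^ c * T := by
  classical
  subst hn
  obtain ⟨x, hx⟩ := hx
  obtain ⟨y, hy⟩ := exists_two_pow (K := K) hc
  have hfr := frame_plus (F := K) (m := m) (n := m + c) (by omega)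
  have hfr' : CovTwo.Fr (bet (m + c) K) (fun i : Fin c => Pi.single (.inl (Fin.natAdd m i)) 1)
      (fun i : Fin c => Pi.single (.inr (Fin.natAdd m i)) 1) := by
    have hinj : ∀ i j : Fin c, Fin.natAdd m i = Fin.natAdd m j ↔ i = j := fun i j => (Fin.natAdd_injective c m).eq_iff
    refine ⟨fun u v => QuadraticMap.polar_comm _ _ _, fun i j => ?_, fun i j => ?_, fun i j => ?_⟩
    · rw [bet_eq, SympBasic.sympForm_single_inl_left, CharTwo.neg_eq, Pi.single_apply]
      simp only [Sum.inr.injEq, hinj]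
    · rw [bet_eq, SympBasic.sympForm_single_inl_left, CharTwo.neg_eq, Pi.single_apply]
      simp
    · rw [bet_eq, SympBasic.sympForm_single_inr_left, Pi.single_apply]
      simp
  have hne : ∀ (i : Fin m) (j : Fin c), Fin.castLE (by omega : m ≤ m + c) i ≠ Fin.natAdd m j := by
    intro i j h
    have := congrArg Fin.val h
    simp at this
    omega
  have hcomm : Commute (CovTwo.spHom hfr x) (CovTwo.spHom hfr' y) := by
    apply comm_of_orth hfr hfr'
    · intro i j
      rw [bet_eq, SympBasic.sympForm_single_inl_left, Pi.single_apply]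
      simp
    · intro i j
      rw [bet_eq, SympBasic.sympForm_single_inl_left, Pi.single_apply]
      simp [hne i j]
    · intro i j
      rw [bet_eq, SympBasic.sympForm_single_inr_left, Pi.single_apply]
      simp [hne i j]
    · intro i j
      rw [bet_eq, SympBasic.sympForm_single_inr_left, Pi.single_apply]
      simp
  have h1 : orderOf (CovTwo.spHom hfr x) = T := by rw [orderOf_injective _ (CovTwo.spHom_injective hfr), hx]
  have h2 : orderOf (CovTwo.spHom hfr' y) = 2 ^ c := by rw [orderOf_injective _ (CovTwo.spHom_injective hfr'), hy]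
  have h3 := hcomm.orderOf_mul_eq_mul_orderOf_of_coprime (by
    rw [h1, h2]
    exact Nat.Coprime.pow_right c (Nat.coprime_two_right.2 hT))
  rw [h1, h2] at h3
  obtain ⟨g, hg⟩ := exists_spL (g := CovTwo.spHom hfr x * CovTwo.spHom hfr' y)
    ((Isom (bet (m + c) K)).mul_mem (CovTwo.spHom_form hfr x) (CovTwo.spHom_form hfr' y))
  refine ⟨g, ?_⟩
  rw [← orderOf_injective _ (spL_injective (F := K) (n := m + c)), hg, h3, mul_comm]

/-- Elements of torus order. -/
theorem exists_torus_plus {m l : ℕ} (hm : 1 ≤ m) (hz : Zs (Fintype.card K) l 0 m) :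
    ∃ x : Matrix.symplecticGroup (Fin m) K, orderOf x = l ^ (0 + 1) := by
  have := Fact.mk hz.hl
  rw [zero_add, pow_one]
  apply exists_prime_orderOf_dvd_card'
  rw [LieClassical.SympCount.card_symplecticGroup (F := K) m]
  refine dvd_mul_of_dvd_right ?_ _
  refine dvd_trans ?_ (Finset.dvd_prod_of_mem _ (Finset.mem_range.2 (show m - 1 < m by omega)))
  rw [Nat.sub_add_cancel hm]
  have := (hz.hq (2 * m)).2 (dvd_mul_left m 2)
  rwa [zero_add, pow_one] at this

end Cfsg.Agent.H375.Out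
end

-- part: H375/Out/Fix
section
/-!
# The fixed field of a field automorphism (helper375)
-/

set_option autoImplicit false

namespace Cfsg.Agent.H375.Out

open Module

/-- The fixed field of `σ`. -/
theorem exists_fixed {F : Type*} [Field F] [Finite F] (σ : F ≃+* F) :
    ∃ K : Subfield F, (∀ x : F, x ∈ K ↔ σ x = x) ∧ Nat.card F = Nat.card K ^ orderOf σ := by
  classical
  have hfin : Finite (F ≃+* F) := Finite.of_injective (fun τ : F ≃+* F => (τ : F → F)) DFunLike.coe_injective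
  let G : Subgroup (RingAut F) := Subgroup.zpowers (σ : RingAut F)
  have : Fintype G := Fintype.ofFinite G
  let K := FixedPoints.subfield G F
  have hK : ∀ x : F, x ∈ K ↔ σ x = x := by
    intro x
    constructor
    · intro h
      exact h ⟨σ, Subgroup.mem_zpowers _⟩
    · intro h g
      have h1 : (σ : RingAut F) ∈ MulAction.stabilizer (RingAut F) x := h
      have h2 : G ≤ MulAction.stabilizer (RingAut F) x := by
        rw [Subgroup.zpowers_le]
        exact h1
      exact h2 g.2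
  refine ⟨K, hK, ?_⟩
  have h1 : finrank K F = Fintype.card G := FixedPoints.finrank_eq_card G F
  rw [Module.natCard_eq_pow_finrank (K := K) (V := F), h1, ← Nat.card_eq_fintype_card, Nat.card_zpowers]

end Cfsg.Agent.H375.Out
end

private theorem dce_1df6cb9e4997 : _root_.True := by
  try have : _root_.True := by simp only [_root_.Cfsg.Agent.H375.CovTwo.lc.eq_1]
  exact _root_.True.intro
end

-- part: H375/Odd/Groups
section
prune_inst 0x405707404454002000018059613202440740000b000688801e8600b420708456a8dc22161aca01116988683451001000000000010424000000e000000011d00a080021206b148a10ca6008f800084400000000000000000000000000000000000000000000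
set_option linter.all false
open scoped Cfsg.Agent.FastGrp

/-!
# Covers of `PSp_2n(q)` and `PΩ^±_2n(q)`, `q` even, by `p`-groups, `p` odd (helper375)

* `cov_psp` : `L = PSp n F`, `n ≥ 3`;
* `cov_plus` : `L = POmega F (quadFormPlus n F)`, `n ≥ 4`;
* `cov_minus` : `L = POmega F (quadFormMinus (n - 1) F a b)`, `n ≥ 4`;

for every nonzero elementary abelian `p`-group `A`, `p` an odd prime, with an action `φ` of `L` there are `x : L`, `a : A`
with `∑_{i < orderOf x} φ (x ^ i) a ≠ 0` such that `p * orderOf x` is not an element order of `L`.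
-/

set_option autoImplicit false
set_option linter.unusedVariables false
set_option linter.unusedSectionVars false

namespace Cfsg.Agent.H375.Odd

open Module Finset QuadraticMap Cfsg
open Cfsg.Agent.LieClassical.OrthCount Cfsg.Agent.LieClassical.OmegaReindex Cfsg.Agent.LieClassical
open Cfsg.Agent.ClassicalGeometry

/-! ### Arithmetic -/

theorem dvd_sub_iff {q p : ℕ} (hq : 0 < q) (m : ℕ) : p ∣ q ^ m - 1 ↔ (q : ZMod p) ^ m = 1 := by
  rw [← ZMod.natCast_eq_zero_iff, Nat.cast_sub (Nat.one_le_pow _ _ hq), Nat.cast_pow, Nat.cast_one, sub_eq_zero]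

theorem dvd_add_iff {q p : ℕ} (m : ℕ) : p ∣ q ^ m + 1 ↔ (q : ZMod p) ^ m = -1 := by
  rw [← ZMod.natCast_eq_zero_iff, Nat.cast_add, Nat.cast_pow, Nat.cast_one, add_eq_zero_iff_eq_neg]

theorem one_ne_neg {p : ℕ} (hp : p.Prime) (hp2 : p ≠ 2) : (1 : ZMod p) ≠ -1 := by
  intro h
  have h1 : ((2 : ℕ) : ZMod p) = 0 := by
    push_cast
    linear_combination h
  rw [ZMod.natCast_eq_zero_iff] at h1
  exact hp2 ((Nat.prime_dvd_prime_iff_eq hp Nat.prime_two).1 h1)

theorem dvd_sub_iff' {q p : ℕ} (hq : 0 < q) : p ∣ q - 1 ↔ (q : ZMod p) = 1 := by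
  have := dvd_sub_iff (p := p) hq 1
  rwa [pow_one, pow_one] at this

theorem dvd_add_iff' {q p : ℕ} : p ∣ q + 1 ↔ (q : ZMod p) = -1 := by
  have := dvd_add_iff (q := q) (p := p) 1
  rwa [pow_one, pow_one] at this

/-- `p ∣ q ^ m - 1`, `p ∣ q ^ (m + 1) + 1` imply `p ∣ q + 1`. -/
theorem arith_a {q p m : ℕ} (hq : 0 < q) (h1 : p ∣ q ^ m - 1) (h2 : p ∣ q ^ (m + 1) + 1) : p ∣ q + 1 := by
  rw [dvd_sub_iff hq] at h1
  rw [dvd_add_iff, pow_succ, h1, one_mul] at h2
  exact dvd_add_iff'.2 h2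

/-- `p ∣ q ^ m - 1`, `p ∣ q ^ m + 1` is impossible. -/
theorem arith_b {q p m : ℕ} (hp : p.Prime) (hp2 : p ≠ 2) (hq : 0 < q) (h1 : p ∣ q ^ m - 1) (h2 : p ∣ q ^ m + 1) : False := by
  rw [dvd_sub_iff hq] at h1
  rw [dvd_add_iff, h1] at h2
  exact one_ne_neg hp hp2 h2

/-- `m` odd, `p ∣ q ^ m - 1`, `p ∣ q + 1` is impossible. -/
theorem arith_c {q p m : ℕ} (hp : p.Prime) (hp2 : p ≠ 2) (hq : 0 < q) (hm : Odd m) (h1 : p ∣ q ^ m - 1)
    (h2 : p ∣ q + 1) : False := by
  rw [dvd_sub_iff hq] at h1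
  rw [dvd_add_iff'] at h2
  rw [h2, hm.neg_one_pow] at h1
  exact one_ne_neg hp hp2 h1.symm

/-- `m` even, `p ∣ q + 1`, `p ∣ q ^ m + 1` is impossible. -/
theorem arith_d {q p m : ℕ} (hp : p.Prime) (hp2 : p ≠ 2) (hm : Even m) (h1 : p ∣ q + 1)
    (h2 : p ∣ q ^ m + 1) : False := by
  rw [dvd_add_iff'] at h1
  rw [dvd_add_iff, h1, hm.neg_one_pow] at h2
  exact one_ne_neg hp hp2 h2

/-- `p ∣ q + 1`, `p ∣ q - 1` is impossible. -/
theorem arith_e {q p : ℕ} (hp : p.Prime) (hp2 : p ≠ 2) (hq : 0 < q) (h1 : p ∣ q + 1) (h2 : p ∣ q - 1) : False := by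
  rw [dvd_add_iff'] at h1
  rw [dvd_sub_iff' hq, h1] at h2
  exact one_ne_neg hp hp2 h2.symm

/-- `p ∣ q ^ m + 1`, `p ∣ q ^ (m + 1) + 1` imply `p ∣ q - 1`. -/
theorem arith_f {q p m : ℕ} (hq : 0 < q) (h1 : p ∣ q ^ m + 1) (h2 : p ∣ q ^ (m + 1) + 1) : p ∣ q - 1 := by
  rw [dvd_add_iff] at h1
  rw [dvd_add_iff, pow_succ, h1, neg_one_mul, neg_inj] at h2
  exact (dvd_sub_iff' hq).2 h2

/-- `p ∣ q - 1`, `p ∣ q ^ m + 1` is impossible. -/
theorem arith_g {q p m : ℕ} (hp : p.Prime) (hp2 : p ≠ 2) (hq : 0 < q) (h1 : p ∣ q - 1) (h2 : p ∣ q ^ m + 1) : False := by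
  rw [dvd_sub_iff' hq] at h1
  rw [dvd_add_iff, h1, one_pow] at h2
  exact one_ne_neg hp hp2 h2

/-- `p ∣ q ^ (m + 1) - 1`, `p ∣ q ^ m + 1` imply `p ∣ q + 1`. -/
theorem arith_h {q p m : ℕ} (hq : 0 < q) (h1 : p ∣ q ^ (m + 1) - 1) (h2 : p ∣ q ^ m + 1) : p ∣ q + 1 := by
  rw [dvd_add_iff] at h2
  rw [dvd_sub_iff hq, pow_succ, h2, neg_one_mul] at h1
  rw [dvd_add_iff', ← h1, neg_neg]

theorem one_lt_sub {q m : ℕ} (hq : 2 ≤ q) (hm : 2 ≤ m) : 1 < q ^ m - 1 := by
  have h1 : 2 ^ 2 ≤ q ^ m := (Nat.pow_le_pow_left hq 2).trans (Nat.pow_le_pow_right (by omega) hm)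
  omega

theorem one_lt_add {q m : ℕ} (hq : 2 ≤ q) : 1 < q ^ m + 1 := by
  have h1 : 0 < q ^ m := pow_pos (by omega) m
  omega

section General

variable {F : Type*} [Field F] [Fintype F] [CharP F 2] {V : Type*} [AddCommGroup V] [Module F V]
  [FiniteDimensional F V] {β : V →ₗ[F] V →ₗ[F] F} {Q : V → F} {ψ : F → ℤ}

theorem caseE (hβ : Alt β) {l a j : ℕ} (hz : Zs (Fintype.card F) l a (2 * j)) (hj : 2 ≤ j) (hdim : finrank F V = 2 * j)
    {p : ℕ} (hp : p.Prime) (hpj : ¬ p ∣ Fintype.card F ^ j + 1) :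
    ¬ p ∣ l ^ (a + 1) ∧ ∀ y ∈ Isom β, orderOf y ≠ p * l ^ (a + 1) := by
  have h1 := hz.dvd_add_one Fintype.card_pos (by omega)
  have h2 : ¬ p ∣ l ^ (a + 1) := fun h => hpj (h.trans h1)
  refine ⟨h2, fun y hy ho => hpj (ne_E hβ hz hj hdim hp ?_ hy ho)⟩
  rintro rfl
  exact h2 (dvd_pow_self p (Nat.succ_ne_zero a))

theorem caseF [Fintype V] (hψ : Psi ψ) (hQ : QF Q β) (hβ : Alt β) {l a j : ℕ} (hz : Zs (Fintype.card F) l a (2 * j))
    (hj : 2 ≤ j) (hdim : finrank F V = 2 * j + 2) (hG : GS ψ Q ⊤ = Fintype.card F ^ (j + 1))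
    {p : ℕ} (hp : p.Prime) (hp2 : p ≠ 2) (hpj : ¬ p ∣ Fintype.card F ^ j + 1) (hpq : ¬ p ∣ Fintype.card F + 1) :
    ¬ p ∣ l ^ (a + 1) ∧ ∀ y ∈ OQ Q, orderOf y ≠ p * l ^ (a + 1) := by
  have h1 := hz.dvd_add_one Fintype.card_pos (by omega)
  exact ⟨fun h => hpj (h.trans h1), fun y hy ho => hpq (ne_FQ hψ hQ hβ hz hj hdim hG hp hp2 hpj hy ho)⟩

/-- The Frobenius group `q^{2j} : (q^j + 1)` of a form of minus type. -/
theorem frob_beta' [Fintype V] (hψ : Psi ψ) (hQ : QF Q β) (hβ : Alt β) {l a j : ℕ} (hj : 2 ≤ j)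
    (hz : Zs (Fintype.card F) l a (2 * j)) {s : V ≃ₗ[F] V} (hso : orderOf s = l ^ (a + 1)) (hsQ : s ∈ OQ Q)
    (hdim : finrank F V = 2 * j + 2) (hG : GS ψ Q ⊤ = -Fintype.card F ^ (j + 1)) :
    Frob (OQ Q) (Fintype.card F ^ j + 1) := by
  have hs : Tor s l a (2 * j) := hz.tor hso
  have hd := (even_case hβ hs (OQ_le hQ hsQ) hj (by omega)).1
  have h11 := finrank_bW_add (F := F) (s ^ l ^ a)
  have h12 : finrank F (bV (s ^ l ^ a)) = 2 := by omega
  have h13 := plane_even hψ hQ hβ (by omega) hs hsQ h12 (Or.inr rfl) (by rw [hG]; ring)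
  rw [neg_neg, one_mul] at h13
  obtain ⟨e, he, f, hf, hQe, hef⟩ := exists_pair hψ hQ hβ _ h12
    (nd_bV hβ ((Isom β).pow_mem (OQ_le hQ hsQ) _) (hz.hl.odd_of_ne_two hz.hl2) hs.ht) h13
  exact frob_beta hQ hβ hs hsQ hj (by omega) he hf hQe hef

end General

/-! ### Symplectic groups -/

section Sp

variable {F : Type*} [Field F] [Fintype F] [CharP F 2] {n : ℕ}

theorem alt_bet : Alt (bet n F) := alt_of quadPlus_nondegenerate

theorem qf_bet : QF (⇑(quadPlus n F)) (bet n F) := qf_of _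

theorem finrank_plus : finrank F (Fin n ⊕ Fin n → F) = 2 * n := by
  rw [Module.finrank_fintype_fun_eq_card, Fintype.card_sum, Fintype.card_fin]
  ring

theorem frob_alpha_plus {m : ℕ} (hmn : m ≤ n) (hm : Odd m) (hm1 : 1 < m) :
    Frob (OQ (⇑(quadPlus n F))) (Fintype.card F ^ m - 1) :=
  frob_alpha hm hm1 qf_bet (frame_plus hmn) (fun i => plus_inl _) (fun i => plus_inr _)

theorem frob_alpha_sp {m : ℕ} (hmn : m ≤ n) (hm : Odd m) (hm1 : 1 < m) :
    Frob (Isom (bet n F)) (Fintype.card F ^ m - 1) := (frob_alpha_plus hmn hm hm1).mono (OQ_le qf_bet)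

theorem frob_beta_sp (hn : 3 ≤ n) : Frob (Isom (bet n F)) (Fintype.card F ^ (n - 1) + 1) := by
  classical
  obtain ⟨l, a, hl, hl2, hlq, -, x, hx⟩ := CovTwo.exists_torus (F := F) (m := n - 1) (by omega)
  have hz : Zs (Fintype.card F) l a (2 * (n - 1)) := ⟨hl, hl2, by omega, hlq⟩
  have hfr := frame_plus (F := F) (m := n - 1) (n := n) (by omega)
  set s := CovTwo.spHom hfr x with hs
  have hso : orderOf s = l ^ (a + 1) := by rw [hs, orderOf_injective _ (CovTwo.spHom_injective hfr), hx]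
  have hsβ : s ∈ Isom (bet n F) := CovTwo.spHom_form hfr x
  have hT : Tor s l a (2 * (n - 1)) := hz.tor hso
  set k : Fin n := ⟨n - 1, by omega⟩ with hk
  have hne : ∀ i : Fin (n - 1), k ≠ Fin.castLE (by omega : n - 1 ≤ n) i := by
    intro i h
    have := congrArg Fin.val h
    simp [hk] at this
    omega
  have he : s (Pi.single (.inl k) 1) = Pi.single (.inl k) 1 := by
    apply CovTwo.spHom_fix
    · intro i
      rw [bet_eq, SympBasic.sympForm_single_inl_left, Pi.single_apply]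
      simp
    · intro i
      rw [bet_eq, SympBasic.sympForm_single_inl_left, Pi.single_apply]
      simp [hne i]
  have hf : s (Pi.single (.inr k) 1) = Pi.single (.inr k) 1 := by
    apply CovTwo.spHom_fix
    · intro i
      rw [bet_eq, SympBasic.sympForm_single_inr_left, Pi.single_apply]
      simp [hne i]
    · intro i
      rw [bet_eq, SympBasic.sympForm_single_inr_left, Pi.single_apply]
      simp
  have hpow : ∀ (v : Fin n ⊕ Fin n → F), s v = v → ∀ i : ℕ, (s ^ i) v = v := by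
    intro v hv i
    induction i with
    | zero => rw [pow_zero]; rfl
    | succ i ih =>
      rw [pow_succ]
      show (s ^ i) (s v) = v
      rw [hv, ih]
  obtain ⟨Q', hQ', hsQ', hQ'0⟩ := exists_avg qf_bet hsβ hT.odd (by rw [← hso, pow_orderOf_eq_one])
  refine (frob_beta hQ' alt_bet hT hsQ' (by omega) (by rw [finrank_plus]; omega) (e := Pi.single (.inl k) 1)
    (f := Pi.single (.inr k) 1) (mem_bV.2 (hpow _ he _)) (mem_bV.2 (hpow _ hf _)) (hQ'0 _ he (plus_inl k)) ?_).mono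
    (OQ_le hQ')
  rw [bet_eq, SympBasic.sympForm_single_inl_left, CharTwo.neg_eq, Pi.single_apply]
  simp

/-- **Covers of `PSp_2n(q)`, `q` even, `p` odd.** -/
theorem cov_psp (hn : 3 ≤ n) {p : ℕ} (hp : p.Prime) (hp2 : p ≠ 2) {A : Type*} [AddCommGroup A] [Nontrivial A]
    (hA : ∀ a : A, p • a = 0) (φ : PSp n F →* AddMonoid.End A) :
    ∃ (x : PSp n F) (a : A), ∑ i ∈ range (orderOf x), φ (x ^ i) a ≠ 0 ∧
      ¬ ∃ y : PSp n F, orderOf y = p * orderOf x := by
  have hsim : IsSimpleGroup (PSp n F) := Cfsg.Agent.S0270.result n (by omega) (by omega)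
  obtain ⟨j, hR⟩ := rep_psp (F := F) (n := n) (by omega)
  obtain ⟨l, a, hl, hl2, hlq, -, x, hx⟩ := CovTwo.exists_torus (F := F) (m := n) (by omega)
  have hz : Zs (Fintype.card F) l a (2 * n) := ⟨hl, hl2, by omega, hlq⟩
  have hNo : Odd (l ^ (a + 1)) := (hl.odd_of_ne_two hl2).pow
  have hsN : ∃ s ∈ Isom (bet n F), orderOf s = l ^ (a + 1) :=
    ⟨spL n F x, isom_bet x, by rw [orderOf_injective _ spL_injective, hx]⟩
  have hq2 : 2 ≤ Fintype.card F := Fintype.one_lt_card
  have hq0 : 0 < Fintype.card F := Fintype.card_pos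
  have hE : ¬ p ∣ Fintype.card F ^ n + 1 →
      (¬ p ∣ l ^ (a + 1) ∧ ∀ y ∈ Isom (bet n F), orderOf y ≠ p * l ^ (a + 1)) :=
    fun h => caseE alt_bet hz (by omega) finrank_plus hp h
  rcases Nat.even_or_odd n with hne | hno
  · have hodd : Odd (n - 1) := Nat.Even.sub_odd (by omega) hne odd_one
    have hn4 : 4 ≤ n := by
      rcases hne with ⟨k, hk⟩
      omega
    by_cases hpq : p ∣ Fintype.card F + 1
    · have hE' := hE (fun h => arith_d hp hp2 hne hpq h)
      obtain ⟨l', a', hl', hl2', hlq', -, -⟩ := CovTwo.exists_torus (F := F) (m := n - 1) (by omega)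
      have hz' : Zs (Fintype.card F) l' a' (2 * (n - 1)) := ⟨hl', hl2', by omega, hlq'⟩
      exact cov_of_frob hR (one_lt_add hq2) (frob_beta_sp hn) hp hp2
        (fun y hy ho => arith_e hp hp2 hq0 hpq
          ((ne_D alt_bet hz' (by omega) (by rw [finrank_plus]; omega) hp hp2 hy ho).1 hodd)) hNo hsN (Or.inr hE') hA φ
    · obtain ⟨l', hz'⟩ := exists_zs (F := F) (e := n - 1) (by omega) (by
        rintro ⟨-, h⟩
        rw [h] at hodd
        exact absurd hodd (by decide))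
      refine cov_of_frob hR (one_lt_sub hq2 (by omega)) (frob_alpha_sp (n := n) (by omega) hodd (by omega)) hp hp2
        (fun y hy ho => hpq (ne_B alt_bet hz' hodd (by rw [finrank_plus]; omega) hp hp2 hy ho).1) hNo hsN ?_ hA φ
      by_cases hM : p ∣ Fintype.card F ^ (n - 1) - 1
      · right
        apply hE
        intro h
        apply hpq
        have h' : p ∣ Fintype.card F ^ (n - 1 + 1) + 1 := by rwa [Nat.sub_add_cancel (by omega)]
        exact arith_a hq0 hM h'
      · left; exact hM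
  · obtain ⟨l', hz'⟩ := exists_zs (F := F) (e := n) (by omega) (by
      rintro ⟨-, h⟩
      rw [h] at hno
      exact absurd hno (by decide))
    refine cov_of_frob hR (one_lt_sub hq2 (by omega)) (frob_alpha_sp (n := n) le_rfl hno (by omega)) hp hp2
      (fun y hy => ne_A alt_bet hz' hno finrank_plus hp hp2 hy) hNo hsN ?_ hA φ
    by_cases hM : p ∣ Fintype.card F ^ n - 1
    · right
      apply hE
      intro h
      exact arith_b hp hp2 hq0 hM h
    · left; exact hM

end Sp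

/-! ### Plus type -/

section Plus

variable {F : Type*} [Field F] [Fintype F] [CharP F 2] {n : ℕ}

theorem data_plus (hn : 4 ≤ n) : H390.Lift.Data (quadPlus n F) :=
  data_two quadPlus_nondegenerate (by simp only [Fintype.card_sum, Fintype.card_fin]; omega) (quadPlus_isotropic (by omega))

open Classical in
theorem cov_plus' (hn : 4 ≤ n) {p : ℕ} (hp : p.Prime) (hp2 : p ≠ 2) {A : Type*} [AddCommGroup A] [Nontrivial A]
    (hA : ∀ a : A, p • a = 0) (φ : POmega F (⇑(quadPlus n F)) →* AddMonoid.End A) :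
    ∃ (x : POmega F (⇑(quadPlus n F))) (a : A), ∑ i ∈ range (orderOf x), φ (x ^ i) a ≠ 0 ∧
      ¬ ∃ y : POmega F (⇑(quadPlus n F)), orderOf y = p * orderOf x := by
  have hD := data_plus (F := F) hn
  have hsim : IsSimpleGroup (POmega F (⇑(quadPlus n F))) :=
    simple_om quadPlus_nondegenerate (by simp only [Fintype.card_sum, Fintype.card_fin]; omega)
  obtain ⟨j, hR⟩ := rep_om hD
  obtain ⟨ψ, hψ⟩ := exists_psi (F := F)
  obtain ⟨l, a, hl, hl2, hlq, -, x, hx⟩ := CovTwo.exists_torus (F := F) (m := n - 1) (by omega)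
  have hz : Zs (Fintype.card F) l a (2 * (n - 1)) := ⟨hl, hl2, by omega, hlq⟩
  have hNo : Odd (l ^ (a + 1)) := (hl.odd_of_ne_two hl2).pow
  have hsN : ∃ s ∈ OQ (⇑(quadPlus n F)), orderOf s = l ^ (a + 1) := by
    obtain ⟨f, hf⟩ := H382.SpOm.exists_sp_in_omega (quadPlus n F) quadPlus_nondegenerate (m := n - 1)
      (by simp only [Fintype.card_sum, Fintype.card_fin]; omega) (Or.inl (by omega))
    obtain ⟨s, hs, hso⟩ := exists_of_pom hD (f x)
    exact ⟨s, hs, by rw [hso, orderOf_injective f hf, hx]⟩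
  have hq2 : 2 ≤ Fintype.card F := Fintype.one_lt_card
  have hq0 : 0 < Fintype.card F := Fintype.card_pos
  have hG : GS ψ (⇑(quadPlus n F)) ⊤ = Fintype.card F ^ (n - 1 + 1) := by
    rw [GS_plus hψ, Nat.sub_add_cancel (by omega)]
  have hdim : finrank F (Fin n ⊕ Fin n → F) = 2 * (n - 1) + 2 := by rw [finrank_plus]; omega
  have hF : ¬ p ∣ Fintype.card F ^ (n - 1) + 1 → ¬ p ∣ Fintype.card F + 1 →
      (¬ p ∣ l ^ (a + 1) ∧ ∀ y ∈ OQ (⇑(quadPlus n F)), orderOf y ≠ p * l ^ (a + 1)) :=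
    fun h1 h2 => caseF hψ qf_bet alt_bet hz (by omega) hdim hG hp hp2 h1 h2
  rcases Nat.even_or_odd n with hne | hno
  · have hodd : Odd (n - 1) := Nat.Even.sub_odd (by omega) hne odd_one
    obtain ⟨l', hz'⟩ := exists_zs (F := F) (e := n - 1) (by omega) (by
      rintro ⟨-, h⟩
      rw [h] at hodd
      exact absurd hodd (by decide))
    refine cov_of_frob hR (one_lt_sub hq2 (by omega)) (frob_alpha_plus (n := n) (by omega) hodd (by omega)) hp hp2
      (fun y hy => ne_BQ hψ qf_bet alt_bet hz' hodd hdim hG hp hp2 hy) hNo hsN ?_ hA φ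
    by_cases hM : p ∣ Fintype.card F ^ (n - 1) - 1
    · right
      exact hF (fun h => arith_b hp hp2 hq0 hM h) (fun h => arith_c hp hp2 hq0 hodd hM h)
    · left; exact hM
  · obtain ⟨l', hz'⟩ := exists_zs (F := F) (e := n) (by omega) (by
      rintro ⟨-, h⟩
      rw [h] at hno
      exact absurd hno (by decide))
    refine cov_of_frob hR (one_lt_sub hq2 (by omega)) (frob_alpha_plus (n := n) le_rfl hno (by omega)) hp hp2
      (fun y hy => ne_A alt_bet hz' hno finrank_plus hp hp2 (OQ_le qf_bet hy)) hNo hsN ?_ hA φ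
    by_cases hM : p ∣ Fintype.card F ^ n - 1
    · right
      have h2 : ¬ p ∣ Fintype.card F + 1 := fun h => arith_c hp hp2 hq0 hno hM h
      refine hF (fun h => h2 ?_) h2
      have hM' : p ∣ Fintype.card F ^ (n - 1 + 1) - 1 := by rwa [Nat.sub_add_cancel (by omega)]
      exact arith_h hq0 hM' h
    · left; exact hM

/-- **Covers of `PΩ⁺_2n(q)`, `q` even, `p` odd.** -/
theorem cov_plus (hn : 4 ≤ n) {p : ℕ} (hp : p.Prime) (hp2 : p ≠ 2) {A : Type*} [AddCommGroup A] [Nontrivial A]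
    (hA : ∀ a : A, p • a = 0) (φ : POmega F (quadFormPlus n F) →* AddMonoid.End A) :
    ∃ (x : POmega F (quadFormPlus n F)) (a : A), ∑ i ∈ range (orderOf x), φ (x ^ i) a ≠ 0 ∧
      ¬ ∃ y : POmega F (quadFormPlus n F), orderOf y = p * orderOf x := by
  revert φ
  rw [← coe_quadPlus]
  exact fun φ => cov_plus' hn hp hp2 hA φ

end Plus

/-! ### Minus type -/

section Minus

variable {F : Type*} [Field F] [Fintype F] [CharP F 2] {n : ℕ} {a b : F}

theorem data_minus (hn : 4 ≤ n) (hab : ∀ z₁ z₂ : F, z₁ ^ 2 + a * z₁ * z₂ + b * z₂ ^ 2 = 0 → z₁ = 0 ∧ z₂ = 0) :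
    H390.Lift.Data (quadMinus (n - 1) F a b) :=
  data_two (quadMinus_nondegenerate hab) (by simp only [Fintype.card_sum, Fintype.card_fin]; omega)
    (quadMinus_isotropic (by omega) a b)

theorem qf_betm (k : ℕ) : QF (⇑(quadMinus k F a b)) (betm k F a b) := qf_of _

theorem alt_betm (k : ℕ) (hab : ∀ z₁ z₂ : F, z₁ ^ 2 + a * z₁ * z₂ + b * z₂ ^ 2 = 0 → z₁ = 0 ∧ z₂ = 0) :
    Alt (betm k F a b) := alt_of (quadMinus_nondegenerate hab)

theorem finrank_minus (hn : 1 ≤ n) : finrank F ((Fin (n - 1) ⊕ Fin (n - 1)) ⊕ Fin 2 → F) = 2 * n := by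
  rw [Module.finrank_fintype_fun_eq_card, Fintype.card_sum, Fintype.card_sum, Fintype.card_fin, Fintype.card_fin]
  omega

theorem frob_alpha_minus {m k : ℕ} (hmk : m ≤ k) (hm : Odd m) (hm1 : 1 < m) :
    Frob (OQ (⇑(quadMinus k F a b))) (Fintype.card F ^ m - 1) :=
  frob_alpha hm hm1 (qf_betm k) (frame_minus hmk a b) (fun i => minus_inl a b _) (fun i => minus_inr a b _)

open Classical in
theorem cov_minus' (hn : 4 ≤ n) (hab : ∀ z₁ z₂ : F, z₁ ^ 2 + a * z₁ * z₂ + b * z₂ ^ 2 = 0 → z₁ = 0 ∧ z₂ = 0)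
    {p : ℕ} (hp : p.Prime) (hp2 : p ≠ 2) {A : Type*} [AddCommGroup A] [Nontrivial A]
    (hA : ∀ a : A, p • a = 0) (φ : POmega F (⇑(quadMinus (n - 1) F a b)) →* AddMonoid.End A) :
    ∃ (x : POmega F (⇑(quadMinus (n - 1) F a b))) (v : A), ∑ i ∈ range (orderOf x), φ (x ^ i) v ≠ 0 ∧
      ¬ ∃ y : POmega F (⇑(quadMinus (n - 1) F a b)), orderOf y = p * orderOf x := by
  have hD := data_minus (F := F) hn hab
  have hsim : IsSimpleGroup (POmega F (⇑(quadMinus (n - 1) F a b))) :=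
    simple_om (quadMinus_nondegenerate hab) (by simp only [Fintype.card_sum, Fintype.card_fin]; omega)
  obtain ⟨j, hR⟩ := rep_om hD
  obtain ⟨ψ, hψ⟩ := exists_psi (F := F)
  have hq2 : 2 ≤ Fintype.card F := Fintype.one_lt_card
  have hq0 : 0 < Fintype.card F := Fintype.card_pos
  have hdim0 : finrank F ((Fin (n - 1) ⊕ Fin (n - 1)) ⊕ Fin 2 → F) = 2 * n := finrank_minus (by omega)
  have hdim : finrank F ((Fin (n - 1) ⊕ Fin (n - 1)) ⊕ Fin 2 → F) = 2 * (n - 1) + 2 := by rw [hdim0]; omega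
  have hG : GS ψ (⇑(quadMinus (n - 1) F a b)) ⊤ = -Fintype.card F ^ (n - 1 + 1) := GS_minus hψ (n - 1) hab
  have hβ := alt_betm (F := F) (n - 1) hab
  have hQ := qf_betm (F := F) (a := a) (b := b) (n - 1)
  -- the torus of degree `2 n`
  obtain ⟨l, hz⟩ := exists_zs (F := F) (e := 2 * n) (by omega) (by omega)
  have hNo : Odd (l ^ (0 + 1)) := (hz.hl.odd_of_ne_two hz.hl2).pow
  have hsN : ∃ s ∈ OQ (⇑(quadMinus (n - 1) F a b)), orderOf s = l ^ (0 + 1) := by
    have := Fact.mk hz.hl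
    have h1 : l ∣ Fintype.card F ^ n + 1 := by
      have := hz.dvd_add_one hq0 (by omega)
      rwa [zero_add, pow_one] at this
    have h2 : l ∣ Nat.card (Cfsg.isometryGroup F (⇑(quadMinus (n - 1) F a b))) := by
      rw [coe_quadMinus, Cfsg.Agent.S0288.result rfl n (by omega) a b hab]
      exact Dvd.dvd.mul_right (Dvd.dvd.mul_left h1 _) _
    obtain ⟨X, hX⟩ := exists_prime_orderOf_dvd_card' l h2
    exact ⟨isoL _ X, isoL_mem X, by rw [orderOf_injective _ isoL_injective, hX, zero_add, pow_one]⟩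
  have hE : ¬ p ∣ Fintype.card F ^ n + 1 →
      (¬ p ∣ l ^ (0 + 1) ∧ ∀ y ∈ OQ (⇑(quadMinus (n - 1) F a b)), orderOf y ≠ p * l ^ (0 + 1)) := by
    intro h
    obtain ⟨h1, h2⟩ := caseE hβ hz (by omega) hdim0 hp h
    exact ⟨h1, fun y hy => h2 y (OQ_le hQ hy)⟩
  -- the torus of degree `2 (n - 1)`
  obtain ⟨l', a', hl', hl2', hlq', -, x', hx'⟩ := CovTwo.exists_torus (F := F) (m := n - 1) (by omega)
  have hz' : Zs (Fintype.card F) l' a' (2 * (n - 1)) := ⟨hl', hl2', by omega, hlq'⟩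
  have hfβ : Frob (OQ (⇑(quadMinus (n - 1) F a b))) (Fintype.card F ^ (n - 1) + 1) := by
    obtain ⟨f, hf⟩ := H382.SpOm.exists_sp_in_omega (quadMinus (n - 1) F a b) (quadMinus_nondegenerate hab) (m := n - 1)
      (by simp only [Fintype.card_sum, Fintype.card_fin]; omega) (Or.inl (by omega))
    obtain ⟨s, hs, hso⟩ := exists_of_pom hD (f x')
    exact frob_beta' hψ hQ hβ (by omega) hz' (by rw [hso, orderOf_injective f hf, hx']) hs hdim hG
  rcases Nat.even_or_odd n with hne | hno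
  · have hodd : Odd (n - 1) := Nat.Even.sub_odd (by omega) hne odd_one
    by_cases hpq : p ∣ Fintype.card F + 1
    · have hE' := hE (fun h => arith_d hp hp2 hne hpq h)
      exact cov_of_frob hR (one_lt_add hq2) hfβ hp hp2
        (fun y hy ho => arith_e hp hp2 hq0 hpq
          ((ne_D hβ hz' (by omega) hdim hp hp2 (OQ_le hQ hy) ho).1 hodd)) hNo hsN (Or.inr hE') hA φ
    · obtain ⟨l'', hz''⟩ := exists_zs (F := F) (e := n - 1) (by omega) (by
        rintro ⟨-, h⟩
        rw [h] at hodd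
        exact absurd hodd (by decide))
      refine cov_of_frob hR (one_lt_sub hq2 (by omega)) (frob_alpha_minus le_rfl hodd (by omega)) hp hp2
        (fun y hy ho => hpq (ne_B hβ hz'' hodd hdim hp hp2 (OQ_le hQ hy) ho).1) hNo hsN ?_ hA φ
      by_cases hM : p ∣ Fintype.card F ^ (n - 1) - 1
      · right
        apply hE
        intro h
        apply hpq
        have h' : p ∣ Fintype.card F ^ (n - 1 + 1) + 1 := by rwa [Nat.sub_add_cancel (by omega)]
        exact arith_a hq0 hM h'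
      · left; exact hM
  · have hn5 : 5 ≤ n := by
      rcases hno with ⟨k, hk⟩
      omega
    by_cases hpq : p ∣ Fintype.card F - 1
    · have hodd : Odd (n - 2) := Nat.Odd.sub_even (by omega) hno even_two
      obtain ⟨l'', hz''⟩ := exists_zs (F := F) (e := n - 2) (by omega) (by
        rintro ⟨-, h⟩
        rw [h] at hodd
        exact absurd hodd (by decide))
      exact cov_of_frob hR (one_lt_sub hq2 (by omega)) (frob_alpha_minus (by omega) hodd (by omega)) hp hp2
        (fun y hy ho => ne_C hβ hz'' hodd (by rw [hdim]; omega) hp hp2 (OQ_le hQ hy) ho hpq) hNo hsN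
        (Or.inr (hE (fun h => arith_g hp hp2 hq0 hpq h))) hA φ
    · refine cov_of_frob hR (one_lt_add hq2) hfβ hp hp2
        (fun y hy ho => hpq (ne_DQ hψ hQ hβ hz' (by omega) hdim hG hp hp2 hy ho)) hNo hsN ?_ hA φ
      by_cases hM : p ∣ Fintype.card F ^ (n - 1) + 1
      · right
        apply hE
        intro h
        apply hpq
        have h' : p ∣ Fintype.card F ^ (n - 1 + 1) + 1 := by rwa [Nat.sub_add_cancel (by omega)]
        exact arith_f hq0 hM h'
      · left; exact hM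

/-- **Covers of `PΩ⁻_2n(q)`, `q` even, `p` odd.** -/
theorem cov_minus (hn : 4 ≤ n) (hab : ∀ z₁ z₂ : F, z₁ ^ 2 + a * z₁ * z₂ + b * z₂ ^ 2 = 0 → z₁ = 0 ∧ z₂ = 0)
    {p : ℕ} (hp : p.Prime) (hp2 : p ≠ 2) {A : Type*} [AddCommGroup A] [Nontrivial A]
    (hA : ∀ a : A, p • a = 0) (φ : POmega F (quadFormMinus (n - 1) F a b) →* AddMonoid.End A) :
    ∃ (x : POmega F (quadFormMinus (n - 1) F a b)) (v : A), ∑ i ∈ range (orderOf x), φ (x ^ i) v ≠ 0 ∧
      ¬ ∃ y : POmega F (quadFormMinus (n - 1) F a b), orderOf y = p * orderOf x := by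
  revert φ
  rw [← coe_quadMinus]
  exact fun φ => cov_minus' hn hab hp hp2 hA φ

end Minus

end Cfsg.Agent.H375.Odd
end

-- part: H375/Out/SpMain
section
prune_inst 0x405701400414000000000059601200040140000200068880008000b020e08c50a08820160bcb015160080818540090000000000004040000004000000011d0080000012063040a008820086000000400000000000000000000000000000000000000000000
set_option linter.all false
open scoped Cfsg.Agent.FastGrp

-- part: H375/Out/SpNM
section
/-!
# Orders that do not occur in `Sp (2n, q)`, `q` even (helper375)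
-/

set_option autoImplicit false
set_option linter.unusedVariables false
set_option linter.unusedSectionVars false

namespace Cfsg.Agent.H375.Out

open Module Finset Cfsg.Agent.H375.Odd

theorem zs_up {q l a e s : ℕ} (h : Zs q l a e) (hes : Nat.Coprime e s) : Zs (q ^ s) l a e := by
  refine ⟨h.hl, h.hl2, h.he, fun m => ?_⟩
  rw [← pow_mul, h.hq]
  exact hes.dvd_mul_left

variable {F : Type*} [Field F] [CharP F 2] {V : Type*} [AddCommGroup V] [Module F V]
variable [Fintype F] [FiniteDimensional F V] {β : V →ₗ[F] V →ₗ[F] F}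

theorem Nu_pow_le {u : V ≃ₗ[F] V} {i j : ℕ} (hij : i ≤ j) {v : V} (h : (Nu u ^ i) v = 0) : (Nu u ^ j) v = 0 := by
  obtain ⟨k, rfl⟩ := Nat.exists_eq_add_of_le' hij
  rw [pow_add]
  show (Nu u ^ k) ((Nu u ^ i) v) = 0
  rw [h, map_zero]

theorem eq_one_of_Nu {u : V ≃ₗ[F] V} {c : ℕ} (h : ∀ v, (Nu u ^ 2 ^ c) v = 0) : u ^ 2 ^ c = 1 := by
  apply LinearEquiv.ext
  intro v
  have := h v
  rw [Nu_pow, Nu_apply, sub_eq_zero] at this
  exact this

theorem nu_fix {u : V ≃ₗ[F] V} {v : V} (h : u v = v) {k : ℕ} (hk : 0 < k) : (Nu u ^ k) v = 0 := by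
  apply Nu_pow_le (i := 1) hk
  rw [pow_one, Nu_apply, h, sub_self]

theorem comm_of_zpowers {y a b : V ≃ₗ[F] V} (ha : a ∈ Subgroup.zpowers y) (hb : b ∈ Subgroup.zpowers y) (v : V) :
    a (b v) = b (a v) := by
  obtain ⟨i, rfl⟩ := ha
  obtain ⟨j, rfl⟩ := hb
  show (y ^ i * y ^ j) v = (y ^ j * y ^ i) v
  rw [← zpow_add, ← zpow_add, add_comm]

theorem mem_zp {y z : V ≃ₗ[F] V} {H : Subgroup (V ≃ₗ[F] V)} (hy : y ∈ H) (hz : z ∈ Subgroup.zpowers y) : z ∈ H :=
  (Subgroup.zpowers_le.2 hy) hz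

/-- Order `2 ^ c * (s * T)`. -/
theorem nm_gen (hβ : Alt β) {l a e η M s c : ℕ} (B : Blk (Fintype.card F) l a e η M)
    (hfr : finrank F V = 2 * (η + c)) (hdim : finrank F V < 4 * η) (hc : c ≤ 2) (hs : s.Prime) (hs2 : s ≠ 2)
    (hsM : ¬ s ∣ M) {y : V ≃ₗ[F] V} (hyβ : y ∈ Isom β) (hy : orderOf y = 2 ^ c * (s * l ^ (a + 1))) : False := by
  have hR : Odd s := hs.odd_of_ne_two hs2
  obtain ⟨t, x, u, ht, hx, hu, hT, hxo, huo, hd1, hd2, hxW, huW⟩ :=
    split hβ B hdim hR ((Nat.Prime.coprime_iff_not_dvd hs).2 hsM) hyβ hy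
  have hxβ := mem_zp hyβ hx
  have huβ := mem_zp hyβ hu
  have hxs : x ^ s = 1 := by rw [← hxo, pow_orderOf_eq_one]
  have hx1 : x ≠ 1 := by
    rintro rfl
    rw [orderOf_one] at hxo
    exact hs.one_lt.ne hxo
  have htz : t ^ l ^ a ∈ Subgroup.zpowers y := (Subgroup.zpowers y).pow_mem ht _
  have hxt := comm_of_zpowers hx htz
  have hl := hT.hl.odd_of_ne_two hT.hl2
  have h3 := finrank_three hl hT.ht hR hxs hxt hxW
  have hpos : 0 < finrank F (bW x) := by
    rw [Nat.pos_iff_ne_zero]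
    intro h0
    exact bW_ne_bot hx1 (Submodule.finrank_eq_zero.1 h0)
  obtain ⟨d, hd⟩ := even_bW hβ hxβ hR hxs
  have hux := comm_of_zpowers hu hx
  have huc : u ^ 2 ^ c = 1 := by rw [← huo, pow_orderOf_eq_one]
  have h4 := unip hβ hxβ huβ (fun v => (hux v).symm) hR hxs huc (k := c) (by omega)
  have hut := comm_of_zpowers hu htz
  have h5 := nil_of_finrank (u := u) (Y := bV (t ^ l ^ a) ⊓ bV x) (fun v hv => ⟨bV_inv hut v hv.1, bV_inv hux v hv.2⟩)
    huc (d := 2 * c - 2) (by omega)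
  have hc1 : 1 ≤ c := by omega
  have hcc : 2 ^ (c - 1) = c := by interval_cases c <;> rfl
  have h6 : u ^ 2 ^ (c - 1) = 1 := by
    apply eq_one_of_Nu
    intro v
    rw [hcc]
    obtain ⟨w, hw, z, hz, y', hy', rfl⟩ := three_split hl hT.ht hR hxs hxt hxW v
    rw [map_add, map_add, nu_fix (huW w hw) hc1, h4 z hz, Nu_pow_le (by omega) (h5 y' hy'), add_zero, add_zero]
  have h7 := orderOf_dvd_of_pow_eq_one h6
  rw [huo, Nat.pow_dvd_pow_iff_le_right (by norm_num)] at h7
  omega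

/-- Order `2 ^ (b + 1) * T`. -/
theorem nm_two (hβ : Alt β) {l a e η M b : ℕ} (B : Blk (Fintype.card F) l a e η M)
    (hfr : finrank F V = 2 * (η + b)) (hdim : finrank F V < 4 * η) (hb : b ≤ 1) {y : V ≃ₗ[F] V} (hyβ : y ∈ Isom β)
    (hy : orderOf y = 2 ^ (b + 1) * l ^ (a + 1)) : False := by
  obtain ⟨t, x, u, ht, hx, hu, hT, hxo, huo, hd1, hd2, hxW, huW⟩ :=
    split hβ B hdim odd_one (Nat.coprime_one_left M) hyβ (c := b + 1) (by rw [hy, one_mul])
  have htz : t ^ l ^ a ∈ Subgroup.zpowers y := (Subgroup.zpowers y).pow_mem ht _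
  have hut := comm_of_zpowers hu htz
  have hl := hT.hl.odd_of_ne_two hT.hl2
  have huc : u ^ 2 ^ (b + 1) = 1 := by rw [← huo, pow_orderOf_eq_one]
  have h5 := nil_of_finrank (u := u) (Y := bV (t ^ l ^ a)) (bV_inv hut) huc (d := 2 * b) (by omega)
  have h6 : u ^ 2 ^ b = 1 := by
    apply eq_one_of_Nu
    intro v
    obtain ⟨w, hw, z, hz, rfl⟩ := exists_split hl hT.ht v
    rw [map_add, nu_fix (huW w hw) (pow_pos two_pos b), Nu_pow_le (by interval_cases b <;> norm_num) (h5 z hz), add_zero]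
  have h7 := orderOf_dvd_of_pow_eq_one h6
  rw [huo, Nat.pow_dvd_pow_iff_le_right (by norm_num)] at h7
  omega

/-- Order `8 * s` in dimension six. -/
theorem nm_three (hβ : Alt β) {s : ℕ} (hfr : finrank F V = 6) (hs : s.Prime) (hs2 : s ≠ 2)
    {y : V ≃ₗ[F] V} (hyβ : y ∈ Isom β) (hy : orderOf y = 2 ^ 3 * s) : False := by
  have hR : Odd s := hs.odd_of_ne_two hs2
  have hxo : orderOf (y ^ 2 ^ 3) = s := by
    rw [orderOf_pow_of_dvd (by norm_num) (by rw [hy]; exact dvd_mul_right _ _), hy, Nat.mul_div_cancel_left _ (by norm_num)]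
  have huo : orderOf (y ^ s) = 2 ^ 3 := by
    rw [orderOf_pow_of_dvd hs.ne_zero (by rw [hy]; exact dvd_mul_left _ _), hy, Nat.mul_div_cancel _ hs.pos]
  set x := y ^ 2 ^ 3 with hxd
  set u := y ^ s with hud
  have hx : x ∈ Subgroup.zpowers y := Subgroup.npow_mem_zpowers y _
  have hu : u ∈ Subgroup.zpowers y := Subgroup.npow_mem_zpowers y _
  have hxβ := mem_zp hyβ hx
  have huβ := mem_zp hyβ hu
  have hxs : x ^ s = 1 := by rw [← hxo, pow_orderOf_eq_one]
  have hx1 : x ≠ 1 := by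
    intro h
    rw [h, orderOf_one] at hxo
    exact hs.one_lt.ne hxo
  have hpos : 0 < finrank F (bW x) := by
    rw [Nat.pos_iff_ne_zero]
    intro h0
    exact bW_ne_bot hx1 (Submodule.finrank_eq_zero.1 h0)
  obtain ⟨d, hd⟩ := even_bW hβ hxβ hR hxs
  have hadd := finrank_bW_add (F := F) x
  have hux := comm_of_zpowers hu hx
  have huc : u ^ 2 ^ 3 = 1 := by rw [← huo, pow_orderOf_eq_one]
  have h4 := unip hβ hxβ huβ (fun v => (hux v).symm) hR hxs huc (k := 3) (by omega)
  have h5 := nil_of_finrank (u := u) (Y := bV x) (bV_inv hux) huc (d := 4) (by omega)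
  have h6 : u ^ 2 ^ 2 = 1 := by
    apply eq_one_of_Nu
    intro v
    obtain ⟨w, hw, z, hz, rfl⟩ := exists_split hR hxs v
    rw [map_add, Nu_pow_le (by norm_num) (h4 w hw), Nu_pow_le (by norm_num) (h5 z hz), add_zero]
  have h7 := orderOf_dvd_of_pow_eq_one h6
  rw [huo, Nat.pow_dvd_pow_iff_le_right (by norm_num)] at h7
  omega

end Cfsg.Agent.H375.Out
end

-- part: H375/Out/SpLink
section
/-!
# `AutOk (PSp n F)` from the statement on semilinear isometries (helper375)
-/

set_option autoImplicit false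
set_option linter.unusedVariables false
set_option linter.unusedSectionVars false

namespace Cfsg.Agent.H375.Out

open Module Finset Cfsg Cfsg.Agent.H375.Odd Cfsg.Agent.ClassicalGeometry
open Cfsg.Agent.ClassicalGeometry.SympAutSemi Cfsg.Agent.ClassicalGeometry.SympGamma

variable {F : Type*} [Field F] {n : ℕ}

/-- Semilinear isometries of the symplectic space. -/
def GIs (n : ℕ) (F : Type*) [Field F] : Subgroup (Equiv.Perm (Fin n ⊕ Fin n → F)) where
  carrier := {M | ∃ σ : F ≃+* F, IsSemi M σ 1}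
  mul_mem' := by
    rintro M N ⟨σ, hM⟩ ⟨τ, hN⟩
    have := hM.mul hN
    rw [map_one, mul_one] at this
    exact ⟨_, this⟩
  one_mem' := ⟨RingEquiv.refl F, fun _ _ => rfl, fun _ _ => rfl, fun _ _ => by
    rw [one_mul]; rfl⟩
  inv_mem' := by
    rintro M ⟨σ, hM⟩
    have := hM.inv one_ne_zero
    rw [inv_one, map_one] at this
    exact ⟨_, this⟩

theorem GIs_le : GIs n F ≤ semiSim n F := fun M ⟨σ, h⟩ => ⟨σ, 1, one_ne_zero, h⟩

variable [Fintype F] [CharP F 2]

/-- The hypotheses. -/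
structure HypS (X : Subgroup (Equiv.Perm (Fin n ⊕ Fin n → F))) : Prop where
  le : (Isom (bet n F)).map (lp F (Fin n ⊕ Fin n → F)) ≤ X
  semi : X ≤ GIs n F
  ord : ∀ x ∈ X, ∃ y ∈ Isom (bet n F), orderOf y = orderOf x

theorem rho_eq (A : Matrix.symplecticGroup (Fin n) F) : rho n F A = lp F (Fin n ⊕ Fin n → F) (spL n F A) := by
  ext1 v
  rfl

theorem Psi_rho (A : Matrix.symplecticGroup (Fin n) F) (h : rho n F A ∈ semiSim n F) :
    Psi n F (⟨rho n F A, h⟩ : semiSim n F) = MulAut.conj (QuotientGroup.mk A : PSp n F) := by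
  ext x
  induction x using QuotientGroup.induction_on with
  | H B =>
    rw [Psi_mk, MulAut.conj_apply]
    have : SympAutSemi.conjHom n F (⟨rho n F A, h⟩ : semiSim n F) B = A * B * A⁻¹ := by
      apply rho_injective
      rw [rho_conjHom, map_mul, map_mul, map_inv]
    rw [this]
    rfl

/-- **The link.** -/
theorem autOk_psp (hn : 3 ≤ n)
    (H : ∀ X : Subgroup (Equiv.Perm (Fin n ⊕ Fin n → F)), HypS X → X ≤ (Isom (bet n F)).map (lp F (Fin n ⊕ Fin n → F))) :
    H373.Recog.AutOk (PSp n F) := by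
  classical
  intro A hA hω α hα
  set X : Subgroup (Equiv.Perm (Fin n ⊕ Fin n → F)) := (A.comap (Psi n F)).map (semiSim n F).subtype ⊓ GIs n F with hX
  obtain ⟨j, hj1, hj2, -⟩ := rep_psp (F := F) (n := n) (by omega)
  have hXh : HypS X := by
    refine ⟨?_, inf_le_right, ?_⟩
    · rintro _ ⟨g, hg, rfl⟩
      obtain ⟨B, rfl⟩ := exists_spL hg
      rw [← rho_eq]
      have hB : rho n F B ∈ GIs n F := ⟨_, isSemi_rho B⟩
      refine ⟨⟨⟨rho n F B, GIs_le hB⟩, ?_, rfl⟩, hB⟩
      show Psi n F _ ∈ A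
      rw [Psi_rho]
      exact hA ⟨_, rfl⟩
    · rintro x ⟨⟨g, hg, rfl⟩, hx⟩
      have hgo : orderOf (Psi n F g) = orderOf g := by
        rw [orderOf_eq_orderOf_iff]
        intro k
        rw [← map_pow]
        constructor
        · intro h
          obtain ⟨a, ha⟩ := exists_scal_of_Psi_eq_one (by omega) _ h
          have hx' : (g ^ k).1 ∈ GIs n F := by
            have := (GIs n F).pow_mem hx k
            exact this
          obtain ⟨σ, hσ⟩ := hx'
          rw [ha] at hσ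
          have h1 := hσ.2.2 (Pi.single (.inl ⟨0, by omega⟩) 1) (Pi.single (.inr ⟨0, by omega⟩) 1)
          rw [scal_apply, scal_apply, SympBasic.sympForm_smul_left, SympBasic.sympForm_smul_right,
            SympBasic.sympForm_single_inl_left, CharTwo.neg_eq, Pi.single_eq_same, map_one, mul_one, mul_one] at h1
          have h4 : (a : F) = 1 := by
            have h5 : ((a : F) - 1) * ((a : F) - 1) = 0 := by
              have h2 : (2 : F) = 0 := CharTwo.two_eq_zero
              linear_combination h1 + (1 - (a : F)) * h2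
            exact sub_eq_zero.1 (mul_self_eq_zero.1 h5)
          apply Subtype.ext
          rw [ha]
          ext1 v
          rw [scal_apply, h4, one_smul]
          rfl
        · intro h
          rw [h, map_one]
      obtain ⟨y, hy⟩ := hω _ hg
      refine ⟨j y, hj2 y, ?_⟩
      rw [orderOf_injective j hj1, hy, hgo]
      exact (orderOf_injective (semiSim n F).subtype Subtype.val_injective g).symm
  have hX2 := H X hXh
  obtain ⟨g, rfl⟩ := SympAutExists.exists_semi (by omega) α (SympAutOddA.recog (by omega) (Or.inl hn) α)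
  obtain ⟨φ, l, hl, hs⟩ := id g.2
  obtain ⟨d, hd⟩ := FiniteField.isSquare_of_char_two (F := F) (ringChar.eq F 2) l
  have hd0 : d ≠ 0 := by
    rintro rfl
    rw [mul_zero] at hd
    exact hl hd
  let a : Fˣ := (Units.mk0 d hd0)⁻¹
  have ha : (a : F) * a * l = 1 := by
    show d⁻¹ * d⁻¹ * l = 1
    rw [hd]
    field_simp
  have hsc : scal n F a ∈ semiSim n F := ⟨_, _, mul_ne_zero a.ne_zero a.ne_zero, isSemi_scal a⟩
  have hg' : scal n F a * g.1 ∈ GIs n F := by
    refine ⟨φ, ?_⟩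
    have h1 := (isSemi_scal a).mul hs
    have e : (a : F) * a * (RingEquiv.refl F) l = 1 := ha
    rw [e] at h1
    exact h1
  have hPsi : Psi n F (⟨scal n F a, hsc⟩ * g) = Psi n F g := by
    rw [map_mul, Psi_scal, one_mul]
  have hmem : (⟨scal n F a, hsc⟩ * g : semiSim n F).1 ∈ X := by
    refine ⟨⟨⟨scal n F a, hsc⟩ * g, ?_, rfl⟩, hg'⟩
    show Psi n F _ ∈ A
    rw [hPsi]
    exact hα
  obtain ⟨k, hk, hkg⟩ := hX2 hmem
  obtain ⟨B, rfl⟩ := exists_spL hk
  rw [← rho_eq] at hkg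
  have hfin : (⟨scal n F a, hsc⟩ * g : semiSim n F) = ⟨rho n F B, GIs_le ⟨_, isSemi_rho B⟩⟩ := Subtype.ext hkg.symm
  rw [← hPsi, hfin, Psi_rho]
  exact ⟨_, rfl⟩

end Cfsg.Agent.H375.Out
end

-- part: H375/Out/SpMain
section
/-!
# `AutOk (PSp n F)`, `n ≥ 3`, `|F|` even (helper375)
-/

set_option autoImplicit false
set_option linter.unusedVariables false
set_option linter.unusedSectionVars false

namespace Cfsg.Agent.H375.Out

open Module Finset Cfsg Cfsg.Agent.H375.Odd Cfsg.Agent.ClassicalGeometry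
open Cfsg.Agent.ClassicalGeometry.SympAutSemi Cfsg.Agent.ClassicalGeometry.SympGamma

variable {F : Type*} [Field F] {n : ℕ}

theorem altb [Fintype F] [CharP F 2] : Alt (bet n F) := alt_of LieClassical.OmegaReindex.quadPlus_nondegenerate

theorem finb : finrank F (Fin n ⊕ Fin n → F) = 2 * n := by
  rw [Module.finrank_fintype_fun_eq_card, Fintype.card_sum, Fintype.card_fin]
  ring

/-! ### Field automorphisms -/

/-- `frobPerm` as a homomorphism. -/
def fh (n : ℕ) (F : Type*) [Field F] : RingAut F →* Equiv.Perm (Fin n ⊕ Fin n → F) where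
  toFun := frobPerm n
  map_one' := rfl
  map_mul' _ _ := rfl

theorem fh_injective (hn : 1 ≤ n) : Function.Injective (fh n F) := by
  intro σ τ h
  apply RingEquiv.ext
  intro x
  have := congrFun (Equiv.ext_iff.1 h (fun _ => x)) (.inl ⟨0, hn⟩)
  exact this

open LieClassical.SpFourTwo in
theorem comm_map {σ : F ≃+* F} {K : Subfield F} (hK : ∀ x, x ∈ K ↔ σ x = x) (g : Matrix.symplecticGroup (Fin n) K) :
    Commute (rho n F (symplecticMap K.subtype g)) (frobPerm n σ) := by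
  ext v i
  show Matrix.mulVec (g.1.map K.subtype) (fun j => σ (v j)) i = σ (Matrix.mulVec (g.1.map K.subtype) v i)
  rw [Matrix.mulVec, Matrix.mulVec, dotProduct, dotProduct, map_sum]
  refine Finset.sum_congr rfl fun j _ => ?_
  rw [map_mul]
  congr 1
  exact ((hK _).1 (g.1 i j).2).symm

open LieClassical.SpFourTwo in
theorem map_injective {K : Subfield F} : Function.Injective (symplecticMap (l := Fin n) K.subtype) := by
  intro A B h
  apply Subtype.ext
  ext i j
  exact congrFun (congrFun (congrArg Subtype.val h) i) j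

open LieClassical.SpFourTwo in
theorem order_map {K : Subfield F} (g : Matrix.symplecticGroup (Fin n) K) :
    orderOf (rho n F (symplecticMap K.subtype g)) = orderOf g := by
  rw [orderOf_injective _ (rho_injective (F := F) (m := n)), orderOf_injective _ map_injective]

section

variable [Fintype F] [CharP F 2] {X : Subgroup (Equiv.Perm (Fin n ⊕ Fin n → F))}

theorem HypS.rho_mem (h : HypS X) (A : Matrix.symplecticGroup (Fin n) F) : rho n F A ∈ X := by
  rw [rho_eq]
  exact h.le ⟨_, isom_bet A, rfl⟩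

theorem HypS.frob_mem (h : HypS X) {M : Equiv.Perm (Fin n ⊕ Fin n → F)} (hM : M ∈ X) :
    ∃ σ : RingAut F, fh n F σ ∈ X ∧ ∃ A, rho n F A = M * (fh n F σ)⁻¹ := by
  obtain ⟨σ, hσ⟩ := h.semi hM
  have h1 := hσ.mul ((isSemi_frobPerm (m := n) σ).inv one_ne_zero)
  rw [inv_one, map_one, map_one, mul_one] at h1
  obtain ⟨A, hA⟩ := exists_rho_eq (m := n) (M * (frobPerm n σ)⁻¹) h1.1
    (by
      intro a v
      rw [h1.2.1]
      congr 1
      exact σ.apply_symm_apply a)
    (by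
      intro u v
      rw [h1.2.2, one_mul]
      exact σ.apply_symm_apply _)
  refine ⟨σ, ?_, A, hA⟩
  have h2 := h.rho_mem A
  rw [hA] at h2
  have h3 := X.mul_mem (X.inv_mem h2) hM
  rw [mul_inv_rev, inv_inv, mul_assoc, inv_mul_cancel, mul_one] at h3
  exact h3

/-- The main reduction: a field automorphism of prime order. -/
theorem HypS.main (hn : 3 ≤ n) (h : HypS X)
    (H : ∀ (σ : RingAut F) (s : ℕ), s.Prime → orderOf σ = s → fh n F σ ∈ X → False) :
    X ≤ (Isom (bet n F)).map (lp F (Fin n ⊕ Fin n → F)) := by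
  intro M hM
  obtain ⟨σ, hσ, A, hA⟩ := h.frob_mem hM
  have hfin : Finite (RingAut F) := Finite.of_injective (fun τ : RingAut F => (τ : F → F)) DFunLike.coe_injective
  have h1 : σ = 1 := by
    by_contra hne
    have ho : orderOf σ ≠ 1 := fun h => hne (orderOf_eq_one_iff.1 h)
    obtain ⟨s, hs, k, hk⟩ := Nat.exists_prime_and_dvd ho
    have hpos := orderOf_pos σ
    have hk0 : k ≠ 0 := by rintro rfl; rw [mul_zero] at hk; omega
    refine H (σ ^ k) s hs ?_ ?_
    · rw [orderOf_pow_of_dvd hk0 (by rw [hk]; exact dvd_mul_left _ _), hk, Nat.mul_div_cancel _ (Nat.pos_of_ne_zero hk0)]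
    · rw [map_pow]
      exact X.pow_mem hσ k
  rw [h1, map_one, inv_one, mul_one] at hA
  rw [← hA, rho_eq]
  exact ⟨_, isom_bet A, rfl⟩

/-- Orders of products with elements over the fixed field. -/
theorem HypS.elt (h : HypS X) (hn : 1 ≤ n) {σ : RingAut F} {s N : ℕ} (ho : orderOf σ = s) (hσ : fh n F σ ∈ X)
    {K : Subfield F} (hK : ∀ x, x ∈ K ↔ σ x = x) (hN : Nat.Coprime N s) (g : Matrix.symplecticGroup (Fin n) K)
    (hg : orderOf g = N) : ∃ y ∈ Isom (bet n F), orderOf y = N * s := by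
  have h1 := (comm_map hK g).orderOf_mul_eq_mul_orderOf_of_coprime (by
    rw [order_map, hg]
    show Nat.Coprime N (orderOf (fh n F σ))
    rw [orderOf_injective _ (fh_injective hn), ho]
    exact hN)
  obtain ⟨y, hy, hyo⟩ := h.ord _ (X.mul_mem (h.rho_mem _) hσ)
  refine ⟨y, hy, ?_⟩
  rw [hyo]
  refine h1.trans ?_
  rw [order_map, hg]
  congr 1
  rw [← ho]
  exact orderOf_injective _ (fh_injective hn) σ

theorem fixed_card {σ : RingAut F} {s : ℕ} (ho : orderOf σ = s) {K : Subfield F} [Fintype K]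
    (hc : Nat.card F = Nat.card K ^ orderOf σ) : Fintype.card F = Fintype.card K ^ s := by
  rw [← Nat.card_eq_fintype_card, ← Nat.card_eq_fintype_card, hc, ho]

/-- The general step. -/
theorem HypS.key (h : HypS X) (hn : 1 ≤ n) {σ : RingAut F} {s : ℕ} (hs : s.Prime) (hs2 : s ≠ 2) (ho : orderOf σ = s)
    (hσ : fh n F σ ∈ X) {K : Subfield F} [Fintype K] [CharP K 2] (hK : ∀ x, x ∈ K ↔ σ x = x)
    (hc : Fintype.card F = Fintype.card K ^ s) {η c l a e M : ℕ} (hz : Zs (Fintype.card K) l a e)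
    (hB : (Odd η ∧ e = η ∧ M = Fintype.card F ^ η - 1) ∨ (2 ≤ η ∧ e = 2 * η ∧ M = Fintype.card F ^ η + 1))
    (hηc : η + c = n) (hc2 : c ≤ 2) (hηn : n < 2 * η) (hsη : ¬ s ∣ η) (hsM : ¬ s ∣ M)
    (hx : ∃ x : Matrix.symplecticGroup (Fin η) K, orderOf x = l ^ (a + 1)) : False := by
  have hes : Nat.Coprime e s := by
    rw [Nat.coprime_comm, Nat.Prime.coprime_iff_not_dvd hs]
    rcases hB with ⟨-, h1, -⟩ | ⟨-, h1, -⟩
    · rw [h1]; exact hsη
    · rw [h1, hs.dvd_mul]
      rintro (h2 | h2)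
      · exact hs2 ((Nat.prime_dvd_prime_iff_eq hs Nat.prime_two).1 h2)
      · exact hsη h2
  have B : Blk (Fintype.card F) l a e η M := ⟨by rw [hc]; exact zs_up hz hes, hB⟩
  have hodd : Odd (l ^ (a + 1)) := (hz.hl.odd_of_ne_two hz.hl2).pow
  obtain ⟨g, hg⟩ := exists_sp_elt (K := K) hηc (by omega) hodd hx
  obtain ⟨y, hy, hyo⟩ := h.elt hn ho hσ hK (N := 2 ^ c * l ^ (a + 1)) (by
    apply Nat.Coprime.mul_left
    · exact Nat.Coprime.pow_left c ((Nat.coprime_primes Nat.prime_two hs).2 (Ne.symm hs2))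
    · rw [Nat.coprime_comm, Nat.Prime.coprime_iff_not_dvd hs]
      exact fun h => hsM (h.trans B.dvd)) g hg
  refine nm_gen (altb (F := F) (n := n)) B ?_ ?_ hc2 hs hs2 hsM hy ?_
  · rw [finb, hηc]
  · rw [finb]; omega
  · rw [hyo]; ring

theorem torus_minus {K : Type*} [Field K] [Fintype K] [CharP K 2] {η : ℕ} (hη : 2 ≤ η) :
    ∃ l a : ℕ, Zs (Fintype.card K) l a (2 * η) ∧ ∃ x : Matrix.symplecticGroup (Fin η) K, orderOf x = l ^ (a + 1) := by
  obtain ⟨l, a, h1, h2, h3, -, h5⟩ := CovTwo.exists_torus (F := K) (m := η) (by omega)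
  exact ⟨l, a, ⟨h1, h2, by omega, h3⟩, h5⟩

theorem torus_plus {K : Type*} [Field K] [Fintype K] [CharP K 2] {η : ℕ} (hη : 2 ≤ η) (ho : Odd η) :
    ∃ l a : ℕ, Zs (Fintype.card K) l a η ∧ ∃ x : Matrix.symplecticGroup (Fin η) K, orderOf x = l ^ (a + 1) := by
  obtain ⟨l, h1⟩ := exists_zs (F := K) hη (by
    rintro ⟨-, h⟩
    rw [h] at ho
    exact absurd ho (by decide))
  exact ⟨l, 0, h1, exists_torus_plus (by omega) h1⟩

theorem HypS.step_even (h : HypS X) (hn : 1 ≤ n) {σ : RingAut F} {s : ℕ} (hs : s.Prime) (hs2 : s ≠ 2) (ho : orderOf σ = s)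
    (hσ : fh n F σ ∈ X) {K : Subfield F} [Fintype K] [CharP K 2] (hK : ∀ x, x ∈ K ↔ σ x = x)
    (hc : Fintype.card F = Fintype.card K ^ s) {η c : ℕ} (hη : 2 ≤ η)
    (hηc : η + c = n) (hc2 : c ≤ 2) (hηn : n < 2 * η) (hsη : ¬ s ∣ η) (hsM : ¬ s ∣ Fintype.card F ^ η + 1) : False := by
  obtain ⟨l, a, hz, hx⟩ := torus_minus (K := K) hη
  exact h.key hn hs hs2 ho hσ hK hc hz (Or.inr ⟨hη, rfl, rfl⟩) hηc hc2 hηn hsη hsM hx

theorem HypS.step_odd (h : HypS X) (hn : 1 ≤ n) {σ : RingAut F} {s : ℕ} (hs : s.Prime) (hs2 : s ≠ 2) (ho : orderOf σ = s)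
    (hσ : fh n F σ ∈ X) {K : Subfield F} [Fintype K] [CharP K 2] (hK : ∀ x, x ∈ K ↔ σ x = x)
    (hc : Fintype.card F = Fintype.card K ^ s) {η c : ℕ} (hη : 2 ≤ η) (hodd : Odd η)
    (hηc : η + c = n) (hc2 : c ≤ 2) (hηn : n < 2 * η) (hsη : ¬ s ∣ η) : False := by
  by_cases hd : s ∣ Fintype.card F ^ η - 1
  · refine h.step_even hn hs hs2 ho hσ hK hc hη hηc hc2 hηn hsη fun hd' => ?_
    have h1 := Nat.dvd_sub hd' hd
    have h2 : 0 < Fintype.card F ^ η := pow_pos Fintype.card_pos _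
    have h3 : Fintype.card F ^ η + 1 - (Fintype.card F ^ η - 1) = 2 := by omega
    rw [h3] at h1
    exact hs2 ((Nat.prime_dvd_prime_iff_eq hs Nat.prime_two).1 h1)
  · obtain ⟨l, a, hz, hx⟩ := torus_plus (K := K) hη hodd
    exact h.key hn hs hs2 ho hσ hK hc hz (Or.inl ⟨hodd, rfl, rfl⟩) hηc hc2 hηn hsη hd hx

theorem HypS.no_odd (h : HypS X) (hn : 3 ≤ n) {σ : RingAut F} {s : ℕ} (hs : s.Prime) (hs2 : s ≠ 2) (ho : orderOf σ = s)
    (hσ : fh n F σ ∈ X) : False := by
  classical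
  obtain ⟨K, hK, hc⟩ := exists_fixed σ
  have : Fintype K := Fintype.ofFinite K
  have : CharP K 2 := inferInstance
  have hc' := fixed_card ho hc
  have h2s : ∀ m, s ∣ 2 * m → s ∣ m := by
    intro m hm
    rcases hs.dvd_mul.1 hm with h | h
    · exact absurd ((Nat.prime_dvd_prime_iff_eq hs Nat.prime_two).1 h) hs2
    · exact h
  rcases Nat.lt_or_ge n 4 with h4 | h4
  · obtain rfl : n = 3 := by omega
    obtain ⟨g, hg⟩ := exists_sp_elt (K := K) (m := 0) (c := 3) (n := 3) (T := 1) rfl le_rfl odd_one ⟨1, orderOf_one⟩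
    obtain ⟨y, hy, hyo⟩ := h.elt (by omega) ho hσ hK (N := 2 ^ 3 * 1) (by
      rw [mul_one]
      exact Nat.Coprime.pow_left 3 ((Nat.coprime_primes Nat.prime_two hs).2 (Ne.symm hs2))) g hg
    exact nm_three (altb (F := F) (n := 3)) finb hs hs2 hy (by rw [hyo, mul_one])
  rcases Nat.even_or_odd n with he | hodd
  · by_cases h1 : s ∣ n - 1
    · by_cases h2 : s ∣ Fintype.card F ^ n + 1
      · have hn4 : n ≠ 4 := by
          rintro rfl
          have h3 : s = 3 := (Nat.prime_dvd_prime_iff_eq hs Nat.prime_three).1 h1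
          subst h3
          obtain ⟨f, -, hf⟩ := exists_card (F := F)
          rw [hf, ← pow_mul, mul_comm, pow_mul] at h2
          have h4 : (2 ^ 4) ^ f ≡ 1 [MOD 3] := by
            have : 2 ^ 4 ≡ 1 [MOD 3] := by decide
            simpa using this.pow f
          have h5 : (2 ^ 4) ^ f + 1 ≡ 2 [MOD 3] := h4.add_right 1
          have h6 := (Nat.modEq_zero_iff_dvd.2 h2).symm.trans h5
          exact absurd h6 (by decide)
        obtain ⟨m, rfl⟩ : ∃ m, n = m + 2 := ⟨n - 2, by omega⟩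
        refine h.step_even (by omega) hs hs2 ho hσ hK hc' (η := m) (c := 2) (by omega) rfl le_rfl (by
          obtain ⟨k, hk⟩ := he
          omega) ?_ ?_
        · intro h3
          have h4 : s ∣ 1 := by
            have := Nat.dvd_sub h1 h3
            have e : m + 2 - 1 - m = 1 := by omega
            rwa [e] at this
          exact hs.one_lt.ne' (Nat.dvd_one.1 h4)
        · intro h3
          have hF := Fact.mk hs
          have e1 : ((Fintype.card F : ℕ) : ZMod s) ^ (m + 2) = -1 := by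
            rw [← sub_eq_zero, sub_neg_eq_add]
            exact_mod_cast (ZMod.natCast_eq_zero_iff _ _).2 h2
          have e2 : ((Fintype.card F : ℕ) : ZMod s) ^ m = -1 := by
            rw [← sub_eq_zero, sub_neg_eq_add]
            exact_mod_cast (ZMod.natCast_eq_zero_iff _ _).2 h3
          rw [pow_add, e2] at e1
          have e3 : ((Fintype.card F : ℕ) : ZMod s) ^ 2 = 1 := by linear_combination -e1
          obtain ⟨k, hk⟩ : ∃ k, m = 2 * k := by
            obtain ⟨k, hk⟩ := he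
            exact ⟨k - 1, by omega⟩
          rw [hk, pow_mul, e3, one_pow] at e2
          have e4 : ((2 : ℕ) : ZMod s) = 0 := by push_cast; linear_combination e2
          rw [ZMod.natCast_eq_zero_iff] at e4
          exact hs2 ((Nat.prime_dvd_prime_iff_eq hs Nat.prime_two).1 e4)
      · refine h.step_even (by omega) hs hs2 ho hσ hK hc' (η := n) (c := 0) (by omega) rfl (by norm_num) (by omega) ?_ h2
        intro h3
        have h4 : s ∣ 1 := by
          have := Nat.dvd_sub h3 h1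
          have e : n - (n - 1) = 1 := by omega
          rwa [e] at this
        exact hs.one_lt.ne' (Nat.dvd_one.1 h4)
    · exact h.step_odd (by omega) hs hs2 ho hσ hK hc' (η := n - 1) (c := 1) (by omega) (Nat.Even.sub_odd (by omega) he odd_one)
        (by omega) (by norm_num) (by omega) h1
  · by_cases h1 : s ∣ n
    · obtain ⟨m, rfl⟩ : ∃ m, n = m + 2 := ⟨n - 2, by omega⟩
      have hm : Odd m := by
        obtain ⟨k, hk⟩ := hodd
        exact ⟨k - 1, by omega⟩
      refine h.step_odd (by omega) hs hs2 ho hσ hK hc' (η := m) (c := 2) (by omega) hm rfl le_rfl (by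
        obtain ⟨k, hk⟩ := hm
        omega) ?_
      intro h3
      have h4 : s ∣ 2 := by
        have := Nat.dvd_sub h1 h3
        have e : m + 2 - m = 2 := by omega
        rwa [e] at this
      exact hs2 ((Nat.prime_dvd_prime_iff_eq hs Nat.prime_two).1 h4)
    · exact h.step_odd (by omega) hs hs2 ho hσ hK hc' (η := n) (c := 0) (by omega) hodd rfl (by norm_num) (by omega) h1

end

end Cfsg.Agent.H375.Out
end
end
end
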