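import Cfsg.Agent.H229.Large
import Cfsg.Agent.H227.Weak2
set_option linter.all false

/-!
# Large subgroups: weak closures and centralizers (S2843, S2844, S2845)
-/

set_option autoImplicit false
set_option linter.unusedSectionVars false

namespace Cfsg.Agent.H228

open Subgroup Cfsg Cfsg.Agent.H229
open Cfsg.Agent.H227.Weak (weakClosure_eq)
open scoped commutatorElement

variable {G : Type*} [Group G]

section fin

variable [Finite G] {p : ℕ} [Fact p.Prime] {Q : Subgroup G}

theorem largeP_wc (h : LargeP p Q) : IsWeaklyClosedSubgroup p Q := by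
  obtain ⟨T, hT⟩ := h.pgroup.exists_le_sylow
  exact ⟨T, hT, fun g hg => h.weaklyClosed T.2 hT hg⟩

theorem le_weakClosure {L : Subgroup G} (hQL : Q ≤ L) : Q ≤ weakClosure Q L := by
  have h1 : cj 1 Q ≤ L := by rw [cj_one]; exact hQL
  have := le_iSup (fun g : {g : G // Q.map (MulAut.conj g).toMonoidHom ≤ L} =>
      Q.map (MulAut.conj (g : G)).toMonoidHom) ⟨1, h1⟩
  have h2 : cj 1 Q = Q := cj_one Q
  exact h2.symm.le.trans this

theorem cj_le_weakClosure {L : Subgroup G} {g : G} (hQL : cj g Q ≤ L) : cj g Q ≤ weakClosure Q L :=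
  le_iSup (fun g : {g : G // Q.map (MulAut.conj g).toMonoidHom ≤ L} =>
      Q.map (MulAut.conj (g : G)).toMonoidHom) ⟨g, hQL⟩

theorem weakClosure_le (L : Subgroup G) : weakClosure Q L ≤ L := iSup_le fun g => g.2

theorem weakClosure_mono {L M : Subgroup G} (h : L ≤ M) : weakClosure Q L ≤ weakClosure Q M :=
  iSup_le fun g => cj_le_weakClosure (g.2.trans h)

theorem cj_eq_of_mul_mem {g c : G} (hc : c ∈ normalizer (Q : Set G)) : cj (g * c) Q = cj g Q := by
  rw [cj_mul, mem_norm.1 hc]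

/-- S2843 -/
theorem weak_closure_and_centralizers (h : LargeP p Q) {L Y : Subgroup G} (hQL : Q ≤ L)
    (hYp : IsPGroup p ↥Y) (hY1 : Y ≠ ⊥) (hLY : L ≤ normalizer (Y : Set G)) :
    weakClosure Q L = weakClosure Q (L ⊔ centralizer (Y : Set G)) ∧
      ⁅weakClosure Q L, centralizer (Y : Set G)⁆ ≤ pCoreOf p (weakClosure Q L) ∧
      centralizer (Y : Set G) ≤ normalizer ((weakClosure Q L : Subgroup G) : Set G) := by
  have hwc := largeP_wc h
  set C := centralizer (Y : Set G) with hC
  have hCQ : C ≤ normalizer (Q : Set G) := h.centralizer_le hYp hY1 (hQL.trans hLY)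
  have hLC : L ≤ normalizer (C : Set G) := hLY.trans (norm_le_norm_centralizer Y)
  -- `C` normalizes every `Q^l`
  have hCl : ∀ l ∈ L, C ≤ normalizer ((cj l Q : Subgroup G) : Set G) := by
    intro l hl
    rw [← cj_normalizer, ← mem_norm.1 (hLC hl)]
    exact cj_mono hCQ
  have hCW : C ≤ normalizer ((weakClosure Q L : Subgroup G) : Set G) := by
    intro c hc
    rw [mem_norm, weakClosure_eq h.pgroup hwc hQL]
    have h1 : cj c (⨆ k : L, cj (k : G) Q) = ⨆ k : L, cj c (cj (k : G) Q) := Subgroup.map_iSup _ _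
    have h2 : cj c (⨆ k : L, cj (k : G) Q) = ⨆ k : L, cj (k : G) Q := by
      rw [h1]
      exact iSup_congr fun k => mem_norm.1 (hCl k k.2 hc)
    exact h2
  refine ⟨?_, ?_, hCW⟩
  · refine le_antisymm (weakClosure_mono le_sup_left) ?_
    rw [weakClosure_eq h.pgroup hwc (hQL.trans le_sup_left)]
    refine iSup_le fun k => ?_
    obtain ⟨a, ha, b, hb, hab⟩ := (mem_sup_of_norm hLC).1 (by rw [sup_comm]; exact k.2)
    have h1 : cj (k : G) Q = cj b Q := by
      rw [← hab, cj_mul]
      exact mem_norm.1 (hCl b hb ha)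
    change cj (k : G) Q ≤ _
    rw [h1]
    refine cj_le_weakClosure ?_
    rw [← cj_mem_self hb]
    exact cj_mono hQL
  · set P := pCoreOf p (weakClosure Q L) with hP
    set W := weakClosure Q L with hW
    have hWL : W ≤ L := weakClosure_le L
    have hWC : W ≤ normalizer ((W ⊓ C : Subgroup G) : Set G) :=
      le_trans (le_inf le_normalizer (hWL.trans hLC)) (norm_inf_le _ _)
    have hWP : W ≤ normalizer (P : Set G) := le_norm_pCoreOf p W
    -- `[Q^l, C] ≤ P`
    have key : ∀ l ∈ L, ⁅cj l Q, C⁆ ≤ P := by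
      intro l hl
      have hlW : cj l Q ≤ W := by
        refine cj_le_weakClosure ?_
        rw [← cj_mem_self hl]
        exact cj_mono hQL
      have h1 : ⁅cj l Q, C⁆ ≤ cj l Q := by
        rw [commutator_comm]
        exact le_norm_iff_comm_le.1 (hCl l hl)
      have h2 : ⁅cj l Q, C⁆ ≤ C := le_norm_iff_comm_le.1 ((hlW.trans hWL).trans hLC)
      have h3 : cj l Q ⊓ C ≤ pCoreOf p (W ⊓ C) := by
        refine le_pCoreOf (inf_le_inf_right _ hlW) ?_ ((h.cj l).pgroup.to_le inf_le_left)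
        refine le_trans (le_inf ?_ ?_) (norm_inf_le _ _)
        · exact inf_le_right.trans (hCl l hl)
        · exact inf_le_right.trans le_normalizer
      exact (le_inf h1 h2).trans (h3.trans (pCoreOf_le_pCoreOf inf_le_left hWC))
    let A : Subgroup G :=
      { carrier := {x | x ∈ W ∧ ∀ c ∈ C, ⁅x, c⁆ ∈ P}
        one_mem' := ⟨one_mem _, fun c _ => by simp [one_mem]⟩
        mul_mem' := by
          rintro x y ⟨hx, hx'⟩ ⟨hy, hy'⟩
          refine ⟨mul_mem hx hy, fun c hc => ?_⟩
          have h3 : ⁅x * y, c⁆ = x * ⁅y, c⁆ * x⁻¹ * ⁅x, c⁆ := by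
            simp only [commutatorElement_def]; group
          rw [h3]
          exact mul_mem ((le_norm_iff.1 hWP) x hx _ (hy' c hc)) (hx' c hc)
        inv_mem' := by
          rintro x ⟨hx, hx'⟩
          refine ⟨inv_mem hx, fun c hc => ?_⟩
          have h3 : ⁅x⁻¹, c⁆ = x⁻¹ * ⁅x, c⁆⁻¹ * x⁻¹⁻¹ := by
            simp only [commutatorElement_def]; group
          rw [h3]
          exact (le_norm_iff.1 hWP) _ (inv_mem hx) _ (inv_mem (hx' c hc)) }
    have hA : W ≤ A := by
      have h1 : W = ⨆ k : L, cj (k : G) Q := weakClosure_eq h.pgroup hwc hQL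
      rw [h1]
      refine iSup_le fun l => ?_
      intro x hx
      refine ⟨?_, fun c hc => key l l.2 (commutator_mem_commutator hx hc)⟩
      rw [h1]
      exact (le_iSup (fun k : L => cj (k : G) Q) l) hx
    rw [commutator_le]
    exact fun x hx c hc => (hA hx).2 c hc

theorem le_largeBullet (h : LargeP p Q) : Q ≤ largeBullet p Q :=
  le_pCoreOf le_normalizer le_rfl h.pgroup

theorem normalizer_largeBullet (h : LargeP p Q) :
    normalizer (Q : Set G) = normalizer ((largeBullet p Q : Subgroup G) : Set G) :=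
  le_antisymm (le_norm_pCoreOf p _) (h.norm_le (isPGroup_pCoreOf p _) (le_largeBullet h))

theorem largeP_largeBullet (h : LargeP p Q) : LargeP p (largeBullet p Q) := by
  have h1 := le_largeBullet h
  refine ⟨isPGroup_pCoreOf p _, fun h2 => h.ne_bot (le_bot_iff.1 (h2 ▸ h1)), ?_, ?_⟩
  · exact (cent_mono h1).trans (h.cent.trans h1)
  · intro U hU hU1
    rw [← normalizer_largeBullet h]
    exact h.norm (hU.trans (cent_mono h1)) hU1

/-- S2844 -/
theorem disjoint_conjugate_centralizers (h : LargeP p Q) {Qb : Subgroup G}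
    (hQb : Qb = largeBullet p Q) {g : G} (hg : g ∉ normalizer (Q : Set G)) :
    centralizer (Q : Set G) ⊓ centralizer (cj g Q : Set G) = ⊥ ∧
    centralizer (Qb : Set G) ⊓ centralizer (cj g Qb : Set G) = ⊥ ∧
    (Q ⊓ centralizer (Q : Set G)) ⊓ (cj g Q ⊓ centralizer (cj g Q : Set G)) = ⊥ ∧
    (Qb ⊓ centralizer (Qb : Set G)) ⊓ (cj g Qb ⊓ centralizer (cj g Qb : Set G)) = ⊥ := by
  have h1 := h.inf_centralizer_eq_bot hg
  have h2 : centralizer (Qb : Set G) ⊓ centralizer (cj g Qb : Set G) = ⊥ := by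
    rw [eq_bot_iff, ← h1, hQb]
    exact inf_le_inf (cent_mono (le_largeBullet h)) (cent_mono (cj_mono (le_largeBullet h)))
  refine ⟨h1, h2, ?_, ?_⟩
  · rw [eq_bot_iff, ← h1]; exact inf_le_inf inf_le_right inf_le_right
  · rw [eq_bot_iff, ← h2]; exact inf_le_inf inf_le_right inf_le_right

theorem weakClosure_eq_self (h : LargeP p Q) {L : Subgroup G} (hQL : Q ≤ L)
    (hL : L ≤ normalizer (Q : Set G)) : weakClosure Q L = Q := by
  refine le_antisymm ?_ (le_weakClosure hQL)
  rw [weakClosure_eq h.pgroup (largeP_wc h) hQL]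
  exact iSup_le fun k => (mem_norm.1 (hL k.2)).le

/-- S2845 -/
theorem parabolic_characteristic (h : LargeP p Q) :
    (∀ L : Subgroup G, Q ≤ L → pCoreOf p L ≠ ⊥ → IsPGroup p ↥(centralizer (pCoreOf p L : Set G)) ∧
      ChP p L ∧ (weakClosure Q L = Q ∨ centralizer (weakClosure Q L : Set G) = ⊥)) ∧
    (∀ R : Subgroup G, IsParabolic p R → pCoreOf p R ≠ ⊥ →
      centralizer (pCoreOf p R : Set G) ≤ pCoreOf p R) ∧
    IsOfParabolicCharacteristic p G := by
  have h2 : ∀ R : Subgroup G, IsParabolic p R → pCoreOf p R ≠ ⊥ →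
      centralizer (pCoreOf p R : Set G) ≤ pCoreOf p R := by
    rintro R ⟨T, hT⟩ hR
    obtain ⟨x, hx⟩ := Cfsg.Agent.H227.Weak.exists_cj_le_sylow T h.pgroup
    exact (H229.mem_charPSubgroups.1 ((h.cj x).mem_charPSubgroups T hx hT hR)).2
  refine ⟨?_, h2, ?_⟩
  · intro L hQL hL
    refine ⟨h.isPGroup_centralizer hQL hL, h.chP hQL hL, ?_⟩
    by_cases hn : L ≤ normalizer (Q : Set G)
    · exact Or.inl (weakClosure_eq_self h hQL hn)
    · right
      obtain ⟨g, hg, hgQ⟩ := SetLike.not_le_iff_exists.1 hn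
      rw [eq_bot_iff, ← h.inf_centralizer_eq_bot hgQ]
      refine le_inf (cent_mono (le_weakClosure hQL)) (cent_mono (cj_le_weakClosure ?_))
      rw [← cj_mem_self hg]
      exact cj_mono hQL
  · intro R hR hR1 hpar
    rw [← chP_iff]
    have h3 : R ≤ pCoreOf p (normalizer (R : Set G)) := le_pCoreOf le_normalizer le_rfl hR
    exact inf_le_right.trans (h2 _ hpar fun h4 => hR1 (le_bot_iff.1 (h4 ▸ h3)))

end fin

end Cfsg.Agent.H228
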