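import Cfsg.Agent.H227.WeakChar
set_option linter.all false

-- part: H228/Red
section
/-!
# `p`-reduced normal subgroups in an ambient group

`Red p L V`: `V` is a `p`-reduced normal subgroup of the subgroup `L` of `H`, stated in the ambient group.
`Y_L = largestPReducedOf p L` is the largest one.  The basic criterion `red_of_sylow` gives new ones.
-/

set_option autoImplicit false
set_option linter.unusedSectionVars false

namespace Cfsg.Agent.H228

open Subgroup Cfsg Cfsg.Agent.H227.Weak

variable {H : Type*} [Group H]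

/-- `V` is a `p`-reduced normal subgroup of `L` (ambient form) -/
structure Red (p : ℕ) (L V : Subgroup H) : Prop where
  le : V ≤ L
  normal : L ≤ normalizer (V : Set H)
  comm : V ≤ centralizer (V : Set H)
  pow : ∀ v ∈ V, v ^ p = 1
  red : ∀ D : Subgroup H, D ≤ L → L ≤ normalizer (D : Set H) →
    (∀ d ∈ D, ∃ k : ℕ, d ^ p ^ k ∈ centralizer (V : Set H)) → D ≤ centralizer (V : Set H)

theorem Red.isPGroup {p : ℕ} {L V : Subgroup H} (h : Red p L V) : IsPGroup p V := fun v =>
  ⟨1, Subtype.ext (by simpa using h.pow v v.2)⟩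

theorem mem_centralizer_map {L : Subgroup H} {V : Subgroup L} {x : L} :
    (x : H) ∈ centralizer ((V.map L.subtype : Subgroup H) : Set H) ↔ x ∈ centralizer (V : Set L) := by
  rw [mem_centralizer_iff, mem_centralizer_iff]
  constructor
  · intro h y hy
    exact Subtype.ext (h y ⟨y, hy, rfl⟩)
  · rintro h _ ⟨y, hy, rfl⟩
    exact congrArg Subtype.val (h y hy)

theorem red_of_isPReducedNormal {p : ℕ} {L : Subgroup H} {V : Subgroup L}
    (h : IsPReducedNormal p V) : Red p L (V.map L.subtype) := by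
  obtain ⟨hn, ⟨hc, hp⟩, hcn, hcore⟩ := h
  refine ⟨map_subtype_le V, ?_, ?_, ?_, ?_⟩
  · rw [← normal_subgroupOf_iff_le_normalizer (map_subtype_le V)]
    rwa [subgroupOf, comap_map_eq_self_of_injective L.subtype_injective V]
  · rintro _ ⟨x, hx, rfl⟩
    refine mem_centralizer_map.2 ?_
    intro y hy
    have h2 := hc.is_comm.comm (⟨y, hy⟩ : V) ⟨x, hx⟩
    exact congrArg Subtype.val h2
  · rintro _ ⟨x, hx, rfl⟩
    have := hp x hx
    simpa using congrArg Subtype.val this
  · intro D hDL hLD hD x hx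
    have hDn : (D.subgroupOf L).Normal := (normal_subgroupOf_iff_le_normalizer hDL).2 hLD
    have h1 : ((D.subgroupOf L).map (QuotientGroup.mk' (centralizer (V : Set L)))).Normal :=
      hDn.map _ (QuotientGroup.mk'_surjective _)
    have h2 : IsPGroup p ((D.subgroupOf L).map (QuotientGroup.mk' (centralizer (V : Set L)))) := by
      rintro ⟨_, ⟨d, hd, rfl⟩⟩
      obtain ⟨k, hk⟩ := hD d (mem_subgroupOf.1 hd)
      refine ⟨k, Subtype.ext ?_⟩
      have h3 : d ^ p ^ k ∈ centralizer (V : Set L) := by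
        rw [← mem_centralizer_map]
        simpa using hk
      have h4 : (QuotientGroup.mk' (centralizer (V : Set L))) (d ^ p ^ k) = 1 := by
        rw [QuotientGroup.mk'_apply, QuotientGroup.eq_one_iff]
        exact h3
      rw [map_pow] at h4
      exact h4
    have h3 := Lib.Cores.le_pCore h1 h2
    rw [hcore] at h3
    have h4 : (QuotientGroup.mk' (centralizer (V : Set L))) ⟨x, hDL hx⟩ = 1 :=
      (mem_bot).1 (h3 ⟨⟨x, hDL hx⟩, hx, rfl⟩)
    rw [QuotientGroup.mk'_apply, QuotientGroup.eq_one_iff] at h4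
    exact mem_centralizer_map.2 h4

theorem isPReducedNormal_of_red {p : ℕ} {L V : Subgroup H} (h : Red p L V) :
    IsPReducedNormal p (V.subgroupOf L) := by
  have hmap : (V.subgroupOf L).map L.subtype = V := Subgroup.map_subgroupOf_eq_of_le h.le
  have hVn : (V.subgroupOf L).Normal := (normal_subgroupOf_iff_le_normalizer h.le).2 h.normal
  have hmem : ∀ x : L, x ∈ centralizer ((V.subgroupOf L : Subgroup L) : Set L) ↔
      (x : H) ∈ centralizer (V : Set H) := by
    intro x
    rw [← mem_centralizer_map, hmap]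
  refine ⟨hVn, ⟨⟨⟨fun x y => ?_⟩⟩, fun a ha => ?_⟩, inferInstance, ?_⟩
  · apply Subtype.ext
    apply Subtype.ext
    exact (h.comm (mem_subgroupOf.1 y.2) _ (mem_subgroupOf.1 x.2))
  · exact Subtype.ext (by simpa using h.pow _ (mem_subgroupOf.1 ha))
  · set C := centralizer ((V.subgroupOf L : Subgroup L) : Set L) with hC
    rw [eq_bot_iff]
    intro z hz
    obtain ⟨x, rfl⟩ := QuotientGroup.mk'_surjective C z
    set K : Subgroup L := (pCore p (L ⧸ C)).comap (QuotientGroup.mk' C) with hK
    have hcn : (pCore p (L ⧸ C)).Normal := Lib.Cores.pCore_normal p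
    have hKn : K.Normal := hcn.comap _
    have hKs : (K.map L.subtype).subgroupOf L = K := comap_map_eq_self_of_injective L.subtype_injective K
    have h1 : K.map L.subtype ≤ centralizer (V : Set H) := by
      refine h.red _ (map_subtype_le K) ?_ ?_
      · rw [← normal_subgroupOf_iff_le_normalizer (map_subtype_le K), hKs]
        exact hKn
      · rintro _ ⟨d, hd, rfl⟩
        obtain ⟨k, hk⟩ := Lib.Cores.pCore_isPGroup p ⟨_, hd⟩
        refine ⟨k, ?_⟩
        have h2 : (QuotientGroup.mk' C) (d ^ p ^ k) = 1 := by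
          rw [map_pow]
          simpa using congrArg Subtype.val hk
        rw [QuotientGroup.mk'_apply, QuotientGroup.eq_one_iff, hmem] at h2
        simpa using h2
    have h2 : x ∈ C := by
      rw [hmem]
      exact h1 ⟨x, hz, rfl⟩
    rw [mem_bot, QuotientGroup.mk'_apply, QuotientGroup.eq_one_iff]
    exact h2

/-- the join of `p`-reduced normal subgroups is one -/
theorem red_iSup {p : ℕ} {L : Subgroup H} {ι : Type*} (V : ι → Subgroup H)
    (hV : ∀ i, Red p L (V i)) : Red p L (⨆ i, V i) := by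
  have hc : (⨆ i, V i) ≤ centralizer ((⨆ i, V i : Subgroup H) : Set H) := by
    have h1 : ∀ i j, V i ≤ centralizer (V j : Set H) := fun i j =>
      (hV j).red _ (hV i).le (hV i).normal fun d hd => ⟨1, by
        rw [pow_one, (hV i).pow d hd]; exact one_mem _⟩
    refine iSup_le fun i => ?_
    rw [le_centralizer_iff]
    exact iSup_le fun j => h1 j i
  refine ⟨iSup_le fun i => (hV i).le, ?_, hc, ?_, ?_⟩
  · intro g hg
    rw [← cj_eq_self_iff]
    have : cj g (⨆ i, V i) = ⨆ i, cj g (V i) := Subgroup.map_iSup _ _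
    rw [this]
    exact iSup_congr fun i => cj_eq_self_iff.2 ((hV i).normal hg)
  · let A : Subgroup H :=
      { carrier := {v | v ∈ (⨆ i, V i) ∧ v ^ p = 1}
        one_mem' := ⟨one_mem _, one_pow _⟩
        mul_mem' := by
          rintro x y ⟨hx, hx'⟩ ⟨hy, hy'⟩
          refine ⟨mul_mem hx hy, ?_⟩
          have h1 : Commute x y := (hc hy) x hx
          rw [h1.mul_pow, hx', hy', one_mul]
        inv_mem' := by
          rintro x ⟨hx, hx'⟩
          exact ⟨inv_mem hx, by rw [inv_pow, hx', inv_one]⟩ }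
    have hA : (⨆ i, V i) ≤ A := iSup_le fun i v hv => ⟨mem_iSup_of_mem i hv, (hV i).pow v hv⟩
    exact fun v hv => (hA hv).2
  · intro D hDL hLD hD
    rw [le_centralizer_iff]
    refine iSup_le fun i => ?_
    rw [le_centralizer_iff]
    refine (hV i).red D hDL hLD fun d hd => ?_
    obtain ⟨k, hk⟩ := hD d hd
    exact ⟨k, centralizer_le (le_iSup V i) hk⟩

theorem largestPReducedOf_eq (p : ℕ) (L : Subgroup H) :
    largestPReducedOf p L = ⨆ V : {V : Subgroup H // Red p L V}, (V : Subgroup H) := by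
  apply le_antisymm
  · rw [largestPReducedOf, largestPReduced, sSup_eq_iSup', Subgroup.map_iSup]
    refine iSup_le fun V => ?_
    exact le_iSup (fun V : {V : Subgroup H // Red p L V} => (V : Subgroup H))
      ⟨_, red_of_isPReducedNormal V.2⟩
  · refine iSup_le fun V => ?_
    have h1 := isPReducedNormal_of_red V.2
    have h2 : (V : Subgroup H).subgroupOf L ≤ largestPReduced p L := le_sSup h1
    rw [← Subgroup.map_subgroupOf_eq_of_le V.2.le]
    exact Subgroup.map_mono h2

/-- `Y_L` is `p`-reduced -/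
theorem red_largest (p : ℕ) (L : Subgroup H) : Red p L (largestPReducedOf p L) := by
  rw [largestPReducedOf_eq]
  exact red_iSup _ fun V => V.2

theorem le_largest {p : ℕ} {L V : Subgroup H} (h : Red p L V) : V ≤ largestPReducedOf p L := by
  rw [largestPReducedOf_eq]
  exact le_iSup (fun V : {V : Subgroup H // Red p L V} => (V : Subgroup H)) ⟨V, h⟩

end Cfsg.Agent.H228
end

-- part: H228/RedSylow
section
/-!
# `p`-reduced normal subgroups of overgroups of a Sylow subgroup

`T` is a Sylow `p`-subgroup of `H`.  Main results (`L, M ≥ T`, `O_p ≠ 1`, `C_H(O_p(L)) ≤ O_p(L)`):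
* `le_largest_of` : the criterion for `W ≤ Y_M`;
* `largest_mono` : `Y_L ≤ Y_M` if `L ≤ M`;
* `largest_ne_bot` : `Y_L ≠ 1`.
-/

set_option autoImplicit false
set_option linter.unusedSectionVars false

namespace Cfsg.Agent.H228

open Subgroup Cfsg Cfsg.Agent.H227.Weak

variable {H : Type*} [Group H]

section fin

variable [Finite H] {p : ℕ} [Fact p.Prime]

theorem card_mul_relIndex {A B : Subgroup H} (h : A ≤ B) : Nat.card A * A.relIndex B = Nat.card B := by
  have := relIndex_mul_relIndex ⊥ A B bot_le h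
  rwa [relIndex_bot_left, relIndex_bot_left] at this

theorem relIndex_sup_of_normal (P N : Subgroup H) [N.Normal] :
    P.relIndex (P ⊔ N) = P.relIndex N := by
  have h1 : Nat.card (P ⊔ N : Subgroup H) = Nat.card N * N.relIndex P := by
    rw [← relIndex_sup_right]
    exact (card_mul_relIndex le_sup_right).symm
  have h2 : Nat.card P = Nat.card (N ⊓ P : Subgroup H) * N.relIndex P := by
    rw [← inf_relIndex_right]
    exact (card_mul_relIndex inf_le_right).symm
  have h3 : Nat.card N = Nat.card (N ⊓ P : Subgroup H) * P.relIndex N := by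
    rw [← inf_relIndex_right, inf_comm P N]
    exact (card_mul_relIndex inf_le_left).symm
  have h4 : Nat.card (P ⊔ N : Subgroup H) = Nat.card P * P.relIndex (P ⊔ N) := by
    exact (card_mul_relIndex le_sup_left).symm
  have hP : 0 < Nat.card P := Nat.card_pos
  have : Nat.card P * P.relIndex (P ⊔ N) = Nat.card P * P.relIndex N := by
    rw [← h4, h1, h3, h2]; ring
  exact Nat.eq_of_mul_eq_mul_left hP this

/-- the index of `T ∩ D` in a normal subgroup `D` of an overgroup of the Sylow subgroup `T` -/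
theorem not_dvd_relIndex (T : Sylow p H) {L D : Subgroup H} (hTL : (T : Subgroup H) ≤ L)
    (hDL : D ≤ L) (hLD : L ≤ normalizer (D : Set H)) : ¬ p ∣ (T : Subgroup H).relIndex D := by
  have hn : (D.subgroupOf L).Normal := (normal_subgroupOf_iff_le_normalizer hDL).2 hLD
  intro hp
  refine T.not_dvd_index ?_
  refine hp.trans ?_
  rw [← relIndex_subgroupOf (H := (T : Subgroup H)) hDL, ← relIndex_sup_of_normal]
  refine (relIndex_dvd_index_of_le le_sup_left).trans ?_
  exact relIndex_dvd_index_of_le hTL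

/-- `D = C (T ∩ D)` if `D / C` is a `p`-group -/
theorem le_of_pow_mem (T : Sylow p H) {L D C E : Subgroup H} (hTL : (T : Subgroup H) ≤ L)
    (hDL : D ≤ L) (hLD : L ≤ normalizer (D : Set H)) (hCD : D ≤ normalizer (C : Set H))
    (hpow : ∀ d ∈ D, ∃ k : ℕ, d ^ p ^ k ∈ C) (hCE : C ⊓ D ≤ E) (hTE : (T : Subgroup H) ⊓ D ≤ E) :
    D ≤ E := by
  have h1 : ¬ p ∣ E.relIndex D := by
    intro h
    refine not_dvd_relIndex T hTL hDL hLD (h.trans ?_)
    rw [← inf_relIndex_right (T : Subgroup H)]
    exact relIndex_dvd_of_le_left _ hTE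
  have h2 : E.relIndex D ∣ C.relIndex D := by
    rw [← inf_relIndex_right C]
    exact relIndex_dvd_of_le_left _ hCE
  have hn : (C.subgroupOf D).Normal := by
    refine ⟨fun x hx g => ?_⟩
    rw [mem_subgroupOf] at hx ⊢
    exact (mem_normalizer_iff.1 (hCD g.2) _).1 hx
  have h3 : IsPGroup p (D ⧸ C.subgroupOf D) := by
    intro z
    obtain ⟨x, rfl⟩ := QuotientGroup.mk'_surjective _ z
    obtain ⟨k, hk⟩ := hpow x x.2
    refine ⟨k, ?_⟩
    rw [← map_pow, QuotientGroup.mk'_apply, QuotientGroup.eq_one_iff, mem_subgroupOf]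
    simpa using hk
  obtain ⟨n, hn'⟩ := IsPGroup.iff_card.1 h3
  have h4 : C.relIndex D = p ^ n := hn'
  rw [h4] at h2
  obtain ⟨m, -, hm⟩ := (Nat.dvd_prime_pow Fact.out).1 h2
  rcases Nat.eq_zero_or_pos m with rfl | hpos
  · rw [pow_zero] at hm
    exact relIndex_eq_one.1 hm
  · exact absurd (by rw [hm]; exact dvd_pow_self p hpos.ne') h1

/-- the normal closure of `W` under `M` -/
def nc (M W : Subgroup H) : Subgroup H := ⨆ g : M, cj (g : H) W

theorem le_nc (M W : Subgroup H) : W ≤ nc M W := by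
  have := le_iSup (fun g : M => cj (g : H) W) 1
  simpa [nc, cj_one] using this

theorem nc_le {M W V : Subgroup H} (h : W ≤ V) (hMV : M ≤ normalizer (V : Set H)) : nc M W ≤ V := by
  refine iSup_le fun g => ?_
  rw [← cj_eq_self_iff.2 (hMV g.2)]
  exact cj_mono _ h

theorem le_normalizer_nc (M W : Subgroup H) : M ≤ normalizer ((nc M W : Subgroup H) : Set H) := by
  intro g hg
  rw [← cj_eq_self_iff]
  have key : ∀ g ∈ M, cj g (nc M W) ≤ nc M W := by
    intro g hg
    have : cj g (nc M W) = ⨆ x : M, cj g (cj (x : H) W) := Subgroup.map_iSup _ _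
    rw [this]
    refine iSup_le fun x => ?_
    rw [cj_cj]
    exact le_iSup (fun g : M => cj (g : H) W) ⟨g * x, M.mul_mem hg x.2⟩
  refine le_antisymm (key g hg) ?_
  have := cj_mono g (key g⁻¹ (M.inv_mem hg))
  rwa [cj_cj_inv] at this

/-- `Ω₁(Z(O_p(M)))` -/
def oz (p : ℕ) (M : Subgroup H) : Subgroup H where
  carrier := {z | z ∈ pCoreOf p M ∧ z ∈ centralizer ((pCoreOf p M : Subgroup H) : Set H) ∧ z ^ p = 1}
  one_mem' := ⟨one_mem _, one_mem _, one_pow _⟩
  mul_mem' := by
    rintro x y ⟨hx, hxc, hx'⟩ ⟨hy, hyc, hy'⟩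
    refine ⟨mul_mem hx hy, mul_mem hxc hyc, ?_⟩
    have h1 : Commute x y := hyc x hx
    rw [h1.mul_pow, hx', hy', one_mul]
  inv_mem' := by
    rintro x ⟨hx, hxc, hx'⟩
    exact ⟨inv_mem hx, inv_mem hxc, by rw [inv_pow, hx', inv_one]⟩

theorem mem_oz {M : Subgroup H} {z : H} : z ∈ oz p M ↔
    z ∈ pCoreOf p M ∧ z ∈ centralizer ((pCoreOf p M : Subgroup H) : Set H) ∧ z ^ p = 1 := Iff.rfl

theorem oz_le (M : Subgroup H) : oz p M ≤ pCoreOf p M := fun _ h => h.1

theorem normalizer_le_normalizer_oz (M : Subgroup H) :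
    normalizer (M : Set H) ≤ normalizer ((oz p M : Subgroup H) : Set H) := by
  have key : ∀ g ∈ normalizer (M : Set H), ∀ z ∈ oz p M, g * z * g⁻¹ ∈ oz p M := by
    intro g hg z hz
    have h1 := normalizer_le_normalizer_pCoreOf p M hg
    have h2 := normalizer_le_normalizer_centralizer _ h1
    refine ⟨(mem_normalizer_iff.1 h1 _).1 hz.1, (mem_normalizer_iff.1 h2 _).1 hz.2.1, ?_⟩
    rw [conj_pow, hz.2.2]; group
  intro g hg
  rw [mem_normalizer_iff]
  intro z
  refine ⟨key g hg z, fun h => ?_⟩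
  have := key g⁻¹ (inv_mem hg) _ h
  simpa [mul_assoc] using this

theorem le_normalizer_oz (M : Subgroup H) : M ≤ normalizer ((oz p M : Subgroup H) : Set H) :=
  le_normalizer.trans (normalizer_le_normalizer_oz M)

/-- `p`-reduced normal subgroups of `M` lie in `Ω₁(Z(O_p(M)))` -/
theorem Red.le_oz {M V : Subgroup H} (h : Red p M V) : V ≤ oz p M := by
  have h1 : V ≤ pCoreOf p M := le_pCoreOf h.isPGroup h.le h.normal
  have h2 : pCoreOf p M ≤ centralizer (V : Set H) := by
    refine h.red _ (pCoreOf_le p M)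
      (le_normalizer.trans (normalizer_le_normalizer_pCoreOf p M)) fun d hd => ?_
    obtain ⟨k, hk⟩ := isPGroup_pCoreOf (p := p) M ⟨d, hd⟩
    refine ⟨k, ?_⟩
    have : d ^ p ^ k = 1 := by simpa using congrArg Subtype.val hk
    rw [this]
    exact one_mem _
  rw [le_centralizer_iff] at h2
  exact fun v hv => ⟨h1 hv, h2 hv, h.pow v hv⟩

/-- **The criterion**: `W ≤ Ω₁(Z(O_p(M)))` lies in `Y_M` if `T ∩ D` centralizes `W` whenever `D` is
normal in `M` and a `p`-group modulo the centralizer of `⟨W^M⟩`. -/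
theorem red_nc (T : Sylow p H) {M W : Subgroup H} (hTM : (T : Subgroup H) ≤ M) (hW : W ≤ oz p M)
    (h : ∀ D : Subgroup H, D ≤ M → M ≤ normalizer (D : Set H) →
      (∀ d ∈ D, ∃ k : ℕ, d ^ p ^ k ∈ centralizer ((nc M W : Subgroup H) : Set H)) →
      (T : Subgroup H) ⊓ D ≤ centralizer (W : Set H)) : Red p M (nc M W) := by
  have hV : nc M W ≤ oz p M := nc_le hW (le_normalizer_oz M)
  refine ⟨hV.trans ((oz_le M).trans (pCoreOf_le p M)), le_normalizer_nc M W, ?_, ?_, ?_⟩
  · intro v hv
    exact centralizer_le (hV.trans (oz_le M)) (hV hv).2.1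
  · exact fun v hv => (hV hv).2.2
  · intro D hDM hMD hD
    have hT := h D hDM hMD hD
    have hVn := le_normalizer_nc M W
    have hCn := hVn.trans (normalizer_le_normalizer_centralizer (nc M W))
    have h1 : D ≤ centralizer (W : Set H) :=
      le_of_pow_mem T hTM hDM hMD (hDM.trans hCn) hD
        (inf_le_left.trans (centralizer_le (le_nc M W))) hT
    rw [le_centralizer_iff]
    refine nc_le ?_ ?_
    · rwa [le_centralizer_iff]
    · exact hMD.trans (normalizer_le_normalizer_centralizer D)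

theorem le_largest_of (T : Sylow p H) {M W : Subgroup H} (hTM : (T : Subgroup H) ≤ M)
    (hW : W ≤ oz p M)
    (h : ∀ D : Subgroup H, D ≤ M → M ≤ normalizer (D : Set H) →
      (∀ d ∈ D, ∃ k : ℕ, d ^ p ^ k ∈ centralizer ((nc M W : Subgroup H) : Set H)) →
      (T : Subgroup H) ⊓ D ≤ centralizer (W : Set H)) : W ≤ largestPReducedOf p M :=
  (le_nc M W).trans (le_largest (red_nc T hTM hW h))

theorem pCoreOf_le_sylow (T : Sylow p H) {M : Subgroup H} (hTM : (T : Subgroup H) ≤ M) :
    pCoreOf p M ≤ (T : Subgroup H) := by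
  have h1 := Lib.Cores.pCore_le_sylow (T.subtype hTM)
  have h2 := Subgroup.map_mono (f := M.subtype) h1
  refine h2.trans ?_
  rw [Sylow.coe_subtype, Subgroup.map_subgroupOf_eq_of_le hTM]

/-- `O_p(M) ≤ O_p(L)` for `T ≤ L ≤ M` -/
theorem pCoreOf_anti (T : Sylow p H) {L M : Subgroup H} (hTL : (T : Subgroup H) ≤ L)
    (hLM : L ≤ M) : pCoreOf p M ≤ pCoreOf p L :=
  le_pCoreOf (isPGroup_pCoreOf M) ((pCoreOf_le_sylow T (hTL.trans hLM)).trans hTL)
    (hLM.trans (le_normalizer.trans (normalizer_le_normalizer_pCoreOf p M)))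

theorem mem_charP {L : Subgroup H} : L ∈ charPSubgroups p H ↔ pCoreOf p L ≠ ⊥ ∧
    centralizer ((pCoreOf p L : Subgroup H) : Set H) ≤ pCoreOf p L := by
  unfold charPSubgroups pCoreOf
  rw [Set.mem_ofPred_eq, Ne, Ne, Subgroup.map_eq_bot_iff_of_injective _ L.subtype_injective]

/-- **Monotonicity** of `Y_L` -/
theorem largest_mono (T : Sylow p H) {L M : Subgroup H} (hTL : (T : Subgroup H) ≤ L)
    (hLM : L ≤ M) (hM : centralizer ((pCoreOf p M : Subgroup H) : Set H) ≤ pCoreOf p M) :
    largestPReducedOf p L ≤ largestPReducedOf p M := by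
  have hR := red_largest p L
  set W := largestPReducedOf p L with hWdef
  refine le_largest_of T (hTL.trans hLM) ?_ ?_
  · intro w hw
    have h1 := hR.le_oz hw
    have h2 : w ∈ centralizer ((pCoreOf p M : Subgroup H) : Set H) :=
      centralizer_le (pCoreOf_anti T hTL hLM) h1.2.1
    exact ⟨hM h2, h2, h1.2.2⟩
  · intro D hDM hMD hD
    have h1 : D ⊓ L ≤ centralizer (W : Set H) := by
      refine hR.red _ inf_le_right ?_ ?_
      · intro g hg
        rw [← cj_eq_self_iff, cj_inf, cj_eq_self_of_mem hg, cj_eq_self_iff.2 (hMD (hLM hg))]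
      · rintro d ⟨hd, -⟩
        obtain ⟨k, hk⟩ := hD d hd
        exact ⟨k, centralizer_le (le_nc M W) hk⟩
    rintro x ⟨hxT, hxD⟩
    exact h1 ⟨hxD, hTL hxT⟩

/-- `Ω₁(Z(T)) ≤ Y_L` -/
theorem center_le_largest (T : Sylow p H) {L : Subgroup H} (hTL : (T : Subgroup H) ≤ L)
    (hL : centralizer ((pCoreOf p L : Subgroup H) : Set H) ≤ pCoreOf p L) {z : H}
    (hz : z ∈ centralizer ((T : Subgroup H) : Set H)) (hzp : z ^ p = 1) :
    z ∈ largestPReducedOf p L := by
  have h1 : zpowers z ≤ largestPReducedOf p L := by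
    have h2 : z ∈ centralizer ((pCoreOf p L : Subgroup H) : Set H) :=
      centralizer_le (pCoreOf_le_sylow T hTL) hz
    refine le_largest_of T hTL ?_ ?_
    · rw [zpowers_le]
      exact ⟨hL h2, h2, hzp⟩
    · intro D _ _ _
      rw [le_centralizer_iff, zpowers_le]
      exact centralizer_le inf_le_left hz
  exact h1 (mem_zpowers z)

theorem largest_ne_bot (T : Sylow p H) {L : Subgroup H} (hTL : (T : Subgroup H) ≤ L)
    (hL : L ∈ charPSubgroups p H) : largestPReducedOf p L ≠ ⊥ := by
  rw [mem_charP] at hL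
  have hT : (T : Subgroup H) ≠ ⊥ := fun h => hL.1 (by
    rw [eq_bot_iff, ← h]
    exact pCoreOf_le_sylow T hTL)
  have : Nontrivial (T : Subgroup H) := (Subgroup.nontrivial_iff_ne_bot _).2 hT
  have h1 : Nontrivial (center (T : Subgroup H)) := T.isPGroup'.center_nontrivial
  have hcp : IsPGroup p (center (T : Subgroup H)) := T.isPGroup'.to_subgroup _
  obtain ⟨n, hn, hcard⟩ := hcp.nontrivial_iff_card.1 h1
  have hdvd : p ∣ Nat.card (center (T : Subgroup H)) := by
    rw [hcard]; exact dvd_pow_self p hn.ne'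
  obtain ⟨x, hx⟩ := exists_prime_orderOf_dvd_card' p hdvd
  intro hbot
  have h2 : ((x : (T : Subgroup H)) : H) ∈ largestPReducedOf p L := by
    refine center_le_largest T hTL hL.2 ?_ ?_
    · intro t ht
      exact congrArg Subtype.val (mem_center_iff.1 x.2 ⟨t, ht⟩)
    · have := pow_orderOf_eq_one x
      rw [hx] at this
      simpa using congrArg (fun y : center (T : Subgroup H) => ((y : (T : Subgroup H)) : H)) this
  rw [hbot, mem_bot] at h2
  have h3 : x = 1 := Subtype.ext (Subtype.ext h2)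
  rw [h3, orderOf_one] at hx
  exact (Fact.out : p.Prime).one_lt.ne hx

end fin

end Cfsg.Agent.H228
end
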